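import Cfsg.Agent.Lib.Signalizer.General.PureLines

/-!
Owner: helper13. Solvable signalizer functors are complete.
-/

set_option autoImplicit false
set_option maxHeartbeats 400000

namespace CfsgLib.Signalizer.Gen

open Subgroup Solv
open scoped commutatorElement

universe u

variable {G : Type u} [Group G] [Finite G] {p : ℕ} [hp : Fact p.Prime] {A : Subgroup G}
  {θ : G → Subgroup G}

local notation "Fam" => Cfsg.signalizerFamily p A θ

/-! ### Restriction to a proper subgroup -/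

theorem local_step (hS : GSetup p A θ) {H : Subgroup G} (hAH : A ≤ H)
    (ih : ∀ (A' : Subgroup H) (θ' : H → Subgroup H), GSetup p A' θ' →
      (piSet A' θ').ncard ≤ (piSet A θ).ncard → Done p A' θ') :
    ∃ W ∈ Fam, ∀ Y ∈ Fam, Y ≤ H → Y ≤ W := by
  let θ' : H → Subgroup H := fun h => (θ (h : G)).subgroupOf H
  set A' := A.subgroupOf H with hA'
  have hA'c : Nat.card A' = Nat.card A := Nat.card_congr (subgroupOfEquivOfLe hAH).toEquiv
  have hne : ∀ w : H, w ≠ 1 → (w : G) ≠ 1 := fun w hw e => hw (Subtype.ext e)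
  have hcard : ∀ a : H, Nat.card (θ' a) ∣ Nat.card (θ (a : G)) := fun a => by
    rw [← card_map_of_injective H.subtype_injective]
    exact card_dvd_of_le (map_comap_le _ _)
  have hθ := hS.functor
  have hS' : GSetup p A' θ' := by
    refine ⟨⟨⟨⟨fun x y => Subtype.ext (Subtype.ext (elementary_comm hS.elem x.2 y.2))⟩⟩,
      fun x hx => Subtype.ext (hS.elem.2 _ hx)⟩, hA'c.trans hS.card, ⟨⟨?_, ?_, ?_, ?_⟩, ?_⟩⟩
    · exact fun b hb hb1 y hy => mem_centralizer_singleton_iff.mpr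
        (Subtype.ext (mem_centralizer_singleton_iff.mp (hθ.1.1 _ hb (hne b hb1) hy)))
    · exact fun b hb hb1 hd => hθ.1.2.1 _ hb (hne b hb1) (hd.trans (hcard b))
    · exact fun b hb hb1 c hc y hy => hθ.1.2.2.1 _ hb (hne b hb1) _ hc _ hy
    · exact fun b hb hb1 c hc hc1 y hy => hθ.1.2.2.2 _ hb (hne b hb1) _ hc (hne c hc1)
        ⟨hy.1, mem_centralizer_singleton_iff.mpr
          (congrArg Subtype.val (mem_centralizer_singleton_iff.mp hy.2))⟩
    · exact fun b hb hb1 => Core.isSolvable_subgroupOf (hθ.2 _ hb (hne b hb1))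
  obtain ⟨W', hW', hWθ⟩ := ih A' θ' hS' (Set.ncard_le_ncard (fun r ⟨hr, a, ha, ha1, hd⟩ =>
    ⟨hr, (a : G), ha, hne a ha1, hd.trans (hcard a)⟩) piSet_finite)
  have hAW : A ≤ normalizer (W'.map H.subtype : Set G) := by
    intro b hb
    refine mem_normalizer_of_forall_le ?_
    rintro _ ⟨u, hu, rfl⟩
    exact ⟨⟨b, hAH hb⟩ * u * ⟨b, hAH hb⟩⁻¹, hW'.2.2.1 ⟨b, hAH hb⟩ hb u hu, rfl⟩
  refine ⟨W'.map H.subtype, ⟨Core.isSolvable_map _ hW'.1, ?_, conj_mem_iff_le_normalizer.mpr hAW, ?_⟩,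
    fun Y hY hYH => ?_⟩
  · rw [card_map_of_injective H.subtype_injective]
    exact hW'.2.1
  · rintro a ha ha1 _ ⟨⟨u, hu, rfl⟩, huc⟩
    exact hW'.2.2.2 ⟨a, hAH ha⟩ ha (fun e => ha1 (congrArg Subtype.val e))
      ⟨hu, mem_centralizer_singleton_iff.mpr (Subtype.ext (mem_centralizer_singleton_iff.mp huc))⟩
  · exact le_of_fixed_le hS.elem (card_A_ge hS) (fam_norm hY) (fam_not_dvd hY) fun a ha ha1 y hy =>
      ⟨⟨y, hYH hy.1⟩, hWθ ⟨a, hAH ha⟩ ha (fun e => ha1 (congrArg Subtype.val e))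
        (fam_fix hY ha ha1 hy), rfl⟩

/-! ### Passage to the quotient by a member -/

theorem quotient_step (hS : GSetup p A θ) {X : Subgroup G} [X.Normal] (hX : X ∈ Fam)
    (ih : ∀ (A' : Subgroup (G ⧸ X)) (θ' : G ⧸ X → Subgroup (G ⧸ X)), GSetup p A' θ' →
      (piSet A' θ').ncard ≤ (piSet A θ).ncard → Done p A' θ') : Done p A θ := by
  classical
  let π := QuotientGroup.mk' X
  have hinj : ∀ b ∈ A, π b = 1 → b = 1 := by
    intro b hb h1
    by_contra hb1
    exact fam_not_dvd hX (elementary_orderOf hS.elem hb hb1 ▸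
      Subgroup.orderOf_dvd_natCard _ ((QuotientGroup.eq_one_iff b).mp h1))
  have hinj' : Set.InjOn π A := fun b hb c hc h =>
    inv_mul_eq_one.mp (hinj _ (mul_mem (inv_mem hb) hc) (by rw [map_mul, map_inv, h, inv_mul_cancel]))
  let θb : G ⧸ X → Subgroup (G ⧸ X) := fun y =>
    ⨆ b : {b : G // b ∈ A ∧ π b = y}, (θ (b : G)).map π
  have hθb : ∀ b ∈ A, θb (π b) = (θ b).map π := by
    intro b hb
    refine le_antisymm (iSup_le fun c => ?_)
      (le_iSup (fun c : {c : G // c ∈ A ∧ π c = π b} => (θ (c : G)).map π) ⟨b, hb, rfl⟩)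
    rw [hinj' c.2.1 hb c.2.2]
  have hθ := hS.functor.1
  have hS' : GSetup p (A.map π) θb := by
    refine ⟨map_isElementary π hS.elem, ?_, ⟨⟨?_, ?_, ?_, ?_⟩, ?_⟩⟩
    · exact ((Nat.card_congr (Equiv.Set.imageOfInjOn π (A : Set G) hinj')).symm).trans hS.card
    · rintro _ ⟨b, hb, rfl⟩ hb1
      rw [hθb b hb]
      rintro _ ⟨y, hy, rfl⟩
      rw [mem_centralizer_singleton_iff, ← map_mul, ← map_mul,
        mem_centralizer_singleton_iff.mp (hθ.1 b hb (fun e => hb1 (by rw [e, map_one])) hy)]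
    · rintro _ ⟨b, hb, rfl⟩ hb1
      rw [hθb b hb]
      exact fun hd => hθ.2.1 b hb (fun e => hb1 (by rw [e, map_one])) (hd.trans ((θ b).card_map_dvd π))
    · rintro _ ⟨b, hb, rfl⟩ hb1 _ ⟨c, hc, rfl⟩ y hy
      rw [hθb b hb] at hy ⊢
      obtain ⟨z, hz, rfl⟩ := hy
      exact ⟨c * z * c⁻¹, hθ.2.2.1 b hb (fun e => hb1 (by rw [e, map_one])) c hc z hz, by simp⟩
    · rintro _ ⟨b, hb, rfl⟩ hb1 _ ⟨c, hc, rfl⟩ hc1
      rw [hθb b hb, hθb c hc]
      have hb1' : b ≠ 1 := fun e => hb1 (by rw [e, map_one])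
      have hc1' : c ≠ 1 := fun e => hc1 (by rw [e, map_one])
      rintro _ ⟨⟨y, hy, rfl⟩, hyc⟩
      have hK : zpowers c ≤ normalizer ((θ b ⊓ X : Subgroup G) : Set G) :=
        (zpowers_le.mpr hc).trans (le_normalizer_inf (theta_le_normalizer hθ hb hb1')
          ((normalizer_eq_top X).symm ▸ le_top))
      obtain ⟨n, hn, hnc⟩ := Core.exists_centralizing_in_coset (A := zpowers c) (N := θ b ⊓ X) hK
        (coprime_card_of_pGroup ((elementary_isPGroup hS.elem).to_le (zpowers_le.mpr hc))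
          (not_dvd_of_le (hθ.2.1 b hb hb1') inf_le_left))
        (Or.inl inferInstance) (k := y) (by
          intro d hd
          refine ⟨(θ b).mul_mem ((θ b).inv_mem hy)
            (hθ.2.2.1 b hb hb1' d (zpowers_le.mpr hc hd) y hy), ?_⟩
          refine (QuotientGroup.eq_one_iff _).mp ?_
          obtain ⟨k, rfl⟩ := mem_zpowers_iff.mp hd
          have hcomm : Commute (π c) (π y) := (mem_centralizer_singleton_iff.mp hyc).symm
          show π (y⁻¹ * (c ^ k * y * (c ^ k)⁻¹)) = 1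
          rw [map_mul, map_mul, map_mul, map_inv, map_inv, map_zpow, (hcomm.zpow_left k).eq,
            mul_inv_cancel_right, inv_mul_cancel])
      refine ⟨y * n, hθ.2.2.2 b hb hb1' c hc hc1' ⟨mul_mem hy hn.1,
        centralizer_le (Set.singleton_subset_iff.mpr (mem_zpowers c)) hnc⟩, ?_⟩
      rw [map_mul, show π n = 1 from (QuotientGroup.eq_one_iff n).mpr hn.2, mul_one]
    · rintro _ ⟨b, hb, rfl⟩ hb1
      rw [hθb b hb]
      exact Core.isSolvable_map π (hS.functor.2 b hb fun e => hb1 (by rw [e, map_one]))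
  have hpi : piSet (A.map π) θb ⊆ piSet A θ := by
    rintro r ⟨hr, _, ⟨b, hb, rfl⟩, hb1, hd⟩
    rw [hθb b hb] at hd
    exact ⟨hr, b, hb, fun e => hb1 (by rw [e, map_one]), hd.trans ((θ b).card_map_dvd π)⟩
  obtain ⟨Wb, hWb, hWθ⟩ := ih _ θb hS' (Set.ncard_le_ncard hpi piSet_finite)
  haveI := hX.1
  haveI := hWb.1
  refine ⟨Wb.comap π, ⟨?_, ?_, ?_, ?_⟩, fun a ha ha1 x hx => ?_⟩
  · let f : Wb.comap π →* Wb := π.subgroupComap Wb
    refine Group.isSolvable_of_ker_le_range (Subgroup.inclusion (show X ≤ Wb.comap π from ?_)) f ?_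
    · intro x hx
      show π x ∈ Wb
      rw [show π x = 1 from (QuotientGroup.eq_one_iff x).mpr hx]
      exact one_mem _
    · intro x hx
      exact ⟨⟨(x : G), (QuotientGroup.eq_one_iff _).mp (congrArg Subtype.val hx)⟩, rfl⟩
  · intro hd
    rw [Core.card_comap_mk'] at hd
    exact (hp.out.dvd_mul.mp hd).elim (fam_not_dvd hX) hWb.2.1
  · intro b hb u hu
    show π (b * u * b⁻¹) ∈ Wb
    rw [map_mul, map_mul, map_inv]
    exact hWb.2.2.1 (π b) (mem_map_of_mem π hb) _ hu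
  · rintro a ha ha1 x ⟨hxW, hxc⟩
    have hc : π x ∈ Wb ⊓ centralizer ({π a} : Set (G ⧸ X)) := ⟨hxW, mem_centralizer_singleton_iff.mpr
      (by rw [← map_mul, ← map_mul, mem_centralizer_singleton_iff.mp hxc])⟩
    have hm := hWb.2.2.2 (π a) (mem_map_of_mem π ha) (fun e => ha1 (hinj a ha e)) hc
    rw [hθb a ha] at hm
    obtain ⟨l, hl, hlx⟩ := hm
    have hv : l⁻¹ * x ∈ θ a := fam_fix hX ha ha1 ⟨QuotientGroup.eq.mp hlx,
      (centralizer ({a} : Set G)).mul_mem ((centralizer ({a} : Set G)).inv_mem (hθ.1 a ha ha1 hl)) hxc⟩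
    simpa using (θ a).mul_mem hl hv
  · refine hWθ (π a) (mem_map_of_mem π ha) (fun e => ha1 (hinj a ha e)) ?_
    rw [hθb a ha]
    exact mem_map_of_mem π hx

/-! ### Omitting a prime -/

/-- An invariant Hall subgroup of a member contains its invariant subgroups for the primes, which
the fixed part normalizes. -/
theorem le_invariant_hall (hS : GSetup p A θ) {L H Y : Subgroup G} {π : Set ℕ} (hL : L ∈ Fam)
    (hHL : H ≤ L) (hHA : A ≤ normalizer (H : Set G))
    (hHi : ∀ s : ℕ, s.Prime → s ∈ π → ¬ s ∣ H.relIndex L) (hY : Y ∈ Fam) (hYL : Y ≤ L)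
    (hYπ : Cfsg.IsPiSubgroup π Y) (hYC : Cfsg.signalizerInf A θ ≤ normalizer (Y : Set G)) :
    Y ≤ H := by
  suffices hd : Nat.card Y ∣ Nat.card ↥(Y ⊓ H) from
    (eq_of_le_of_card_ge inf_le_left (Nat.le_of_dvd Nat.card_pos hd)).ge.trans inf_le_right
  refine (Nat.factorization_prime_le_iff_dvd Nat.card_pos.ne' Nat.card_pos.ne').mp fun s hs => ?_
  by_cases hsd : s ∣ Nat.card Y
  swap
  · rw [Nat.factorization_eq_zero_of_not_dvd hsd]; exact Nat.zero_le _
  haveI := Fact.mk hs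
  have hsπ := hYπ s hs hsd
  haveI := hL.1
  have hHf : H ∈ Fam := family_of_le hL hHL hHA
  obtain ⟨S, hSA⟩ := Core.exists_invariant_sylow (fam_norm hY)
    (coprime_card_of_pGroup (elementary_isPGroup hS.elem) (fam_not_dvd hY)) (Or.inr hY.1) s
  obtain ⟨P, hPA⟩ := Core.exists_invariant_sylow (fam_norm hHf)
    (coprime_card_of_pGroup (elementary_isPGroup hS.elem) (fam_not_dvd hHf)) (Or.inr hHf.1) s
  set SG := (S : Subgroup Y).map Y.subtype with hSG
  set PG := (P : Subgroup H).map H.subtype with hPG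
  have hPL : PG ≤ L := (map_subtype_le _).trans hHL
  have hri : H.relIndex L ≠ 0 := (index_ne_zero_of_finite : (H.subgroupOf L).index ≠ 0)
  have hfac : (Nat.card H).factorization s = (Nat.card L).factorization s := by
    rw [← relIndex_bot_left L, ← relIndex_mul_relIndex _ _ _ bot_le hHL, relIndex_bot_left,
      Nat.factorization_mul Nat.card_pos.ne' hri, Finsupp.add_apply,
      Nat.factorization_eq_zero_of_not_dvd (hHi s hs hsπ), add_zero]
  let P' : Sylow s L := Sylow.ofCard (PG.subgroupOf L) (by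
    rw [Nat.card_congr (subgroupOfEquivOfLe hPL).toEquiv, hPG,
      card_map_of_injective H.subtype_injective, P.card_eq_multiplicity, hfac])
  have hP' : (P' : Subgroup L).map L.subtype = PG := by
    rw [Sylow.coe_ofCard, map_subgroupOf_eq_of_le hPL]
  obtain ⟨R, hSR, hRA⟩ := Core.exists_invariant_sylow_ge (fam_norm hL)
    (coprime_card_of_pGroup (elementary_isPGroup hS.elem) (fam_not_dvd hL)) (Or.inr hL.1)
    ((map_subtype_le _).trans hYL : SG ≤ L) (S.isPGroup'.map _) hSA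
  obtain ⟨c, hcA, hc⟩ := Core.invariant_sylow_conj (fam_norm hL)
    (coprime_card_of_pGroup (elementary_isPGroup hS.elem) (fam_not_dvd hL)) (Or.inr hL.1) R P' hRA
    (hP'.symm ▸ hPA)
  have hcC : (c : G) ∈ Cfsg.signalizerInf A θ :=
    ((family_inf_centralizer_eq hS.functor.1 hL le_rfl).le ⟨c.2, hcA⟩).2
  have hle : SG.map (MulAut.conj (c : G)).toMonoidHom ≤ Y ⊓ H := by
    rintro _ ⟨x, hx, rfl⟩
    refine ⟨(mem_normalizer_iff.mp (hYC hcC) x).mp (map_subtype_le _ hx), ?_⟩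
    have hcx : (c : G) * x * (c : G)⁻¹ ∈ (P' : Subgroup L).map L.subtype := by
      obtain ⟨u, hu, rfl⟩ := hSR hx
      refine ⟨c * u * c⁻¹, ?_, rfl⟩
      rw [← hc]
      show c * u * c⁻¹ ∈ ((c • R : Sylow s L) : Subgroup L)
      rw [CfsgLib.Transfer.mem_sylow_smul]
      simp only [mul_assoc, inv_mul_cancel, mul_one, inv_mul_cancel_left]
      exact hu
    exact map_subtype_le _ (hP'.le hcx)
  have hd := card_dvd_of_le hle
  rw [CfsgLib.Transfer.card_map_conj, hSG, card_map_of_injective Y.subtype_injective,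
    S.card_eq_multiplicity] at hd
  exact (hs.pow_dvd_iff_le_factorization Nat.card_pos.ne').mp hd

theorem prime_step (hS : GSetup p A θ) {π : Set ℕ} {r : ℕ} (hr : InPi A θ r) (hrπ : r ∉ π)
    (ih : ∀ θ' : G → Subgroup G, GSetup p A θ' →
      (piSet A θ').ncard < (piSet A θ).ncard → Done p A θ') :
    ∃ W ∈ Fam, ∀ Y ∈ Fam, Cfsg.IsPiSubgroup π Y →
      Cfsg.signalizerInf A θ ≤ normalizer (Y : Set G) → Y ≤ W := by
  let θ' : G → Subgroup G := fun a => ⨆ Y : {Y : Subgroup G // Y ∈ Fam ∧ Cfsg.IsPiSubgroup π Y ∧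
    Cfsg.signalizerInf A θ ≤ normalizer (Y : Set G) ∧ Y ≤ θ a}, (Y : Subgroup G)
  have hle : ∀ a, θ' a ≤ θ a := fun a => iSup_le fun Y => Y.2.2.2.2
  have hmem : ∀ {a : G} {Y : Subgroup G}, Y ∈ Fam → Cfsg.IsPiSubgroup π Y →
      Cfsg.signalizerInf A θ ≤ normalizer (Y : Set G) → Y ≤ θ a → Y ≤ θ' a :=
    fun {a Y} h1 h2 h3 h4 => le_iSup (fun Z : {Z : Subgroup G // Z ∈ Fam ∧
      Cfsg.IsPiSubgroup π Z ∧ Cfsg.signalizerInf A θ ≤ normalizer (Z : Set G) ∧ Z ≤ θ a} =>
      (Z : Subgroup G)) ⟨Y, h1, h2, h3, h4⟩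
  have hnorm : ∀ (a : G) {g : G}, (∀ Y : Subgroup G, Y ∈ Fam →
      Cfsg.signalizerInf A θ ≤ normalizer (Y : Set G) → g ∈ normalizer (Y : Set G)) →
      g ∈ normalizer (θ' a : Set G) := by
    intro a g hg
    refine mem_normalizer_of_forall_le fun x hx => ?_
    have h : θ' a ≤ (θ' a).comap (MulAut.conj g).toMonoidHom := iSup_le fun Y y hy =>
      hmem Y.2.1 Y.2.2.1 Y.2.2.2.1 Y.2.2.2.2
        ((mem_normalizer_iff.mp (hg Y Y.2.1 Y.2.2.2.1) y).mp hy)
    exact h hx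
  have hpi : ∀ a ∈ A, a ≠ 1 → Cfsg.IsPiSubgroup π (θ' a) := by
    intro a ha ha1
    have hL := theta_mem_family hS.functor ha ha1
    haveI := hL.1
    obtain ⟨H, hHL, hHA, hHπ, hHi⟩ := exists_invariant_hall (fam_norm hL)
      (coprime_card_of_pGroup (elementary_isPGroup hS.elem) (fam_not_dvd hL)) π
    have hH : θ' a ≤ H := iSup_le fun Y =>
      le_invariant_hall hS hL hHL hHA hHi Y.2.1 Y.2.2.2.2 Y.2.2.1 Y.2.2.2.1
    exact fun s hs hd => hHπ s hs (hd.trans (card_dvd_of_le hH))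
  have hA' : ∀ a, A ≤ normalizer (θ' a : Set G) := fun a g hg => hnorm a fun Y hY _ => fam_norm hY hg
  have hC' : ∀ a, Cfsg.signalizerInf A θ ≤ normalizer (θ' a : Set G) :=
    fun a g hg => hnorm a fun Y _ h => h hg
  have hθ := hS.functor
  have hS' : GSetup p A θ' := by
    refine ⟨hS.elem, hS.card, ⟨⟨?_, ?_, ?_, ?_⟩, ?_⟩⟩
    · exact fun a ha ha1 => (hle a).trans (hθ.1.1 a ha ha1)
    · exact fun a ha ha1 => not_dvd_of_le (hθ.1.2.1 a ha ha1) (hle a)
    · exact fun a _ _ => conj_mem_iff_le_normalizer.mpr (hA' a)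
    · intro a ha ha1 b hb hb1
      have hAb : A ≤ normalizer (centralizer ({b} : Set G) : Set G) :=
        le_normalizer_centralizer_of_le hS.elem (Set.singleton_subset_iff.mpr hb)
      refine hmem (family_of_le (theta_mem_family hθ ha ha1) (inf_le_left.trans (hle a))
        (le_normalizer_inf (hA' a) hAb))
        (fun s hs hd => hpi a ha ha1 s hs (hd.trans (card_dvd_of_le inf_le_left))) ?_
        ((inf_le_inf_right _ (hle a)).trans (hθ.1.2.2.2 a ha ha1 b hb hb1))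
      refine (le_inf (hC' a) ?_).trans inf_normalizer_le_normalizer_inf
      exact ((inf_le_theta hb hb1).trans (hθ.1.1 b hb hb1)).trans le_normalizer
    · exact fun a ha ha1 => Core.isSolvable_of_le (hθ.2 a ha ha1) (hle a)
  have hlt : (piSet A θ').ncard < (piSet A θ).ncard := by
    refine Set.ncard_lt_ncard ⟨fun s ⟨hs, a, ha, ha1, hd⟩ =>
      ⟨hs, a, ha, ha1, hd.trans (card_dvd_of_le (hle a))⟩, fun hsub => ?_⟩ piSet_finite
    obtain ⟨-, a, ha, ha1, hd⟩ := hsub hr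
    exact hrπ (hpi a ha ha1 r hr.1 hd)
  obtain ⟨W, hW, hWθ⟩ := ih θ' hS' hlt
  refine ⟨W, ⟨hW.1, hW.2.1, hW.2.2.1, fun a ha ha1 => (hW.2.2.2 a ha ha1).trans (hle a)⟩,
    fun Y hY hYπ hYC => le_of_fixed_le hS.elem (card_A_ge hS) (fam_norm hY) (fam_not_dvd hY)
      fun a ha ha1 => (hmem ?_ ?_ ?_ (fam_fix hY ha ha1)).trans (hWθ a ha ha1)⟩
  · exact mem_inf hY (le_normalizer_centralizer_of_le hS.elem (Set.singleton_subset_iff.mpr ha))
  · exact fun s hs hd => hYπ s hs (hd.trans (card_dvd_of_le inf_le_left))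
  · exact (le_inf hYC (((inf_le_theta ha ha1).trans (hθ.1.1 a ha ha1)).trans le_normalizer)).trans
      inf_normalizer_le_normalizer_inf

/-! ### The induction -/

theorem setup_done : ∀ (N n : ℕ) (G : Type u) [Group G] [Finite G] (p : ℕ) [Fact p.Prime]
    (A : Subgroup G) (θ : G → Subgroup G), GSetup p A θ → (piSet A θ).ncard ≤ N → Nat.card G ≤ n →
    Done p A θ := by
  intro N
  induction N using Nat.strong_induction_on with
  | _ N ihN =>
    intro n
    induction n using Nat.strong_induction_on with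
    | _ n ihn =>
      intro G _ _ p _ A θ hS hN hn
      by_contra hnd
      refine not_ghyp (p := p) (A := A) (θ := θ) ⟨hS, fun X hX hX1 => ?_, fun π r hr hrπ => ?_, hnd⟩
      · by_cases hnorm : normalizer (X : Set G) = ⊤
        · haveI : X.Normal := normalizer_eq_top_iff.mp hnorm
          refine absurd (quotient_step hS hX fun A' θ' hS' hle => ?_) hnd
          refine ihn (Nat.card (G ⧸ X)) (lt_of_lt_of_le ?_ hn) (G ⧸ X) p A' θ' hS' (hle.trans hN) le_rfl
          rw [X.card_eq_card_quotient_mul_card_subgroup]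
          exact lt_mul_of_one_lt_right Nat.card_pos ((one_lt_card_iff_ne_bot X).mpr hX1)
        · exact local_step hS (fam_norm hX) fun A' θ' hS' hle =>
            ihn (Nat.card (normalizer (X : Set G))) (lt_of_lt_of_le
              (lt_of_le_of_ne (card_le_card_group _) fun e => hnorm (eq_top_of_card_eq _ e)) hn)
              _ p A' θ' hS' (hle.trans hN) le_rfl
      · exact prime_step hS hr hrπ fun θ' hS' hlt =>
          ihN _ (lt_of_lt_of_le hlt hN) (Nat.card G) G p A θ' hS' le_rfl le_rfl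

/-- **Solvable signalizer functors are complete.** -/
theorem done_general {G : Type u} [Group G] [Finite G] {p : ℕ} [hp : Fact p.Prime] {A : Subgroup G}
    {θ : G → Subgroup G} (hA : Cfsg.IsElementaryAbelian p A) (hA3 : p ^ 3 ≤ Nat.card A)
    (hθ : Cfsg.IsSolvableSignalizerFunctor p A θ) : Done p A θ := by
  obtain ⟨k, hk⟩ := (elementary_isPGroup hA).exists_card_eq
  have hk3 : 3 ≤ k := (Nat.pow_le_pow_iff_right hp.out.one_lt).mp (hk ▸ hA3)
  obtain ⟨B, hB⟩ := Sylow.exists_subgroup_card_pow_prime (G := A) p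
    (hk ▸ pow_dvd_pow p hk3 : p ^ 3 ∣ Nat.card A)
  set A₀ := B.map A.subtype with hA₀
  have hA₀A : A₀ ≤ A := map_subtype_le _
  have hA₀c : Nat.card A₀ = p ^ 3 := (card_map_of_injective A.subtype_injective).trans hB
  have hA₀e := elementary_of_le hA hA₀A
  have hS : GSetup p A₀ θ := ⟨hA₀e, hA₀c, ⟨⟨fun a ha => hθ.1.1 a (hA₀A ha),
    fun a ha => hθ.1.2.1 a (hA₀A ha), fun a ha ha1 b hb => hθ.1.2.2.1 a (hA₀A ha) ha1 b (hA₀A hb),
    fun a ha ha1 b hb => hθ.1.2.2.2 a (hA₀A ha) ha1 b (hA₀A hb)⟩,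
    fun a ha => hθ.2 a (hA₀A ha)⟩⟩
  obtain ⟨W, hW, hWθ⟩ := setup_done _ _ G p A₀ θ hS le_rfl le_rfl
  have hA2 : p ^ 2 ≤ Nat.card A₀ := card_A_ge hS
  set U := Cfsg.signalizerClosure A₀ θ with hU
  have hUW : U = W := le_antisymm (closure_le_iff.mpr hWθ)
    (le_of_fixed_le hA₀e hA2 (fam_norm hW) (fam_not_dvd hW) fun a ha ha1 =>
      (fam_fix hW ha ha1).trans (le_closure ha ha1))
  have hAW : A ≤ normalizer (W : Set G) := by
    rw [← hUW]
    intro b hb
    refine mem_normalizer_of_forall_le fun x hx => ?_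
    have h : U ≤ U.comap (MulAut.conj b).toMonoidHom := closure_le_iff.mpr fun a ha ha1 y hy =>
      le_closure ha ha1 (hθ.1.2.2.1 a (hA₀A ha) ha1 b hb y hy)
    exact h hx
  have hAc : ∀ b ∈ A, A₀ ≤ normalizer (centralizer ({b} : Set G) : Set G) := fun b hb =>
    hA₀A.trans (le_normalizer_centralizer_of_le hA (Set.singleton_subset_iff.mpr hb))
  refine ⟨W, ⟨hW.1, hW.2.1, conj_mem_iff_le_normalizer.mpr hAW, fun b hb hb1 => ?_⟩,
    fun b hb hb1 => ?_⟩
  · exact le_of_fixed_le hA₀e hA2 (le_normalizer_inf (fam_norm hW) (hAc b hb))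
      (not_dvd_of_le (fam_not_dvd hW) inf_le_left) fun a ha ha1 x hx =>
        hθ.1.2.2.2 a (hA₀A ha) ha1 b hb hb1 ⟨hW.2.2.2 a ha ha1 ⟨hx.1.1, hx.2⟩, hx.1.2⟩
  · exact le_of_fixed_le hA₀e hA2 (hA₀A.trans (theta_le_normalizer hθ.1 hb hb1))
      (hθ.1.2.1 b hb hb1) fun a ha ha1 =>
        (hθ.1.2.2.2 b hb hb1 a (hA₀A ha) ha1).trans (hWθ a ha ha1)

end CfsgLib.Signalizer.Gen
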