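import Cfsg.Agent.Lib.Signalizer.General.Main

/-!
Owner: helper13. Solvability from the centralizers of a rank three group of operators.
-/

set_option autoImplicit false

namespace CfsgLib.Signalizer.Gen

open Subgroup Solv

variable {G : Type*} [Group G] [Finite G] {p : ℕ} [hp : Fact p.Prime] {A K : Subgroup G}

/-- A `p'`-group with solvable centralizers of the points of an elementary group of order at least
`p ^ 3` of operators is solvable. -/
theorem solvable_of_centralizers (hA : Cfsg.IsElementaryAbelian p A) (hA3 : p ^ 3 ≤ Nat.card A)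
    (hK : ¬ p ∣ Nat.card K) (hAK : A ≤ normalizer (K : Set G))
    (hC : ∀ a ∈ A, a ≠ 1 → Group.IsSolvable ↥(K ⊓ centralizer ({a} : Set G))) :
    Group.IsSolvable K := by
  have hθ : Cfsg.IsSolvableSignalizerFunctor p A fun a => K ⊓ centralizer ({a} : Set G) :=
    ⟨⟨fun a _ _ => inf_le_right, fun a _ _ => not_dvd_of_le hK inf_le_left,
      fun a ha _ => conj_mem_iff_le_normalizer.mpr
        (le_normalizer_inf hAK (le_normalizer_centralizer_of_le hA (Set.singleton_subset_iff.mpr ha))),
      fun a _ _ b _ _ x hx => ⟨hx.1.1, hx.2⟩⟩, hC⟩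
  obtain ⟨W, hW, hWθ⟩ := done_general hA hA3 hθ
  exact Core.isSolvable_of_le hW.1
    (le_of_fixed_le hA ((Nat.pow_le_pow_right hp.out.pos (by norm_num)).trans hA3) hAK hK hWθ)

end CfsgLib.Signalizer.Gen
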