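import Cfsg.Agent.Lib.Signalizer.Solvable.Flavell

/-!
Owner: helper13. A fixed-point argument for commutative operands: no exceptional prime.
-/

set_option autoImplicit false

namespace CfsgLib.Signalizer.Gen

open Subgroup Solv
open scoped commutatorElement

universe u

variable {G : Type u} [Group G] [Finite G] {p q t : ℕ} [hp : Fact p.Prime] [hq : Fact q.Prime]
  [ht : Fact t.Prime]

omit ht in
theorem comm_centralizes_comm_aux {V P : Subgroup G} {a : G}
    (hVc : IsMulCommutative V) (hV : ¬ p ∣ Nat.card V) (hqV : ¬ q ∣ Nat.card V)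
    (hP : IsPGroup q P) (hqp : q ≠ p) (hap : a ^ p = 1) (hPV : P ≤ normalizer (V : Set G))
    (haV : a ∈ normalizer (V : Set G)) (haP : a ∈ normalizer (P : Set G))
    (hPc : IsMulCommutative P)
    (hfix : V ⊓ centralizer ({a} : Set G) ≤ centralizer (P : Set G)) :
    ⁅P, zpowers a⁆ ≤ centralizer (V : Set G) := by
  haveI := hVc
  haveI := hP.isNilpotent
  have hsolv : Group.IsSolvable P := inferInstance
  have hcop : (Nat.card P).Coprime (Nat.card V) := coprime_pgroup hP hqV
  have hPcop : (Nat.card P).Coprime p := coprime_pgroup hP fun hd =>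
    hqp ((Nat.prime_dvd_prime_iff_eq hq.out hp.out).mp hd)
  set W := ⁅V, P⁆ with hW
  set Z := V ⊓ centralizer (P : Set G) with hZ
  have hWV : W ≤ V := Core.commutator_le_of_normalizes hPV
  have hdec : W ⊔ Z = V := Core.commutator_sup_centralizer hPV hcop (Or.inl hsolv)
  have hd : Z ⊓ W = ⊥ := Core.abelian_inf_eq_bot hPV hcop
  have hPW : P ≤ normalizer (W : Set G) := normalizer_commutator_ge_right V P
  have haW : a ∈ normalizer (W : Set G) := by
    refine mem_normalizer_of_forall_le fun x hx => ?_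
    have hm : W.map (MulAut.conj a).toMonoidHom = W := by
      rw [hW, map_commutator, LocalEvenB.map_conj_eq_self_iff_mem_normalizer.mpr haV,
        LocalEvenB.map_conj_eq_self_iff_mem_normalizer.mpr haP]
    exact hm ▸ mem_map_of_mem (MulAut.conj a).toMonoidHom hx
  suffices hYW : ⁅P, zpowers a⁆ ≤ centralizer (W : Set G) by
    rw [← hdec, LocalEvenB.centralizer_sup]
    exact le_inf hYW ((Solv.comm_le_self haP).trans
      (le_centralizer_iff.mp inf_le_right))
  haveI : IsMulCommutative W := ⟨⟨fun x y => Subtype.ext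
    (congrArg (fun z : V => (z : G)) (hVc.is_comm.comm ⟨x, hWV x.2⟩ ⟨y, hWV y.2⟩))⟩⟩
  let _ : CommGroup W := { (inferInstance : Group W) with mul_comm := fun x y => mul_comm' x y }
  let φ : normalizer (W : Set G) →* MulAut W := W.normalizerMonoidHom
  let R : Subgroup (MulAut W) := (P.subgroupOf (normalizer (W : Set G))).map φ
  let σ : MulAut W := φ ⟨a, haW⟩
  have hσ : σ ∈ normalizer (R : Set (MulAut W)) := by
    refine le_normalizer_map φ ⟨⟨a, haW⟩, ?_, rfl⟩
    rw [← subgroupOf_normalizer_eq hPW]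
    exact haP
  let θ : MulAut R := R.normalizerMonoidHom ⟨σ, hσ⟩
  have hσp : σ ^ p = 1 := by
    rw [← map_pow, show (⟨a, haW⟩ : normalizer (W : Set G)) ^ p = 1 from Subtype.ext hap, map_one]
  have hθp : θ ^ p = 1 := by
    rw [← map_pow, show (⟨σ, hσ⟩ : normalizer (R : Set (MulAut W))) ^ p = 1 from Subtype.ext hσp,
      map_one]
  have hRq : IsPGroup q R := hP.comap_subtype.map φ
  have hM : Nat.card (Additive W) = Nat.card W := rfl
  have key := Core.HH.fixed_of_abelian (q := p) (Y := R) (M := Additive W)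
    ((toEnd W).comp R.subtype) θ (toEnd W σ) hθp (by rw [← map_pow, hσp, map_one]) ?_ ?_
    (⊤ : Subgroup R) (fun _ _ => mem_top _) ?_ ?_ ?_ ?_
  · -- the translation
    refine commutator_le.mpr fun x hx b hb => mem_centralizer_iff.mpr fun w hw => ?_
    obtain ⟨j, rfl⟩ := mem_zpowers_iff.mp hb
    let X : normalizer (W : Set G) := ⟨x, hPW hx⟩
    let A : normalizer (W : Set G) := ⟨a, haW⟩
    have hc : φ A * φ X * (φ A)⁻¹ = φ X :=
      congrArg Subtype.val (key ⟨φ X, ⟨X, hx, rfl⟩⟩ (mem_top _))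
    have hc' : Commute (φ A) (φ X) := by
      rw [mul_inv_eq_iff_eq_mul] at hc
      exact hc
    have h1 : φ ⁅X, A ^ j⁆ = 1 := by
      rw [map_commutatorElement, commutatorElement_eq_one_iff_mul_comm, map_zpow]
      exact ((hc'.zpow_left j).eq).symm
    have h2 := congrArg (fun e : MulAut W => (e ⟨w, hw⟩ : G)) h1
    change ⁅x, a ^ j⁆ * w * ⁅x, a ^ j⁆⁻¹ = w at h2
    rw [mul_inv_eq_iff_eq_mul] at h2
    exact h2.symm
  · intro y m
    show Additive.ofMul (σ ((y : MulAut W) (Additive.toMul m))) =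
      Additive.ofMul ((σ * (y : MulAut W) * σ⁻¹) (σ (Additive.toMul m)))
    simp
  · intro m hm
    have hw : (Additive.toMul m : W) = 1 := by
      set w : W := Additive.toMul m
      have h1 : σ w = w := congrArg Additive.toMul hm
      have h2 : a * (w : G) * a⁻¹ = w := congrArg (fun z : W => (z : G)) h1
      have hwC : (w : G) ∈ centralizer ({a} : Set G) := by
        rw [mem_centralizer_singleton_iff]
        rw [mul_inv_eq_iff_eq_mul] at h2
        exact h2.symm
      exact Subtype.ext (mem_bot.mp (hd.le ⟨⟨hWV w.2, hfix ⟨hWV w.2, hwC⟩⟩, w.2⟩))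
    exact congrArg Additive.ofMul hw
  · intro x _ y _
    obtain ⟨⟨_, ⟨u, hu, rfl⟩⟩, ⟨_, ⟨v, hv, rfl⟩⟩⟩ := x, y
    refine Subtype.ext ?_
    show φ u * φ v = φ v * φ u
    rw [← map_mul, ← map_mul]
    exact congrArg φ (Subtype.ext (congrArg (fun z : P => (z : G))
      (hPc.is_comm.comm ⟨(u : G), hu⟩ ⟨(v : G), hv⟩)))
  · rw [card_top]
    exact coprime_pgroup hRq fun hd => hqp ((Nat.prime_dvd_prime_iff_eq hq.out hp.out).mp hd)
  · rw [card_top, hM]
    exact (coprime_pgroup hRq fun hd => hqV (hd.trans (card_dvd_of_le hWV))).symm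
  · intro y _ hy
    refine Subtype.ext (MulEquiv.ext fun w => ?_)
    exact congrArg Additive.toMul (hy (Additive.ofMul w))

theorem comm_centralizes_comm (hqp : q ≠ p) (hqt : q ≠ t) : ∀ (n : ℕ) {G : Type u}
    [Group G] [Finite G] {V P : Subgroup G} {a : G}, Nat.card V = n → IsPGroup t V →
    ¬ p ∣ Nat.card V → IsPGroup q P → IsMulCommutative P → a ^ p = 1 → P ≤ normalizer (V : Set G) →
    a ∈ normalizer (V : Set G) → a ∈ normalizer (P : Set G) →
    V ⊓ centralizer ({a} : Set G) ≤ centralizer (P : Set G) →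
    ⁅P, zpowers a⁆ ≤ centralizer (V : Set G) := by
  intro n
  induction n using Nat.strong_induction_on with
  | _ n ih =>
    intro G _ _ V P a hn hVt hV hP hPc hap hPV haV haP hfix
    haveI := hVt.isNilpotent
    have hqV : ¬ q ∣ Nat.card V := fun hd => by
      obtain ⟨k, hk⟩ := hVt.exists_card_eq
      rw [hk] at hd
      exact hqt ((Nat.prime_dvd_prime_iff_eq hq.out ht.out).mp (hq.out.dvd_of_dvd_pow hd))
    by_cases hVb : V = ⊥
    · rw [hVb]
      exact fun x _ => mem_centralizer_iff.mpr fun y hy => by rw [mem_bot.mp hy, one_mul, mul_one]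
    by_cases hab : ⁅V, V⁆ = ⊥
    · exact comm_centralizes_comm_aux
        (le_centralizer_iff_isMulCommutative.mp (commutator_eq_bot_iff_le_centralizer.mp hab))
        hV hqV hP hqp hap hPV haV haP hPc hfix
    set D := ⁅V, V⁆ with hD
    have hDlt : D < V := Core.commutator_self_lt inferInstance hVb
    have hnorm : ∀ {g : G}, g ∈ normalizer (V : Set G) → g ∈ normalizer (D : Set G) := fun {g} hg =>
      mem_normalizer_of_forall_le fun x hx => by
        have hm : D.map (MulAut.conj g).toMonoidHom = D := by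
          rw [hD, map_commutator, LocalEvenB.map_conj_eq_self_iff_mem_normalizer.mpr hg]
        exact hm ▸ mem_map_of_mem (MulAut.conj g).toMonoidHom hx
    have hcardlt : ∀ {W : Subgroup G}, W < V → Nat.card W < n := fun hW =>
      hn ▸ Set.Finite.card_lt_card (Set.toFinite _) (SetLike.coe_ssubset_coe.2 hW)
    have hYD := ih _ (hcardlt hDlt) (V := D) (P := P) rfl (hVt.to_le hDlt.le)
      (not_dvd_of_le hV hDlt.le) hP hPc hap (fun x hx => hnorm (hPV hx)) (hnorm haV) haP
      ((inf_le_inf_right _ hDlt.le).trans hfix)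
    -- the quotient by `D`
    set N := normalizer (D : Set G)
    haveI : (D.subgroupOf N).Normal := normal_in_normalizer
    let π := QuotientGroup.mk' (D.subgroupOf N)
    have hVN : V ≤ N := fun v hv => hnorm (le_normalizer hv)
    have hPN : P ≤ N := fun v hv => hnorm (hPV hv)
    have haN : a ∈ N := hnorm haV
    set Vb := (V.subgroupOf N).map π with hVbd
    set Pb := (P.subgroupOf N).map π with hPbd
    have hVbt : IsPGroup t Vb := hVt.comap_subtype.map π
    have hVdvd : Nat.card Vb ∣ Nat.card V :=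
      ((V.subgroupOf N).card_map_dvd π).trans (Nat.card_congr (subgroupOfEquivOfLe hVN).toEquiv).dvd
    have hlt : Nat.card Vb < n := by
      refine lt_of_le_of_ne (hn ▸ Nat.le_of_dvd Nat.card_pos hVdvd) fun he => ?_
      refine hab ((eq_bot_iff_forall _).mpr fun d hd => ?_)
      have hbij := (Nat.bijective_iff_surjective_and_card (f := π.subgroupMap (V.subgroupOf N))).mpr
        ⟨π.subgroupMap_surjective _, by
          rw [Nat.card_congr (subgroupOfEquivOfLe hVN).toEquiv, hn]; exact he.symm⟩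
      exact congrArg (fun z : V.subgroupOf N => ((z : N) : G)) (hbij.1
        (a₁ := ⟨⟨d, hVN (hDlt.le hd)⟩, hDlt.le hd⟩) (a₂ := 1)
        (Subtype.ext ((QuotientGroup.eq_one_iff _).mpr hd)))
    have hπn : ∀ {X : Subgroup G} {g : G} (hg : g ∈ N), X ≤ N → g ∈ normalizer (X : Set G) →
        π ⟨g, hg⟩ ∈ normalizer ((X.subgroupOf N).map π : Set (N ⧸ D.subgroupOf N)) := by
      intro X g hg hX hgX
      refine le_normalizer_map π ⟨⟨g, hg⟩, ?_, rfl⟩
      rw [← subgroupOf_normalizer_eq hX]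
      exact hgX
    have hYb := ih _ hlt (V := Vb) (P := Pb) (a := π ⟨a, haN⟩) rfl hVbt
      (fun hd => hV (hd.trans hVdvd)) (hP.comap_subtype.map π) ⟨⟨by
        rintro ⟨_, u, hu, rfl⟩ ⟨_, v, hv, rfl⟩
        refine Subtype.ext ?_
        show π u * π v = π v * π u
        rw [← map_mul, ← map_mul]
        exact congrArg π (Subtype.ext (congrArg (fun z : P => (z : G))
          (hPc.is_comm.comm ⟨(u : G), hu⟩ ⟨(v : G), hv⟩)))⟩⟩
      (by rw [← map_pow, show (⟨a, haN⟩ : N) ^ p = 1 from Subtype.ext hap, map_one])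
      (by rintro _ ⟨g, hg, rfl⟩; exact hπn g.2 hVN (hPV hg)) (hπn haN hVN haV) (hπn haN hPN haP)
      (by
        rintro _ ⟨⟨v, hv, rfl⟩, hvc⟩
        have hk : (v : G)⁻¹ * (a * v * a⁻¹) ∈ D := by
          refine (QuotientGroup.eq_one_iff (N := D.subgroupOf N)
            (v⁻¹ * (⟨a, haN⟩ * v * ⟨a, haN⟩⁻¹))).mp ?_
          show π _ = 1
          rw [map_mul, map_mul, map_mul, map_inv, map_inv,
            ← mem_centralizer_singleton_iff.mp hvc, mul_inv_cancel_right, inv_mul_cancel]
        obtain ⟨d, hd, hc⟩ := exists_fixed_lift (p := p) hap haN (not_dvd_of_le hV hDlt.le) v.2 hk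
        have hm := hfix ⟨mul_mem hv (hDlt.le hd), hc⟩
        rw [mem_centralizer_iff]
        rintro _ ⟨x, hx, rfl⟩
        have h := congrArg π (Subtype.ext (a1 := x * (v * ⟨d, hVN (hDlt.le hd)⟩))
          (a2 := v * ⟨d, hVN (hDlt.le hd)⟩ * x) (mem_centralizer_iff.mp hm x hx))
        have hd1 : π ⟨d, hVN (hDlt.le hd)⟩ = 1 := (QuotientGroup.eq_one_iff _).mpr hd
        simp only [map_mul, hd1, mul_one] at h
        exact h)
    intro y hy
    refine mem_centralizer_iff.mpr fun v hv => ?_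
    have hyP : y ∈ P := comm_le_self haP hy
    have hyb : π ⟨y, hPN hyP⟩ ∈ ⁅Pb, zpowers (π ⟨a, haN⟩)⁆ := by
      have hle : ⁅P.subgroupOf N, zpowers (⟨a, haN⟩ : N)⁆.map π ≤ ⁅Pb, zpowers (π ⟨a, haN⟩)⁆ := by
        rw [map_commutator, MonoidHom.map_zpowers]
      refine hle ⟨⟨y, hPN hyP⟩, ?_, rfl⟩
      have he : ⁅P.subgroupOf N, zpowers (⟨a, haN⟩ : N)⁆.map N.subtype = ⁅P, zpowers a⁆ := by
        rw [map_commutator, map_subgroupOf_eq_of_le hPN, MonoidHom.map_zpowers]
        rfl
      obtain ⟨z, hz, hze⟩ := he.ge hy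
      exact (show z = ⟨y, hPN hyP⟩ from Subtype.ext hze) ▸ hz
    set z := v⁻¹ * (y * v * y⁻¹) with hz
    have hzD : z ∈ D := by
      refine (QuotientGroup.eq_one_iff (N := D.subgroupOf N) ((⟨v, hVN hv⟩ : N)⁻¹ *
        (⟨y, hPN hyP⟩ * ⟨v, hVN hv⟩ * ⟨y, hPN hyP⟩⁻¹))).mp ?_
      show π _ = 1
      rw [map_mul, map_mul, map_mul, map_inv, map_inv,
        ← mem_centralizer_iff.mp (hYb hyb) _ ⟨⟨v, hVN hv⟩, hv, rfl⟩, mul_inv_cancel_right,
        inv_mul_cancel]
    obtain ⟨j, hj⟩ := hP ⟨y, hyP⟩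
    have h1 : z = 1 := OddLocal.shift_eq_one (a := y) (h := v) (z := z)
      (by rw [hz, mul_inv_cancel_left]) (mem_centralizer_iff.mp (hYD hy) z hzD).symm
      (congrArg (fun w : P => (w : G)) hj)
      (congrArg (fun w : V => (w : G)) (pow_card_eq_one' (G := V) (x := ⟨z, hDlt.le hzD⟩)))
      (Nat.Coprime.pow_left _ (hq.out.coprime_iff_not_dvd.mpr hqV))
    rw [hz, inv_mul_eq_one, eq_mul_inv_iff_mul_eq] at h1
    exact h1


end CfsgLib.Signalizer.Gen
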