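import Cfsg.Agent.Lib.Signalizer.General.Family

/-!
Owner: helper13. For at least three primes: the intersection of the `q`-cores of the maximal members
omitting another prime.
-/

set_option autoImplicit false
set_option maxHeartbeats 400000

namespace CfsgLib.Signalizer.Gen

open Subgroup Solv
open scoped commutatorElement

universe u

variable {G : Type u} [Group G] [Finite G] {p : ℕ} [hp : Fact p.Prime] {A : Subgroup G}
  {θ : G → Subgroup G} {M K L L' X Y D : Subgroup G} {a b g : G} {q r s t x y z : ℕ}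

local notation "Fam" => Cfsg.signalizerFamily p A θ
local notation "C₀" => Cfsg.signalizerInf A θ

/-- At least three primes are involved. -/
def Three (A : Subgroup G) (θ : G → Subgroup G) : Prop :=
  ∀ q : ℕ, ∃ x y : ℕ, InPi A θ x ∧ InPi A θ y ∧ x ≠ y ∧ x ≠ q ∧ y ≠ q

/-- The intersection of the `q`-cores over all maximal members omitting another prime. -/
def qCore (p : ℕ) (A : Subgroup G) (θ : G → Subgroup G) (q : ℕ) : Subgroup G :=
  pSup p A θ q ⊓ ⨅ L : {L : Subgroup G // ∃ x, x ≠ q ∧ Base p A θ x L}, oq q (L : Subgroup G)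

omit [Finite G] hp in
theorem exists_ne_of_three (h3 : Three A θ) (q : ℕ) : ∃ r, InPi A θ r ∧ r ≠ q := by
  obtain ⟨x, -, hx, -, -, hxq, -⟩ := h3 q
  exact ⟨x, hx, hxq⟩

/-- A third prime. -/
theorem exists_third (h3 : Three A θ) (q t : ℕ) : ∃ w, InPi A θ w ∧ w ≠ q ∧ w ≠ t := by
  obtain ⟨x, y, hx, hy, hxy, hxq, hyq⟩ := h3 q
  by_cases hxt : x = t
  · exact ⟨y, hy, hyq, fun e => hxy (hxt.trans e.symm)⟩
  · exact ⟨x, hx, hxq, hxt⟩

omit [Finite G] hp in
theorem qCore_le_pSup : qCore p A θ q ≤ pSup p A θ q := inf_le_left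

omit [Finite G] hp in
theorem qCore_le_base (hL : Base p A θ x L) (hxq : x ≠ q) : qCore p A θ q ≤ oq q L :=
  inf_le_right.trans (iInf_le (fun L : {L : Subgroup G // ∃ x, x ≠ q ∧ Base p A θ x L} =>
    oq q (L : Subgroup G)) ⟨L, x, hxq, hL⟩)

omit [Finite G] hp in
theorem qCore_comm (hX : X ≤ pSup p A θ q) : pCent p A θ q ≤ centralizer (X : Set G) :=
  pCent_le_centralizer hX

/-- A subgroup of two cores lies in every core of a member containing the fixed part and it. -/
theorem pair_inf_le [hq : Fact q.Prime] (hL : Base p A θ x L) (hL' : Base p A θ y L') (hxy : x ≠ y)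
    (hxq : x ≠ q) (hyq : y ≠ q) (hM : M ∈ Fam) (hC : C₀ ≤ M) (hDM : D ≤ M) (h1 : D ≤ oq q L)
    (h2 : D ≤ oq q L') : D ≤ oq q M := by
  haveI := hM.1
  refine le_oq_of_layers hDM ((oq_isPGroup q L).to_le h1) fun t ht htq => ?_
  haveI := Fact.mk ht
  have key : ∀ {w : ℕ} {N : Subgroup G}, Base p A θ w N → w ≠ q → w ≠ t → D ≤ oq q N →
      ⁅D, layer q t M⁆ ≤ oq q M := fun {w N} hN hwq hwt hD =>
    comm_layer_le (Ne.symm htq) le_rfl (oq_isPGroup q N) hD
      ((hN.layer_le hM hC (Ne.symm hwq) (Ne.symm hwt)).trans (le_normalizer_oq q N))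
      (hDM.trans (le_normalizer_layer q t M))
  by_cases hxt : x = t
  · exact key hL' hyq (fun e => hxy (hxt.trans e.symm)) h2
  · exact key hL hxq hxt h1

theorem pair_le_qCore [hq : Fact q.Prime] (hL : Base p A θ x L) (hL' : Base p A θ y L')
    (hxy : x ≠ y) (hxq : x ≠ q) (hyq : y ≠ q) (h1 : D ≤ oq q L) (h2 : D ≤ oq q L') :
    D ≤ qCore p A θ q := by
  have hD : D ≤ pSup p A θ q := h1.trans (oq_le_pSup hL.top.1 hL.inf_le q)
  refine le_inf hD (le_iInf fun N => ?_)
  obtain ⟨z, hzq, hN⟩ := N.2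
  exact pair_inf_le hL hL' hxy hxq hyq hN.top.1 hN.inf_le (hD.trans (hN.pSup_le (Ne.symm hzq)))
    h1 h2

theorem pair_eq_bot [hq : Fact q.Prime] (h0 : qCore p A θ q = ⊥) (hL : Base p A θ x L)
    (hL' : Base p A θ y L') (hxy : x ≠ y) (hxq : x ≠ q) (hyq : y ≠ q) :
    oq q L ⊓ oq q L' = ⊥ :=
  le_bot_iff.mp ((pair_le_qCore hL hL' hxy hxq hyq inf_le_left inf_le_right).trans h0.le)

theorem qCore_inf_le (h : GHyp p A θ) (h3 : Three A θ) [hq : Fact q.Prime] (hM : M ∈ Fam)
    (hC : C₀ ≤ M) (hD : D ≤ qCore p A θ q) (hDM : D ≤ M) : D ≤ oq q M := by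
  obtain ⟨x, y, hx, hy, hxy, hxq, hyq⟩ := h3 q
  obtain ⟨L, hL⟩ := exists_base h hx
  obtain ⟨L', hL'⟩ := exists_base h hy
  exact pair_inf_le hL hL' hxy hxq hyq hM hC hDM (hD.trans (qCore_le_base hL hxq))
    (hD.trans (qCore_le_base hL' hyq))

theorem pSup_le_normalizer_qCore [hq : Fact q.Prime] :
    pSup p A θ q ≤ normalizer (qCore p A θ q : Set G) := by
  intro g hg
  refine mem_normalizer_of_forall_le fun u hu => ⟨?_, mem_iInf.mpr fun L => ?_⟩
  · exact (mem_normalizer_iff.mp (le_normalizer hg) u).mp hu.1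
  · obtain ⟨z, hzq, hL⟩ := L.2
    exact (mem_normalizer_iff.mp (le_normalizer_oq q _ (hL.pSup_le (Ne.symm hzq) hg)) u).mp
      (mem_iInf.mp hu.2 L)

theorem inf_le_normalizer_qCore : C₀ ≤ normalizer (qCore p A θ q : Set G) := by
  intro g hg
  refine mem_normalizer_of_forall_le fun u hu => ⟨?_, mem_iInf.mpr fun L => ?_⟩
  · exact (mem_normalizer_iff.mp (inf_le_normalizer_pSup hg) u).mp hu.1
  · obtain ⟨z, hzq, hL⟩ := L.2
    exact (mem_normalizer_iff.mp (le_normalizer_oq q _ (hL.inf_le hg)) u).mp (mem_iInf.mp hu.2 L)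

theorem le_normalizer_qCore : A ≤ normalizer (qCore p A θ q : Set G) := by
  intro g hg
  refine mem_normalizer_of_forall_le fun u hu => ⟨?_, mem_iInf.mpr fun L => ?_⟩
  · exact (mem_normalizer_iff.mp (le_normalizer_pSup hg) u).mp hu.1
  · obtain ⟨z, hzq, hL⟩ := L.2
    exact (mem_normalizer_iff.mp (le_normalizer_oq_of (fam_norm hL.top.1) q hg) u).mp
      (mem_iInf.mp hu.2 L)

theorem qCore_mem (h : GHyp p A θ) (h3 : Three A θ) [hq : Fact q.Prime] :
    qCore p A θ q ∈ Fam :=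
  family_of_le (pSup_spec h (exists_ne_of_three h3 q)).1 qCore_le_pSup le_normalizer_qCore

theorem qCore_isPGroup (h : GHyp p A θ) (h3 : Three A θ) [hq : Fact q.Prime] :
    IsPGroup q (qCore p A θ q) :=
  (pSup_spec h (exists_ne_of_three h3 q)).2.to_le qCore_le_pSup

/-- The intersection lies in the `q`-core of every maximal member over the fixed part having one. -/
theorem qCore_le_oq (h : GHyp p A θ) (h3 : Three A θ) [hq : Fact q.Prime] (hM : IsTop p A θ M)
    (hC : C₀ ≤ M) (hne : oq q M ≠ ⊥) : qCore p A θ q ≤ oq q M := by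
  have hn := exists_ne_of_three h3 q
  have hTP := oq_le_pSup hM.1 hC q
  set W := qCore p A θ q ⊔ oq q M with hW
  have hWP : W ≤ pSup p A θ q := sup_le qCore_le_pSup hTP
  have hWA : A ≤ normalizer (W : Set G) := fun g hg => normalizer_inf_normalizer_le_normalizer_sup _ _
    ⟨le_normalizer_qCore hg, le_normalizer_oq_of (fam_norm hM.1) q hg⟩
  have hWf : W ∈ Fam := family_of_le (pSup_spec h hn).1 hWP hWA
  by_cases hle : W = oq q M
  · exact le_sup_left.trans hle.le
  exfalso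
  have hgrow := Transfer.lt_inf_normalizer ((pSup_spec h hn).2.to_le hWP)
    (lt_of_le_of_ne (le_sup_right : oq q M ≤ W) (Ne.symm hle))
  refine hgrow.not_ge fun w hw => ?_
  have hwM : w ∈ M := le_top_of_oq h hM hne
    (mem_inf hWf ((le_normalizer_oq_of (fam_norm hM.1) q).trans le_normalizer)) inf_le_right hw
  obtain ⟨u, hu, v, hv, rfl⟩ := (Core.mem_sup_iff_mul'
    (hTP.trans pSup_le_normalizer_qCore)).mp ((sup_comm (qCore p A θ q) (oq q M)).le hw.1)
  have huM : u ∈ M := by simpa using M.mul_mem hwM (M.inv_mem (oq_le q M hv))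
  exact mul_mem (qCore_inf_le h h3 hM.1 hC (inf_le_left : qCore p A θ q ⊓ M ≤ _) inf_le_right
    ⟨hu, huM⟩) hv

/-- A colour of an odd prime makes the intersection nontrivial. -/
theorem colour_le_qCore (h : GHyp p A θ) [hq : Fact q.Prime] (hq2 : q ≠ 2) (ha : a ∈ A)
    (ha1 : a ≠ 1) (hK : K ∈ Fam) (haK : θ a ≤ K) : ⁅oq q K, zpowers a⁆ ≤ qCore p A θ q := by
  have hC : C₀ ≤ K := inf_le_of_theta_le ha ha1 haK
  refine le_inf ((Solv.comm_le_self (le_normalizer_oq_of (fam_norm hK) q ha)).trans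
    (oq_le_pSup hK hC q)) (le_iInf fun L => ?_)
  obtain ⟨z, hzq, hL⟩ := L.2
  exact (commutator_mono (le_inf le_rfl (hL.oq_le hK hC (Ne.symm hzq))) le_rfl).trans
    (star h.toGSetup hK hL.top.1 ha ha1 haK hq.out hq2)

theorem calm_of_qCore_eq_bot (h : GHyp p A θ) [hq : Fact q.Prime] (hq2 : q ≠ 2)
    (h0 : qCore p A θ q = ⊥) (ha : a ∈ A) (ha1 : a ≠ 1) (hK : K ∈ Fam) (haK : θ a ≤ K) :
    oq q K ≤ centralizer ({a} : Set G) :=
  comm_eq_bot_iff.mp (le_bot_iff.mp ((colour_le_qCore h hq2 ha ha1 hK haK).trans h0.le))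

/-- The edge lemma: a core of a maximal member omitting a prime moves the core of that prime. -/
theorem edge [hs : Fact s.Prime] (h0 : qCore p A θ s = ⊥) (hL : Base p A θ x L)
    (hL' : Base p A θ y L') (hxs : x ≠ s) (hys : y ≠ s) (hxy : x ≠ y) (hne : oq s L ≠ ⊥) :
    ¬ oq s L ≤ centralizer (oq x L' : Set G) := by
  intro hc
  haveI := hL'.top.1.1
  have hQ' : oq s L ≤ L' := hL'.oq_le hL.top.1 hL.inf_le (Ne.symm hys)
  have hd := pair_eq_bot h0 hL hL' hxy hxs hys
  refine hne (le_bot_iff.mp (hd ▸ le_inf le_rfl (le_oq_of_centralizes hQ' (oq_isPGroup s L)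
    fun t ht => ?_)))
  haveI := Fact.mk ht
  by_cases htx : t = x
  · subst htx; exact hc
  by_cases hts : t = s
  · subst hts
    exact le_centralizer_of_normalizes (hQ'.trans (le_normalizer_oq t L'))
      ((hL.oq_le hL'.top.1 hL'.inf_le (Ne.symm hxs)).trans (le_normalizer_oq t L)) hd
  · exact oq_comm_of_le hs.out ht (Ne.symm hts) hQ' (hL.oq_le hL'.top.1 hL'.inf_le htx)

theorem edge_ne_bot [hs : Fact s.Prime] (h0 : qCore p A θ s = ⊥) (hL : Base p A θ x L)
    (hL' : Base p A θ y L') (hxs : x ≠ s) (hys : y ≠ s) (hxy : x ≠ y) (hne : oq s L ≠ ⊥) :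
    oq x L' ≠ ⊥ := fun e => edge h0 hL hL' hxs hys hxy hne (by
  rw [e]
  exact fun u _ => mem_centralizer_iff.mpr fun v hv => by rw [mem_bot.mp hv, one_mul, mul_one])

/-- Without intersections no maximal member has a core for its omitted prime. -/
theorem oq_self_eq_bot (h : GHyp p A θ) (h3 : Three A θ)
    (h0 : ∀ q : ℕ, q.Prime → qCore p A θ q = ⊥) [hx : Fact x.Prime] (hL : Base p A θ x L) :
    oq x L = ⊥ := by
  by_contra hR
  obtain ⟨y, hy, hyx, -⟩ := exists_third h3 x x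
  obtain ⟨w, hw, hwx, hwy⟩ := exists_third h3 x y
  obtain ⟨Ly, hLy⟩ := exists_base h hy
  obtain ⟨Lw, hLw⟩ := exists_base h hw
  have hn := exists_ne_of_three h3 x
  haveI := hLy.top.1.1
  haveI := Fact.mk hy.1
  have hRy : oq x L ≤ Ly := hLy.oq_le hL.top.1 hL.inf_le (Ne.symm hyx)
  have hXy : oq x Ly ≠ ⊥ := fun e => hR (le_bot_iff.mp (e ▸ le_oq_of_centralizes hRy
    (oq_isPGroup x L) fun t ht => by
      haveI := Fact.mk ht
      by_cases htx : t = x
      · subst htx
        rw [e]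
        exact fun u _ => mem_centralizer_iff.mpr fun v hv => by rw [mem_bot.mp hv, one_mul, mul_one]
      · exact oq_comm_of_le hx.out ht (Ne.symm htx) hRy (hL.oq_le hLy.top.1 hLy.inf_le htx)))
  set Z := pCent p A θ x ⊓ oq x Ly with hZ
  have hZ1 : Z ≠ ⊥ := pCent_inf_ne_bot h hn (oq_le_pSup hLy.top.1 hLy.inf_le x)
    ((hLy.pSup_le (Ne.symm hyx)).trans (le_normalizer_oq x Ly)) hXy
  have hZL : Z ≤ L := inf_le_left.trans (pCent_le_top h hn hL.top hL.inf_le hR)
  have hZx : IsPGroup x Z := (oq_isPGroup x Ly).to_le inf_le_right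
  have hother : ∀ v : ℕ, v.Prime → v ≠ x → v ≠ y → Z ≤ centralizer (oq v L : Set G) := by
    intro v hv hvx hvy
    haveI := Fact.mk hv
    exact (le_inf inf_le_right hZL).trans ((inter_core_comm hx.out hv (Ne.symm hvx)).trans
      (centralizer_le (SetLike.coe_subset_coe.mpr (le_inf le_rfl
        (hLy.oq_le hL.top.1 hL.inf_le hvy)))))
  have hYw : oq y L ≤ Lw := hLw.oq_le hL.top.1 hL.inf_le (Ne.symm hwy)
  have hY : Z ≤ centralizer (oq y L : Set G) := by
    refine le_centralizer_iff.mp (commutator_eq_bot_iff_le_centralizer.mp ?_)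
    haveI := hLw.top.1.1
    have hle : ⁅oq y L, Z⁆ ≤ oq y L :=
      le_normalizer_iff_commutator_le_left.mp (hZL.trans (le_normalizer_oq y L))
    rw [← le_bot_iff, ← pair_eq_bot (h0 y hy.1) hL hLw (Ne.symm hwx) (Ne.symm hyx) hwy]
    refine le_inf hle (le_oq_of_centralizes (hle.trans hYw) ((oq_isPGroup y L).to_le hle)
      fun t ht => ?_)
    haveI := Fact.mk ht
    by_cases htx : t = x
    · subst htx
      have hW : oq t Lw ≤ pSup p A θ t := oq_le_pSup hLw.top.1 hLw.inf_le t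
      have hZc : ⁅oq t Lw, Z⁆ = ⊥ := commutator_eq_bot_iff_le_centralizer.mpr
        (le_centralizer_iff.mp (inf_le_left.trans (pCent_le_centralizer hW)))
      rw [← commutator_eq_bot_iff_le_centralizer]
      refine commutator_commutator_eq_bot_of_rotate ?_ ?_
      · rw [commutator_comm Z, hZc, commutator_bot_left]
      · refine le_bot_iff.mp (le_trans (commutator_mono ?_ le_rfl) hZc.le)
        exact le_normalizer_iff_commutator_le_left.mp (hYw.trans (le_normalizer_oq t Lw))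
    · refine hle.trans ?_
      by_cases hty : t = y
      · subst hty
        exact le_centralizer_of_normalizes (hYw.trans (le_normalizer_oq t Lw))
          ((hL.oq_le hLw.top.1 hLw.inf_le htx).trans (le_normalizer_oq t L))
          (pair_eq_bot (h0 t ht) hL hLw (Ne.symm hwx) (Ne.symm htx) hwy)
      · exact oq_comm_of_le hy.1 ht (Ne.symm hty) hYw (hL.oq_le hLw.top.1 hLw.inf_le htx)
  have hZR : Z ≤ oq x L := le_oq_of_pCent hL.top.1 hL.inf_le hZL inf_le_left hZx fun v hv hvx => by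
    by_cases hvy : v = y
    · subst hvy; exact hY
    · exact hother v hv hvx hvy
  have hZw : Z ≤ Lw := (inf_le_left.trans inf_le_left).trans (hLw.pSup_le (Ne.symm hwx))
  refine hZ1 (le_bot_iff.mp ?_)
  rw [← pair_eq_bot (h0 x hx.out) hLy hLw (Ne.symm hwy) hyx hwx]
  refine le_inf inf_le_right (le_oq_of_pCent hLw.top.1 hLw.inf_le hZw inf_le_left hZx
    fun t ht htx => ?_)
  haveI := Fact.mk ht
  exact (le_inf hZR hZw).trans ((inter_core_comm hx.out ht (Ne.symm htx)).trans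
    (centralizer_le (SetLike.coe_subset_coe.mpr (le_inf le_rfl
      (hL.oq_le hLw.top.1 hLw.inf_le htx)))))

end CfsgLib.Signalizer.Gen
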