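import Cfsg.Agent.Lib.Signalizer.General.Main
import Cfsg.Agent.Lib.Signalizer.LocalKBalance
import Cfsg.Agent.Lib.Components.CharTwoLocal

/-!
Owner: helper13. Equivariant solvable signalizer functors on a group with connected rank graph are
trivial; cores of centralizers with trivial layers.
-/

set_option autoImplicit false

namespace CfsgLib.Signalizer.Gen

open Subgroup Solv

universe u

variable {G : Type u} [Group G] [Finite G] {p : ℕ} [hp : Fact p.Prime] {E F : Subgroup G}
  {θ : G → Subgroup G}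

/-- An element of order `p` whose centralizer has rank at least three. -/
abbrev BigPt (p : ℕ) (a : G) : Prop :=
  orderOf a = p ∧ ¬ Cfsg.PRankLE p 2 ↥(centralizer ({a} : Set G))

/-- An elementary subgroup of order at least `p ^ 3`. -/
theorem exists_three_of_not_rankLE {H : Subgroup G} (h : ¬ Cfsg.PRankLE p 2 H) :
    ∃ E ≤ H, Cfsg.IsElementaryAbelian p E ∧ p ^ 3 ≤ Nat.card E := by
  unfold Cfsg.PRankLE at h
  push Not at h
  obtain ⟨B, hc, hexp, hcard⟩ := h
  refine ⟨B.map H.subtype, map_subtype_le B, map_isElementary _ ⟨hc, hexp⟩, ?_⟩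
  rw [card_map_of_injective H.subtype_injective]
  haveI := hc
  obtain ⟨k, hk⟩ := (elementary_isPGroup (A := B) (p := p) ⟨hc, hexp⟩).exists_card_eq
  rw [hk] at hcard ⊢
  exact Nat.pow_le_pow_right hp.out.pos ((Nat.pow_lt_pow_iff_right hp.out.one_lt).mp hcard)

theorem elementary_sup (hE : Cfsg.IsElementaryAbelian p E) (hF : Cfsg.IsElementaryAbelian p F)
    (hc : F ≤ centralizer (E : Set G)) : Cfsg.IsElementaryAbelian p (E ⊔ F) := by
  have hmem : ∀ x ∈ E ⊔ F, ∃ e ∈ E, ∃ f ∈ F, x = e * f := fun x hx => by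
    obtain ⟨e, he, f, hf, rfl⟩ := (Core.mem_sup_iff_mul' (hc.trans (centralizer_le_normalizer _))).mp
      ((sup_comm E F).le hx)
    exact ⟨e, he, f, hf, rfl⟩
  have hef : ∀ e ∈ E, ∀ f ∈ F, Commute e f := fun e he f hf => mem_centralizer_iff.mp (hc hf) e he
  refine ⟨⟨⟨fun x y => Subtype.ext ?_⟩⟩, fun x hx => ?_⟩
  · obtain ⟨e, he, f, hf, hx⟩ := hmem x x.2
    obtain ⟨e', he', f', hf', hy⟩ := hmem y y.2
    show (x : G) * y = y * x
    rw [hx, hy]
    exact (((Commute.mul_right (elementary_comm hE he he') (hef e he f' hf')).mul_left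
      ((hef e' he' f hf).symm.mul_right (elementary_comm hF hf hf')))).eq
  · obtain ⟨e, he, f, hf, rfl⟩ := hmem x hx
    rw [(hef e he f hf).mul_pow, hE.2 e he, hF.2 f hf, one_mul]

theorem bigPt_of_mem (hE : Cfsg.IsElementaryAbelian p E) (hE3 : p ^ 3 ≤ Nat.card E) {a : G}
    (ha : a ∈ E) (ha1 : a ≠ 1) : BigPt p a := by
  refine ⟨elementary_orderOf hE ha ha1, fun h => ?_⟩
  have hle := elementary_le_centralizer hE ha
  set C := centralizer ({a} : Set G)
  have h1 := h (E.subgroupOf C)
    ⟨⟨fun x y => Subtype.ext (Subtype.ext (elementary_comm hE x.2 y.2))⟩⟩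
    fun x hx => Subtype.ext (hE.2 _ hx)
  rw [Nat.card_congr (subgroupOfEquivOfLe hle).toEquiv] at h1
  exact absurd (hE3.trans h1) (Nat.pow_lt_pow_right hp.out.one_lt (by norm_num)).not_ge

theorem solvable_functor_of_equivariant
    (hC : ∀ a : G, BigPt p a → θ a ≤ centralizer ({a} : Set G) ∧ ¬ p ∣ Nat.card ↥(θ a) ∧
      Group.IsSolvable ↥(θ a))
    (heq : ∀ a g : G, BigPt p a → θ (g * a * g⁻¹) = (θ a).map (MulAut.conj g).toMonoidHom)
    (hbal : ∀ a b : G, BigPt p a → BigPt p b → a * b = b * a →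
      θ a ⊓ centralizer {b} ≤ θ b)
    (hE : Cfsg.IsElementaryAbelian p E) (hE3 : p ^ 3 ≤ Nat.card E) :
    Cfsg.IsSolvableSignalizerFunctor p E θ := by
  have hb := fun (a : G) (ha : a ∈ E) (ha1 : a ≠ 1) => bigPt_of_mem hE hE3 ha ha1
  refine ⟨⟨fun a ha ha1 => (hC a (hb a ha ha1)).1, fun a ha ha1 => (hC a (hb a ha ha1)).2.1,
    fun a ha ha1 b hbE x hx => ?_, fun a ha ha1 b hbE hb1 =>
      hbal a b (hb a ha ha1) (hb b hbE hb1) (elementary_comm hE ha hbE)⟩,
    fun a ha ha1 => (hC a (hb a ha ha1)).2.2⟩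
  have h := heq a b (hb a ha ha1)
  rw [show b * a * b⁻¹ = a by rw [elementary_comm hE hbE ha, mul_inv_cancel_right]] at h
  rw [h]
  exact mem_map_of_mem (MulAut.conj b).toMonoidHom hx

/-- The closure over a noncyclic subgroup is the closure over the whole. -/
theorem closure_eq_of_le (hE : Cfsg.IsElementaryAbelian p E) (hE3 : p ^ 3 ≤ Nat.card E)
    (hθ : Cfsg.IsSolvableSignalizerFunctor p E θ) (hFE : F ≤ E) (hF : p ^ 2 ≤ Nat.card F) :
    Cfsg.signalizerClosure F θ = Cfsg.signalizerClosure E θ ∧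
      Cfsg.signalizerClosure E θ ∈ Cfsg.signalizerFamily p E θ := by
  obtain ⟨W, hW, hWθ⟩ := done_general hE hE3 hθ
  have hFe := elementary_of_le hE hFE
  have hWF : W ≤ Cfsg.signalizerClosure F θ :=
    le_of_fixed_le hFe hF (hFE.trans (fam_norm hW)) (fam_not_dvd hW) fun a ha ha1 =>
      (fam_fix hW (hFE ha) ha1).trans (le_closure ha ha1)
  have hFle : Cfsg.signalizerClosure F θ ≤ Cfsg.signalizerClosure E θ :=
    closure_le_iff.mpr fun a ha ha1 => le_closure (hFE ha) ha1
  have hEW : Cfsg.signalizerClosure E θ ≤ W := closure_le_iff.mpr hWθ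
  exact ⟨le_antisymm hFle (hEW.trans hWF), by rw [le_antisymm hEW (hWF.trans hFle)]; exact hW⟩

/-- **An equivariant solvable signalizer functor with connected rank graph is trivial.** -/
theorem equivariant_trivial (hO : Cfsg.pPrimeCore p G = ⊥) (hrk : ¬ Cfsg.PRankLE p 2 G)
    (hconn : Cfsg.IsRankGraphConnected p 2 G)
    (hC : ∀ a : G, BigPt p a → θ a ≤ centralizer ({a} : Set G) ∧ ¬ p ∣ Nat.card ↥(θ a) ∧
      Group.IsSolvable ↥(θ a))
    (heq : ∀ a g : G, BigPt p a → θ (g * a * g⁻¹) = (θ a).map (MulAut.conj g).toMonoidHom)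
    (hbal : ∀ a b : G, BigPt p a → BigPt p b → a * b = b * a →
      θ a ⊓ centralizer {b} ≤ θ b)
    {a : G} (ha : BigPt p a) : θ a = ⊥ := by
  have hfun : ∀ {E : Subgroup G}, Cfsg.IsElementaryAbelian p E → p ^ 3 ≤ Nat.card E →
      Cfsg.IsSolvableSignalizerFunctor p E θ :=
    fun hE hE3 => solvable_functor_of_equivariant hC heq hbal hE hE3
  have hver : ∀ F : Subgroup G, Cfsg.IsRankGraphVertex p 2 F →
      ∃ E, F ≤ E ∧ Cfsg.IsElementaryAbelian p E ∧ p ^ 3 ≤ Nat.card E := by
    rintro F ⟨hF, -, hCF⟩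
    obtain ⟨B, hBC, hB, hB3⟩ := exists_three_of_not_rankLE hCF
    exact ⟨F ⊔ B, le_sup_left, elementary_sup hF hB hBC,
      hB3.trans (card_le_of_le le_sup_right)⟩
  have hvertex : ∀ {E F : Subgroup G}, Cfsg.IsElementaryAbelian p E → p ^ 3 ≤ Nat.card E → F ≤ E →
      p ^ 2 ≤ Nat.card F → Cfsg.IsRankGraphVertex p 2 F := by
    intro E F hE hE3 hFE hF
    refine ⟨elementary_of_le hE hFE, hF, fun h => ?_⟩
    have hle : E ≤ centralizer (F : Set G) := fun x hx =>
      mem_centralizer_iff.mpr fun f hf => elementary_comm hE (hFE hf) hx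
    have h1 := h (E.subgroupOf _)
      ⟨⟨fun x y => Subtype.ext (Subtype.ext (elementary_comm hE x.2 y.2))⟩⟩
      fun x hx => Subtype.ext (hE.2 _ hx)
    rw [Nat.card_congr (subgroupOfEquivOfLe hle).toEquiv] at h1
    exact absurd (hE3.trans h1) (Nat.pow_lt_pow_right hp.out.one_lt (by norm_num)).not_ge
  have hconst : ∀ F F' : Subgroup G, Cfsg.IsRankGraphVertex p 2 F →
      Cfsg.IsRankGraphVertex p 2 F' →
      Cfsg.signalizerClosure F θ = Cfsg.signalizerClosure F' θ := by
    intro F F' hF hF'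
    have hpath := hconn F F' hF hF'
    clear hF'
    induction hpath with
    | refl => rfl
    | tail _ hstep ihp =>
      obtain ⟨h1, h2, hcomm⟩ := hstep
      refine ihp.trans ?_
      rename_i X Y _
      have hc : Y ≤ centralizer (X : Set G) := fun y hy =>
        mem_centralizer_iff.mpr fun x hx => hcomm x hx y hy
      have hXY := elementary_sup h1.1 h2.1 hc
      by_cases h3 : p ^ 3 ≤ Nat.card ↥(X ⊔ Y)
      · rw [(closure_eq_of_le hXY h3 (hfun hXY h3) le_sup_left h1.2.1).1,
          (closure_eq_of_le hXY h3 (hfun hXY h3) le_sup_right h2.2.1).1]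
      · obtain ⟨k, hk⟩ := (elementary_isPGroup hXY).exists_card_eq
        have hk2 : Nat.card ↥(X ⊔ Y) ≤ p ^ 2 := by
          rw [hk] at h3 ⊢
          exact Nat.pow_le_pow_right hp.out.pos (by
            by_contra hh
            exact h3 (Nat.pow_le_pow_right hp.out.pos (by omega)))
        exact congrArg (Cfsg.signalizerClosure · θ)
          ((eq_of_le_of_card_ge (le_sup_left : X ≤ X ⊔ Y) (hk2.trans h1.2.1)).trans
            (eq_of_le_of_card_ge (le_sup_right : Y ≤ X ⊔ Y) (hk2.trans h2.2.1)).symm)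
  obtain ⟨E₀, -, hE₀, hE₀3⟩ := exists_three_of_not_rankLE (H := (⊤ : Subgroup G)) fun h => hrk
    fun B hc hexp => by
      have h1 := h (B.subgroupOf ⊤)
        ⟨⟨fun x y => Subtype.ext (Subtype.ext (congrArg Subtype.val
          (hc.is_comm.comm ⟨x.1.1, x.2⟩ ⟨y.1.1, y.2⟩) :))⟩⟩
        fun x hx => Subtype.ext (hexp _ hx)
      rwa [Nat.card_congr (subgroupOfEquivOfLe (le_top : B ≤ ⊤)).toEquiv] at h1
  have hp2 : ∀ {E : Subgroup G}, p ^ 3 ≤ Nat.card E → p ^ 2 ≤ Nat.card E := fun h =>
    (Nat.pow_le_pow_right hp.out.pos (by norm_num)).trans h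
  set W := Cfsg.signalizerClosure E₀ θ with hW
  have hall : ∀ E : Subgroup G, Cfsg.IsElementaryAbelian p E → p ^ 3 ≤ Nat.card E →
      Cfsg.signalizerClosure E θ = W := fun E hE hE3 =>
    hconst E E₀ (hvertex hE hE3 le_rfl (hp2 hE3)) (hvertex hE₀ hE₀3 le_rfl (hp2 hE₀3))
  haveI hWn : W.Normal := by
    refine ⟨fun x hx g => ?_⟩
    have hE' : Cfsg.IsElementaryAbelian p (E₀.map (MulAut.conj g).toMonoidHom) :=
      map_isElementary _ hE₀
    have hc3 : p ^ 3 ≤ Nat.card ↥(E₀.map (MulAut.conj g).toMonoidHom) := by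
      rwa [card_map_of_injective (MulAut.conj g).injective]
    have hle : W ≤ W.comap (MulAut.conj g).toMonoidHom := closure_le_iff.mpr fun b hb hb1 y hy => by
      show g * y * g⁻¹ ∈ W
      rw [← hall _ hE' hc3]
      refine le_closure (mem_map_of_mem (MulAut.conj g).toMonoidHom hb) ?_ ?_
      · exact fun e => hb1 ((MulAut.conj g).injective (e.trans (map_one _).symm))
      · show g * y * g⁻¹ ∈ θ (g * b * g⁻¹)
        rw [heq b g (bigPt_of_mem hE₀ hE₀3 hb hb1)]
        exact mem_map_of_mem (MulAut.conj g).toMonoidHom hy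
    exact hle hx
  have hW1 : W = ⊥ := by
    rw [← le_bot_iff, ← hO]
    exact Core.le_pPrimeCore ((hp.out.coprime_iff_not_dvd.mpr
      (fam_not_dvd (closure_eq_of_le hE₀ hE₀3 (hfun hE₀ hE₀3) le_rfl (hp2 hE₀3)).2)).symm)
  obtain ⟨B, hBC, hB, hB3⟩ := exists_three_of_not_rankLE ha.2
  have hz : Cfsg.IsElementaryAbelian p (zpowers a) := by
    refine ⟨inferInstance, fun x hx => ?_⟩
    obtain ⟨j, rfl⟩ := mem_zpowers_iff.mp hx
    rw [← zpow_natCast, zpow_comm, zpow_natCast, ← ha.1, pow_orderOf_eq_one, one_zpow]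
  have hE := elementary_sup hz hB (by rwa [centralizer_zpowers])
  have hE3 := hB3.trans (card_le_of_le (le_sup_right : B ≤ zpowers a ⊔ B))
  have ha1 : a ≠ 1 := fun e => by
    have := ha.1
    rw [e, orderOf_one] at this
    exact hp.out.one_lt.ne this
  exact le_bot_iff.mp ((le_closure (mem_sup_left (mem_zpowers a)) ha1).trans
    ((hall _ hE hE3).trans hW1).le)

/-- Balance for elements with constrained centralizers. -/
theorem core_balance {x y : G} (hx : orderOf x = p) (hxy : x * y = y * x)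
    (hL : Cfsg.pLayer p ↥(centralizer ({y} : Set G)) = ⊥) :
    Cfsg.centralizerPPrimeCore p x ⊓ centralizer {y} ≤ Cfsg.centralizerPPrimeCore p y := by
  set H := centralizer ({y} : Set G) with hH
  have hxH : x ∈ H := mem_centralizer_singleton_iff.mpr hxy
  set P : Subgroup H := zpowers (⟨x, hxH⟩ : H) with hPdef
  have hP : IsPGroup p P :=
    IsPGroup.of_card (n := 1) (by rw [Nat.card_zpowers, pow_one, ← hx, Subgroup.orderOf_mk])
  have hc := PLocal.isPConstrained_iff.mp (Components.isPConstrained_iff_pLayer_eq_bot.mpr hL)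
  have hloc := (PLocal.local_of_pConstrained hc hP).1
  set N := normalizer (P : Set H) with hN
  set K := centralizer (P : Set H) with hK
  intro d hd
  obtain ⟨⟨⟨d, hdC⟩, hdO, rfl⟩, hdH⟩ := Subgroup.mem_inf.mp hd
  have hKx : ∀ k : K, ((k : H) : G) ∈ centralizer ({x} : Set G) := fun k =>
    mem_centralizer_singleton_iff.mpr (congrArg Subtype.val
      (mem_centralizer_iff.mp k.2 _ (mem_zpowers (⟨x, hxH⟩ : H)))).symm
  let f : K →* centralizer ({x} : Set G) := (H.subtype.comp K.subtype).codRestrict _ hKx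
  have hf : Function.Injective f := fun a b hab =>
    Subtype.ext (Subtype.ext (congrArg (Subtype.val : centralizer ({x} : Set G) → G) hab))
  have hle : (Cfsg.pPrimeCore p ↥(centralizer ({x} : Set G))).comap f ≤ Cfsg.pPrimeCore p K := by
    haveI := Core.normal_pPrimeCore p ↥(centralizer ({x} : Set G))
    refine Core.le_pPrimeCore ((Core.coprime_card_pPrimeCore p
      ↥(centralizer ({x} : Set G))).coprime_dvd_left ?_)
    rw [← Subgroup.card_map_of_injective hf]
    exact Subgroup.card_dvd_of_le (Subgroup.map_comap_le f _)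
  have hdK : (⟨d, hdH⟩ : H) ∈ K := by
    rw [hK, mem_centralizer_iff]
    intro z hz
    obtain ⟨j, rfl⟩ := mem_zpowers_iff.mp hz
    have hcom : Commute (x : G) d := mem_centralizer_iff.mp hdC x rfl
    exact Subtype.ext (by push_cast; exact (hcom.zpow_left j).eq)
  have hKN : K ≤ N := centralizer_le_normalizer _
  have hin : (Cfsg.pPrimeCore p K).map K.subtype ≤ (Cfsg.pPrimeCore p N).map N.subtype := by
    haveI := Core.normal_pPrimeCore p K
    set O := (Cfsg.pPrimeCore p K).map K.subtype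
    have hNK : N ≤ normalizer (K : Set H) := normalizer_le_normalizer_centralizer_set _
    have hON : N ≤ normalizer (O : Set H) := by
      intro g hg
      refine Solv.mem_normalizer_of_forall_le fun z hz => ?_
      obtain ⟨z, hz, rfl⟩ := hz
      let e : K →* K := (MonoidHom.codRestrict ((MulAut.conj g).toMonoidHom.comp K.subtype) K
        fun w => (mem_normalizer_iff.mp (hNK hg) w).mp w.2)
      have he : Function.Surjective e := fun w =>
        ⟨⟨g⁻¹ * w * g, (mem_normalizer_iff''.mp (hNK hg) w).mp w.2⟩, Subtype.ext (by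
          show g * (g⁻¹ * (w : H) * g) * g⁻¹ = w
          group)⟩
      exact ⟨e z, Core.map_pPrimeCore_le e he (mem_map_of_mem e hz), rfl⟩
    have hO : O ≤ N := (map_subtype_le _).trans hKN
    haveI : (O.subgroupOf N).Normal := (normal_subgroupOf_iff_le_normalizer hO).mpr hON
    rw [← map_subgroupOf_eq_of_le hO]
    refine map_mono (Core.le_pPrimeCore ?_)
    rw [Nat.card_congr (subgroupOfEquivOfLe hO).toEquiv, card_map_of_injective K.subtype_injective]
    exact Core.coprime_card_pPrimeCore p K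
  have h2 := hloc.le (hin ⟨⟨⟨d, hdH⟩, hdK⟩, hle hdO, rfl⟩)
  exact ⟨⟨d, hdH⟩, h2.1, rfl⟩

/-- Cores of centralizers with trivial layers are trivial, so they have characteristic `p`. -/
theorem gFitting_centralizer_eq (hO : Cfsg.pPrimeCore p G = ⊥) (hrk : ¬ Cfsg.PRankLE p 2 G)
    (hconn : Cfsg.IsRankGraphConnected p 2 G)
    (hL : ∀ a : G, BigPt p a → Cfsg.pLayer p ↥(centralizer ({a} : Set G)) = ⊥ ∧
      Group.IsSolvable ↥(Cfsg.centralizerPPrimeCore p a)) {a : G} (ha : BigPt p a) :
    Cfsg.generalizedFittingSubgroup ↥(centralizer ({a} : Set G)) =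
      Cfsg.pCore p ↥(centralizer ({a} : Set G)) := by
  have h0 : Cfsg.centralizerPPrimeCore p a = ⊥ := by
    refine equivariant_trivial (θ := fun b => Cfsg.centralizerPPrimeCore p b) hO hrk hconn
      (fun b hb => ⟨map_subtype_le _, fun hd => ?_, (hL b hb).2⟩) (fun b g _ => ?_)
      (fun b c hb hc hbc => core_balance hb.1 hbc (hL c hc).1) ha
    · change p ∣ Nat.card ↥((Cfsg.pPrimeCore p ↥(centralizer ({b} : Set G))).map
        (centralizer ({b} : Set G)).subtype) at hd
      rw [Subgroup.card_map_of_injective (Subgroup.subtype_injective _)] at hd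
      exact hp.out.coprime_iff_not_dvd.mp (Core.coprime_card_pPrimeCore p _).symm hd
    · refine le_antisymm (fun z hz => ?_) ?_
      · have h := mem_centralizerPPrimeCore_map (MulAut.conj g).symm hz
        rw [show (MulAut.conj g).symm (g * b * g⁻¹) = b from (MulAut.conj g).symm_apply_apply b] at h
        exact ⟨_, h, (MulAut.conj g).apply_symm_apply z⟩
      · rintro _ ⟨z, hz, rfl⟩
        exact mem_centralizerPPrimeCore_map (MulAut.conj g) hz
  have hcore : Cfsg.pPrimeCore p ↥(centralizer ({a} : Set G)) = ⊥ :=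
    (Subgroup.map_eq_bot_iff_of_injective _ (Subgroup.subtype_injective _)).mp h0
  exact Components.gFitting_eq_pCore_of_charP ((PLocal.isPConstrained_iff_of_core_bot hcore).mp
    (Components.isPConstrained_iff_pLayer_eq_bot.mpr (hL a ha).1))

end CfsgLib.Signalizer.Gen
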