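import Cfsg.Agent.Lib.Signalizer.General.OddPrime

/-!
Owner: helper13. For at least three primes the intersection of cores of the prime two is trivial.
-/

set_option autoImplicit false
set_option maxHeartbeats 400000

namespace CfsgLib.Signalizer.Gen

open Subgroup Solv
open scoped commutatorElement

universe u

variable {G : Type u} [Group G] [Finite G] {p : ℕ} [hp : Fact p.Prime] {A : Subgroup G}
  {θ : G → Subgroup G} {M K L X Y n : Subgroup G} {a b x y g : G} {q r s t : ℕ}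

local notation "Fam" => Cfsg.signalizerFamily p A θ
local notation "C₀" => Cfsg.signalizerInf A θ

omit [Finite G] in
theorem le_centralizer_bot (X : Subgroup G) :
    X ≤ centralizer ((⊥ : Subgroup G) : Set G) := fun x _ =>
  mem_centralizer_iff.mpr fun y hy => by rw [mem_bot.mp hy, one_mul, mul_one]

/-- A bad point for two has a value which is a maximal member of odd cores. -/
theorem bad_top (h : GHyp p A θ) (h3 : Three A θ) (hb : b ∈ A) (hb1 : b ≠ 1)
    (hbad : ¬ GoodPt p A θ 2 b) : IsTop p A θ (θ b) ∧ oq 2 (θ b) = ⊥ := by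
  obtain ⟨K, hK, hbK⟩ := exists_top (theta_mem_family h.functor hb hb1)
  have h0 : oq 2 K = ⊥ := by
    by_contra hne
    exact hbad ⟨K, hK, hbK, hne⟩
  have hc : K ≤ centralizer ({b} : Set G) := by
    by_contra hc
    obtain ⟨q, hq, hmv⟩ := exists_mu_of_not_le h.toGSetup hK.1 hb hc
    haveI := Fact.mk hq
    by_cases hq2 : q = 2
    · subst hq2
      rw [h0] at hmv
      exact hmv bot_le
    · exact hmv (calm_of_qCore_eq_bot h hq2 (qCore_eq_bot_of_odd h h3 hq2) hb hb1 hK.1 hbK)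
  obtain rfl : K = θ b := le_antisymm (le_theta_of_centralizes hK.1 hb hb1 hc) hbK
  exact ⟨hK, h0⟩

/-- The primes of two bad values are incomparable. -/
theorem bad_incomparable (h : GHyp p A θ) (h3 : Three A θ) (hb : b ∈ A) (hb1 : b ≠ 1)
    (ha : a ∈ A) (ha1 : a ≠ 1) (hab : a ∉ zpowers b) (hbadb : ¬ GoodPt p A θ 2 b)
    (hbada : ¬ GoodPt p A θ 2 a)
    (hsub : ∀ u : ℕ, u.Prime → oq u (θ a) ≠ ⊥ → oq u (θ b) ≠ ⊥) : False := by
  obtain ⟨hTb, -⟩ := bad_top h h3 hb hb1 hbadb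
  obtain ⟨hTa, -⟩ := bad_top h h3 ha ha1 hbada
  obtain ⟨t, ht, hne⟩ := exists_oq_top h hTa
  haveI := Fact.mk ht
  have hn := exists_ne_of_three h3 t
  obtain ⟨hPf, hPt⟩ := pSup_spec (q := t) h hn
  have hHb : pSup p A θ t ≤ θ b := le_theta_of_centralizes hPf hb hb1
    (singleton_centralizes h hb hb1 hTb ht (hsub t ht hne) hPf hPt)
  have hCb : C₀ ≤ θ b := Solv.inf_le hb hb1
  have hCa : C₀ ≤ θ a := Solv.inf_le ha ha1
  have hZ := pCent_inf_ne_bot h hn (oq_le_pSup hTb.1 hCb t)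
    (hHb.trans (le_normalizer_oq t (θ b))) (hsub t ht hne)
  refine singleton_inter_false h hb hb1 ha ha1 hTb hTa hab ht (ne_bot_of_le_ne_bot hZ
    (le_inf inf_le_right (le_oq_of_pCent hTa.1 hCa
      (inf_le_left.trans (pCent_le_top h hn hTa hCa hne)) inf_le_left
      (hPt.to_le (inf_le_left.trans inf_le_left)) fun v hv hvt => ?_)))
  haveI := Fact.mk hv
  by_cases hv0 : oq v (θ a) = ⊥
  · rw [hv0]; exact le_centralizer_bot _
  have hvb : oq v (θ a) ≤ θ b := le_theta_of_centralizes (mem_oq hTa.1 v) hb hb1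
    (singleton_centralizes h hb hb1 hTb hv (hsub v hv hv0) (mem_oq hTa.1 v) (oq_isPGroup v _))
  exact (le_inf inf_le_right (inf_le_left.trans (pCent_le_top h hn hTa hCa hne))).trans
    ((inter_core_comm ht hv (Ne.symm hvt)).trans
      (centralizer_le (SetLike.coe_subset_coe.mpr (le_inf le_rfl hvb))))

/-- The fixed points of a bad operator on a layer whose prime its value avoids. -/
theorem bad_fixed_layer (h : GHyp p A θ) (h3 : Three A θ) (hb : b ∈ A) (hb1 : b ≠ 1)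
    (hbad : ¬ GoodPt p A θ 2 b) [ht : Fact t.Prime] (ht2 : t ≠ 2) (ht0 : oq t (θ b) = ⊥)
    (hM : M ∈ Fam) (hcores : ∀ v : ℕ, v.Prime → oq v (θ b) ≤ M) :
    layer 2 t M ⊓ centralizer ({b} : Set G) ≤ oq 2 M := by
  haveI : Fact (Nat.Prime 2) := ⟨Nat.prime_two⟩
  obtain ⟨hTb, h20⟩ := bad_top h h3 hb hb1 hbad
  set J := layer 2 t M ⊓ centralizer ({b} : Set G) with hJ
  have hJf : J ∈ Fam := mem_inf (mem_layer_fam hM 2 t)
    (le_normalizer_centralizer_of_le h.elem (Set.singleton_subset_iff.mpr hb))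
  have hJb : J ≤ θ b := le_theta_of_centralizes hJf hb hb1 inf_le_right
  have hcomm : ∀ v : ℕ, v.Prime → v ≠ t → J ≤ centralizer (oq v (θ b) : Set G) := by
    intro v hv hvt
    haveI := Fact.mk hv
    by_cases hv0 : oq v (θ b) = ⊥
    · rw [hv0]; exact le_centralizer_bot _
    have hv2 : v ≠ 2 := fun e => hv0 (e ▸ h20)
    refine le_centralizer_of_normalizes (hJb.trans (le_normalizer_oq v _)) (fun u hu => ?_) ?_
    · exact inf_normalizer_le_normalizer_inf ⟨le_normalizer_layer 2 t M (hcores v hv hu),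
        le_normalizer (theta_le_centralizer h.toGSetup hb hb1 (oq_le v _ hu))⟩
    · rw [inf_comm]
      refine Solv.inf_eq_bot_of_coprime (Solv.coprime_pgroup (oq_isPGroup v _) fun hd => ?_)
      rcases layer_primes hv (hd.trans (card_dvd_of_le (inf_le_left : J ≤ layer 2 t M))) with e | e
      exacts [hv2 e, hvt e]
  obtain ⟨R, hR⟩ := Core.exists_invariant_sylow (fam_norm hJf)
    (coprime_card_of_pGroup (elementary_isPGroup h.elem) (fam_not_dvd hJf)) (Or.inr hJf.1) t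
  have hRbot : (R : Subgroup J).map J.subtype = ⊥ := by
    haveI := hTb.1.1
    refine le_bot_iff.mp (ht0 ▸ le_oq_of_centralizes ((map_subtype_le _).trans hJb)
      (R.isPGroup'.map J.subtype) fun v hv => ?_)
    by_cases hvt : v = t
    · subst hvt; rw [ht0]; exact le_centralizer_bot _
    · exact (map_subtype_le _).trans (hcomm v hv hvt)
  have hJ2 : ∀ {d : ℕ}, d.Prime → d ∣ Nat.card J → d = 2 := by
    intro d hd hdvd
    rcases layer_primes hd (hdvd.trans (card_dvd_of_le (inf_le_left : J ≤ layer 2 t M))) with e | e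
    · exact e
    subst e
    have h1 : d ^ (Nat.card J).factorization d = 1 := by
      rw [← R.card_eq_multiplicity, ← card_map_of_injective J.subtype_injective, hRbot, card_bot]
    exact absurd h1 (Nat.one_lt_pow (hd.factorization_pos_of_dvd Nat.card_pos.ne' hdvd).ne'
      hd.one_lt).ne'
  exact le_oq_of_le_layer (Ne.symm ht2)
    (IsPGroup.of_card (Nat.eq_prime_pow_of_unique_prime_dvd Nat.card_pos.ne' hJ2)) inf_le_left

/-- A bad operator is trivial on the layers of its primes. -/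
theorem bad_trivial_layer (h : GHyp p A θ) (h3 : Three A θ) (hb : b ∈ A) (hb1 : b ≠ 1)
    (hbad : ¬ GoodPt p A θ 2 b) [ht : Fact t.Prime] (ht2 : t ≠ 2) (ht0 : oq t (θ b) ≠ ⊥)
    (hM : M ∈ Fam) : ⁅layer 2 t M, zpowers b⁆ ≤ oq 2 M := by
  haveI : Fact (Nat.Prime 2) := ⟨Nat.prime_two⟩
  obtain ⟨hTb, -⟩ := bad_top h h3 hb hb1 hbad
  set J := layer 2 t M with hJ
  have hJf : J ∈ Fam := mem_layer_fam hM 2 t
  set S := oq 2 M ⊔ (J ⊓ centralizer ({b} : Set G)) with hS
  have hSJ : S ≤ J := sup_le (oq_le_layer 2 t M) inf_le_left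
  have hdvd : Nat.card J ∣ Nat.card S := by
    refine (Nat.dvd_iff_prime_pow_dvd_dvd _ _).mpr fun r k hr hrk => ?_
    by_cases hk : k = 0
    · rw [hk, pow_zero]; exact one_dvd _
    haveI := Fact.mk hr
    obtain ⟨R, hR⟩ := Core.exists_invariant_sylow (fam_norm hJf)
      (coprime_card_of_pGroup (elementary_isPGroup h.elem) (fam_not_dvd hJf)) (Or.inr hJf.1) r
    have hRS : (R : Subgroup J).map J.subtype ≤ S := by
      have hRr := R.isPGroup'.map J.subtype
      rcases layer_primes hr ((dvd_pow_self r hk).trans hrk) with e | e <;> subst e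
      · exact (le_oq_of_le_layer (Ne.symm ht2) hRr (map_subtype_le _)).trans le_sup_left
      · exact (le_inf (map_subtype_le _) (singleton_centralizes h hb hb1 hTb hr ht0
          (family_of_le hJf (map_subtype_le _) hR) hRr)).trans le_sup_right
    refine dvd_trans ?_ (card_dvd_of_le hRS)
    rw [card_map_of_injective J.subtype_injective, R.card_eq_multiplicity]
    exact pow_dvd_pow r ((hr.pow_dvd_iff_le_factorization Nat.card_pos.ne').mp hrk)
  rw [← eq_of_le_of_card_ge hSJ (Nat.le_of_dvd Nat.card_pos hdvd)]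
  have hbN : zpowers b ≤ normalizer (oq 2 M : Set G) :=
    zpowers_le.mpr (le_normalizer_oq_of (fam_norm hM) 2 hb)
  refine comm_sup_le le_normalizer ((inf_le_left.trans (Gen.layer_le 2 t M)).trans (le_qN 2 M))
    (le_normalizer_iff_commutator_le_left.mp hbN) ?_
  exact (commutator_mono inf_le_right le_rfl).trans ((comm_eq_bot_iff.mpr le_rfl).le.trans bot_le)

/-- The conjugates under the fixed part of a line act trivially on the layers. -/
theorem lineOrbit_layer (h : GHyp p A θ) (h3 : Three A θ) [h2 : Fact (Nat.Prime 2)] (hn : n ≤ A)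
    (hnc : Nat.card n = p ^ 2) (hg : g ∈ n) (hg1 : g ≠ 1) (hgood : GoodPt p A θ 2 g)
    [ht : Fact t.Prime] (ht2 : t ≠ 2) (hM : M ∈ Fam) (hPM : lineOrbit p A θ 2 n ≤ M)
    (hcase : (∀ b ∈ n, b ≠ 1 → ¬ GoodPt p A θ 2 b → oq t (θ b) = ⊥ →
        ∀ v : ℕ, v.Prime → oq v (θ b) ≤ M) ∨
      (InPi A θ t → ∀ b ∈ n, ∀ a ∈ n, b ≠ 1 → a ≠ 1 → ¬ GoodPt p A θ 2 b → ¬ GoodPt p A θ 2 a →
        oq t (θ b) = ⊥ → oq t (θ a) = ⊥ → a ∈ zpowers b)) :
    ⁅lineOrbit p A θ 2 n, layer 2 t M⁆ ≤ oq 2 M := by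
  obtain ⟨hPf, hP2, -⟩ := lineOrbit_spec h h3 hn hnc hg hg1 hgood
  set P := lineOrbit p A θ 2 n
  have hPoq : ⁅P, oq 2 M⁆ ≤ oq 2 M :=
    le_normalizer_iff_commutator_le_right.mp (hPM.trans (le_qN 2 M))
  by_cases hex : ∃ b ∈ n, b ≠ 1 ∧ ¬ GoodPt p A θ 2 b ∧ oq t (θ b) ≠ ⊥
  · obtain ⟨b, hb, hb1, hbad, hb0⟩ := hex
    rw [show P = ⁅P, zpowers b⁆ from (lineOrbit_comm h h3 hn hnc hb hb1 hbad).symm]
    exact comm_layer_of_trivial (fam_norm hM (hn hb)) hPM (fam_norm hPf (hn hb))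
      (bad_trivial_layer h h3 (hn hb) hb1 hbad ht2 hb0 hM)
  push Not at hex
  have hnp := elementary_of_le h.elem hn
  rcases hcase with hcase | hcase
  · refine layer_comm_of_fixed hnp hnc.ge (hn.trans (fam_norm hM)) (fam_not_dvd hM) hPM
      fun e he he1 => ?_
    by_cases hge : GoodPt p A θ 2 e
    · exact lineOrbit_good_layer h h3 hn hnc he he1 hge (Ne.symm ht2) hM hPM
    · exact (commutator_mono le_rfl (bad_fixed_layer h h3 (hn he) he1 hge ht2 (hex e he he1 hge) hM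
        (hcase e he he1 hge (hex e he he1 hge)))).trans hPoq
  by_cases hπ : InPi A θ t
  swap
  · refine (commutator_mono le_rfl ?_).trans hPoq
    refine le_oq_of_le_layer (Ne.symm ht2) (IsPGroup.of_card (Nat.eq_prime_pow_of_unique_prime_dvd
      Nat.card_pos.ne' fun {d} hd hdvd => ?_)) le_rfl
    rcases layer_primes hd hdvd with e | e
    · exact e
    · exact absurd (e ▸ inPi_of_dvd h.toGSetup (mem_layer_fam hM 2 t) hd hdvd) hπ
  by_cases hall : ∀ e ∈ n, e ≠ 1 → GoodPt p A θ 2 e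
  · exact layer_comm_of_fixed hnp hnc.ge (hn.trans (fam_norm hM)) (fam_not_dvd hM) hPM
      fun e he he1 => lineOrbit_good_layer h h3 hn hnc he he1 (hall e he he1) (Ne.symm ht2) hM hPM
  push Not at hall
  obtain ⟨b, hb, hb1, hbad⟩ := hall
  refine comm_layer_of_one_bad (Ne.symm ht2) hnp hnc (fam_not_dvd hM) (hn.trans (fam_norm hM)) hPM
    hP2 hb (fam_norm hPf (hn hb)) (lineOrbit_comm h h3 hn hnc hb hb1 hbad) fun e he heb => ?_
  have he1 : e ≠ 1 := fun e' => heb (e' ▸ one_mem _)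
  refine lineOrbit_good_layer h h3 hn hnc he he1 ?_ (Ne.symm ht2) hM hPM
  by_contra hge
  exact heb (hcase hπ b hb e he hb1 he1 hbad hge (hex b hb hb1 hbad) (hex e he he1 hge))

/-- At most two odd primes are involved. -/
def TwoOdd (A : Subgroup G) (θ : G → Subgroup G) : Prop :=
  ∀ t : ℕ, InPi A θ t → t ≠ 2 → ∀ x y : ℕ, InPi A θ x → InPi A θ y → x ≠ 2 → x ≠ t → y ≠ 2 →
    y ≠ t → x = y

omit [Finite G] in
theorem four_of_not_twoOdd (h : ¬ TwoOdd A θ) (t : ℕ) :
    ∃ x y : ℕ, InPi A θ x ∧ InPi A θ y ∧ x ≠ y ∧ x ≠ 2 ∧ x ≠ t ∧ y ≠ 2 ∧ y ≠ t := by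
  unfold TwoOdd at h
  push Not at h
  obtain ⟨u, hu, hu2, x, y, hx, hy, hx2, hxu, hy2, hyu, hxy⟩ := h
  by_cases hxt : x = t
  · subst hxt; exact ⟨u, y, hu, hy, Ne.symm hyu, hu2, Ne.symm hxu, hy2, Ne.symm hxy⟩
  by_cases hyt : y = t
  · subst hyt; exact ⟨u, x, hu, hx, Ne.symm hxu, hu2, Ne.symm hyu, hx2, hxy⟩
  exact ⟨x, y, hx, hy, hxy, hx2, hxt, hy2, hyt⟩

/-- With four primes everything omitting a prime normalises the intersection. -/
theorem le_normalizer_two (h : GHyp p A θ) [h2 : Fact (Nat.Prime 2)] (hfour : ¬ TwoOdd A θ) (t : ℕ)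
    (hX : ∀ {w : ℕ} {L : Subgroup G}, w ≠ 2 → w ≠ t → Base p A θ w L → X ≤ L) :
    X ≤ normalizer (qCore p A θ 2 : Set G) := by
  obtain ⟨x, y, hx, hy, hxy, hx2, hxt, hy2, hyt⟩ := four_of_not_twoOdd hfour t
  obtain ⟨Lx, hLx⟩ := exists_base h hx
  obtain ⟨Ly, hLy⟩ := exists_base h hy
  have he : qCore p A θ 2 = oq 2 Lx ⊓ oq 2 Ly := le_antisymm
    (le_inf (qCore_le_base hLx hx2) (qCore_le_base hLy hy2))
    (pair_le_qCore hLx hLy hxy hx2 hy2 inf_le_left inf_le_right)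
  rw [he]
  exact (le_inf ((hX hx2 hxt hLx).trans (le_normalizer_oq 2 Lx))
    ((hX hy2 hyt hLy).trans (le_normalizer_oq 2 Ly))).trans inf_normalizer_le_normalizer_inf

/-- The fixed part of a line with a good point normalises the intersection for two. -/
theorem line_normalizes_two (h : GHyp p A θ) (h3 : Three A θ) [h2 : Fact (Nat.Prime 2)]
    (hL : IsTop p A θ L)
    (hLN : ∀ Y ∈ Fam, Y ≤ normalizer (qCore p A θ 2 : Set G) → Y ≤ L) (hn : n ≤ A)
    (hnc : Nat.card n = p ^ 2) (hg : g ∈ n) (hg1 : g ≠ 1) (hgood : GoodPt p A θ 2 g) :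
    Cfsg.signalizerInf n θ ≤ normalizer (qCore p A θ 2 : Set G) := by
  obtain ⟨-, hP2, hPH⟩ := lineOrbit_spec h h3 hn hnc hg hg1 hgood
  refine lineInf_le_normalizer h h3 hn hnc ?_
  by_cases htwo : TwoOdd A θ
  · refine le_inf hPH (le_iInf fun N => ?_)
    obtain ⟨z, hz2, hN⟩ := N.2
    have hPN := hPH.trans (hN.pSup_le (Ne.symm hz2))
    haveI := hN.top.1.1
    refine le_oq_of_layers hPN hP2 fun t ht ht2 => ?_
    haveI := Fact.mk ht
    refine lineOrbit_layer h h3 hn hnc hg hg1 hgood ht2 hN.top.1 hPN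
      (Or.inr fun hπ b hb a ha hb1 ha1 hbadb hbada hb0 ha0 => ?_)
    by_contra hab
    refine bad_incomparable h h3 (hn hb) hb1 (hn ha) ha1 hab hbadb hbada fun v hv hva => ?_
    obtain ⟨hTb, hb2⟩ := bad_top h h3 (hn hb) hb1 hbadb
    obtain ⟨hTa, ha2⟩ := bad_top h h3 (hn ha) ha1 hbada
    obtain ⟨w, hw, hwb⟩ := exists_oq_top h hTb
    have hvw : v = w := htwo t hπ ht2 v w (inPi_of_oq_ne_bot h.toGSetup hTa.1 hv hva)
      (inPi_of_oq_ne_bot h.toGSetup hTb.1 hw hwb) (fun e => hva (e ▸ ha2)) (fun e => hva (e ▸ ha0))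
      (fun e => hwb (e ▸ hb2)) (fun e => hwb (e ▸ hb0))
    exact hvw ▸ hwb
  obtain ⟨-, hCL, hHL⟩ := local_top_spec h h3 hL hLN
  have hPL := hPH.trans hHL
  haveI := hL.1.1
  have hPO : lineOrbit p A θ 2 n ≤ oq 2 L := by
    refine le_oq_of_layers hPL hP2 fun t ht ht2 => ?_
    haveI := Fact.mk ht
    refine lineOrbit_layer h h3 hn hnc hg hg1 hgood ht2 hL.1 hPL
      (Or.inl fun b hb hb1 hbad _ v hv => ?_)
    obtain ⟨hTb, hb2⟩ := bad_top h h3 (hn hb) hb1 hbad
    by_cases hv2 : v = 2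
    · subst hv2; rw [hb2]; exact bot_le
    haveI := Fact.mk hv
    refine (oq_le_pSup hTb.1 (Solv.inf_le (hn hb) hb1) v).trans
      (hLN _ (pSup_spec h (exists_ne_of_three h3 v)).1 (le_normalizer_two h htwo v ?_))
    intro w N _ hwv hN
    exact hN.pSup_le (Ne.symm hwv)
  refine hPO.trans (le_inf (oq_le_pSup hL.1 hCL 2) (le_iInf fun N => ?_))
  obtain ⟨z, hz2, hN⟩ := N.2
  have hON : oq 2 L ≤ (N : Subgroup G) := hN.oq_le hL.1 hCL (Ne.symm hz2)
  haveI := hN.top.1.1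
  refine le_oq_of_layers hON (oq_isPGroup 2 L) fun t ht ht2 => ?_
  haveI := Fact.mk ht
  refine comm_layer_le (Ne.symm ht2) le_rfl (oq_isPGroup 2 L) le_rfl ?_
    (hON.trans (le_normalizer_layer 2 t _))
  refine (hLN _ (mem_layer_fam hN.top.1 2 t) (le_normalizer_two h htwo t ?_)).trans
    (le_normalizer_oq 2 L)
  intro w N' hw2 hwt hN'
  exact hN'.layer_le hN.top.1 hN.inf_le (Ne.symm hw2) (Ne.symm hwt)

/-- **For at least three primes the intersection for two is trivial.** -/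
theorem qCore_two_eq_bot (h : GHyp p A θ) (h3 : Three A θ) : qCore p A θ 2 = ⊥ := by
  haveI h2 : Fact (Nat.Prime 2) := ⟨Nat.prime_two⟩
  by_contra hT
  obtain ⟨L, hL, hLN⟩ := exists_local_top h (qCore_mem h h3) hT
  obtain ⟨m, hm, -, hgood, x, hx, y, -, hx1, -, -, hnx, -⟩ := exists_good_outside h h3 hT hL
  obtain ⟨k, hk, hkc, hxk⟩ := exists_line_not_mem h.toGSetup (hm hx) hx1
  refine hnx (theta_le_of_lines h (hm hx) hx1 hk hkc hxk fun e he he1 => ?_)
  have hex : e ∉ zpowers x := fun hh =>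
    hxk (zpowers_le.mpr he ((zpowers_eq_of_mem h.elem (hm hx) hh he1).ge (mem_zpowers x)))
  have hn : zpowers x ⊔ zpowers e ≤ A := sup_le (zpowers_le.mpr (hm hx)) (zpowers_le.mpr (hk he))
  have hnc := card_pair h.elem (hm hx) hx1 (hk he) hex
  exact hLN _ (inf_mem_family h.functor hn (line_ne_bot hnc))
    (line_normalizes_two h h3 hL hLN hn hnc (mem_sup_left (mem_zpowers x)) hx1 (hgood x hx hx1))

/-- **For at least three primes all intersections are trivial.** -/
theorem qCore_all_bot (h : GHyp p A θ) (h3 : Three A θ) (q : ℕ) (hq : q.Prime) :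
    qCore p A θ q = ⊥ := by
  haveI := Fact.mk hq
  by_cases hq2 : q = 2
  · subst hq2; exact qCore_two_eq_bot h h3
  · exact qCore_eq_bot_of_odd h h3 hq2

end CfsgLib.Signalizer.Gen
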