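import Cfsg.Agent.Lib.Signalizer.General.Abelian
import Cfsg.Agent.Lib.Signalizer.Solvable.Main

/-!
Owner: helper13. The layers over `O_q` of a solvable subgroup: a `q`-subgroup lies in `O_q` when it
acts trivially on all of them; actions on a layer are detected by the fixed points of operators.
-/

set_option autoImplicit false

namespace CfsgLib.Signalizer.Gen

open Subgroup Solv
open scoped commutatorElement

universe u

variable {G : Type u} [Group G] {q t : ℕ} {M X Y D P T : Subgroup G}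

/-- The projection of the normalizer of `O_q` onto its quotient by `O_q`. -/
def qmk (q : ℕ) (M : Subgroup G) : normalizer (oq q M : Set G) →*
    normalizer (oq q M : Set G) ⧸ (oq q M).subgroupOf (normalizer (oq q M : Set G)) :=
  QuotientGroup.mk' _

/-- The image of a subgroup in that quotient. -/
def qbar (q : ℕ) (M X : Subgroup G) :
    Subgroup (normalizer (oq q M : Set G) ⧸ (oq q M).subgroupOf (normalizer (oq q M : Set G))) :=
  (X.subgroupOf (normalizer (oq q M : Set G))).map (qmk q M)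

/-- The layer of a prime over `O_q`: the preimage of `O_t (M / O_q M)`. -/
def layer (q t : ℕ) (M : Subgroup G) : Subgroup G :=
  ((oq t (qbar q M M)).comap (qmk q M)).map (normalizer (oq q M : Set G)).subtype ⊓ M

theorem qmk_eq_one {x : normalizer (oq q M : Set G)} : qmk q M x = 1 ↔ (x : G) ∈ oq q M :=
  QuotientGroup.eq_one_iff x

theorem le_qN (q : ℕ) (M : Subgroup G) : M ≤ normalizer (oq q M : Set G) := le_normalizer_oq q M

theorem qbar_mono (h : X ≤ Y) : qbar q M X ≤ qbar q M Y := map_mono (comap_mono h)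

theorem layer_le (q t : ℕ) (M : Subgroup G) : layer q t M ≤ M := inf_le_right

theorem mem_layer {x : G} : x ∈ layer q t M ↔
    ∃ hx : x ∈ M, qmk q M ⟨x, le_qN q M hx⟩ ∈ oq t (qbar q M M) := by
  constructor
  · rintro ⟨⟨y, hy, rfl⟩, hxM⟩
    exact ⟨hxM, hy⟩
  · rintro ⟨hx, h⟩
    exact ⟨⟨_, h, rfl⟩, hx⟩

theorem oq_le_layer (q t : ℕ) (M : Subgroup G) : oq q M ≤ layer q t M := fun x hx =>
  mem_layer.mpr ⟨oq_le q M hx, by
    rw [(qmk_eq_one (x := ⟨x, le_qN q M (oq_le q M hx)⟩)).mpr hx]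
    exact one_mem _⟩

theorem qbar_layer_le (q t : ℕ) (M : Subgroup G) : qbar q M (layer q t M) ≤ oq t (qbar q M M) := by
  rintro _ ⟨⟨x, hxN⟩, hx, rfl⟩
  obtain ⟨_, h⟩ := mem_layer.mp (show x ∈ layer q t M from hx)
  exact h

theorem le_qbar_layer (q t : ℕ) (M : Subgroup G) : oq t (qbar q M M) ≤ qbar q M (layer q t M) := by
  intro y hy
  obtain ⟨⟨x, hxN⟩, hx, rfl⟩ := oq_le t _ hy
  exact ⟨⟨x, hxN⟩, mem_layer.mpr ⟨hx, hy⟩, rfl⟩

section Fin

variable [Finite G]

theorem qbar_le_normalizer (hX : X ≤ normalizer (oq q M : Set G)) {g : normalizer (oq q M : Set G)}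
    (hg : (g : G) ∈ normalizer (X : Set G)) :
    qmk q M g ∈ normalizer (qbar q M X : Set _) := by
  refine le_normalizer_map (qmk q M) ⟨g, ?_, rfl⟩
  rw [← subgroupOf_normalizer_eq hX]
  exact hg

theorem normalizer_le_normalizer_layer (q t : ℕ) (M : Subgroup G) :
    normalizer (M : Set G) ≤ normalizer (layer q t M : Set G) := by
  intro g hg
  refine mem_normalizer_of_forall_le fun x hx => ?_
  obtain ⟨hxM, hxl⟩ := mem_layer.mp hx
  have hgN : g ∈ normalizer (oq q M : Set G) := normalizer_le_normalizer_oq q M hg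
  have hm : g * x * g⁻¹ ∈ M := (mem_normalizer_iff.mp hg x).mp hxM
  refine mem_layer.mpr ⟨hm, ?_⟩
  have h := (mem_normalizer_iff.mp (normalizer_le_normalizer_oq t (qbar q M M)
    (qbar_le_normalizer (g := ⟨g, hgN⟩) (le_qN q M) hg)) _).mp hxl
  rwa [← map_inv, ← map_mul, ← map_mul] at h

theorem le_normalizer_layer (q t : ℕ) (M : Subgroup G) :
    M ≤ normalizer (layer q t M : Set G) :=
  le_normalizer.trans (normalizer_le_normalizer_layer q t M)

theorem le_normalizer_layer_of {A : Subgroup G} (hA : A ≤ normalizer (M : Set G)) (q t : ℕ) :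
    A ≤ normalizer (layer q t M : Set G) := hA.trans (normalizer_le_normalizer_layer q t M)

/-- The layer involves only its two primes. -/
theorem layer_primes [hq : Fact q.Prime] [ht : Fact t.Prime] {s : ℕ} (hs : s.Prime)
    (hd : s ∣ Nat.card (layer q t M)) : s = q ∨ s = t := by
  haveI := Fact.mk hs
  obtain ⟨⟨x, hx⟩, hxo⟩ := exists_prime_orderOf_dvd_card' s hd
  obtain ⟨hxM, hxl⟩ := mem_layer.mp hx
  have hxs : orderOf x = s := by rw [← hxo, ← Subgroup.orderOf_coe]
  by_contra hcon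
  push Not at hcon
  have h1 : qmk q M ⟨x, le_qN q M hxM⟩ = 1 := by
    obtain ⟨k, hk⟩ := oq_isPGroup t (qbar q M M) ⟨_, hxl⟩
    have hk' : qmk q M ⟨x, le_qN q M hxM⟩ ^ t ^ k = 1 := by
      simpa using congrArg Subtype.val hk
    have hxp : (⟨x, le_qN q M hxM⟩ : normalizer (oq q M : Set G)) ^ s = 1 := Subtype.ext (by
      show x ^ s = 1
      rw [← hxs]; exact pow_orderOf_eq_one x)
    have hs' : qmk q M ⟨x, le_qN q M hxM⟩ ^ s = 1 := by rw [← map_pow, hxp, map_one]
    refine orderOf_eq_one_iff.mp (Nat.eq_one_of_dvd_coprimes ?_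
      (orderOf_dvd_of_pow_eq_one hk') (orderOf_dvd_of_pow_eq_one hs'))
    exact Nat.Coprime.pow_left k ((Nat.coprime_primes ht.out hs).mpr (Ne.symm hcon.2))
  have h2 : x ∈ oq q M := qmk_eq_one.mp h1
  obtain ⟨k, hk⟩ := oq_isPGroup q M ⟨x, h2⟩
  have hk' : x ^ q ^ k = 1 := congrArg (fun z : oq q M => (z : G)) hk
  have hd' : s ∣ q ^ k := hxs ▸ orderOf_dvd_of_pow_eq_one hk'
  exact hcon.1 ((Nat.prime_dvd_prime_iff_eq hs hq.out).mp (hs.dvd_of_dvd_pow hd'))

theorem isPi_layer [Fact q.Prime] [Fact t.Prime] :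
    Cfsg.IsPiSubgroup {s | s = q ∨ s = t} (layer q t M) := fun _ hs hd => layer_primes hs hd

theorem isPGroup_qbar (hX : IsPGroup q X) : IsPGroup q (qbar q M X) :=
  hX.comap_subtype.map _

/-- `O_q` of the quotient by `O_q` is trivial. -/
theorem oq_qbar_eq_bot (q : ℕ) (M : Subgroup G) : oq q (qbar q M M) = ⊥ := by
  refine (eq_bot_iff_forall _).mpr fun y hy => ?_
  obtain ⟨⟨x, hxN⟩, hx, rfl⟩ := oq_le q _ hy
  refine qmk_eq_one.mpr ?_
  refine le_oq (layer_le q q M) ?_ (le_normalizer_layer q q M) (mem_layer.mpr ⟨hx, hy⟩)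
  intro z
  obtain ⟨hzM, hzl⟩ := mem_layer.mp z.2
  obtain ⟨k, hk⟩ := oq_isPGroup q (qbar q M M) ⟨_, hzl⟩
  have hk' : qmk q M ⟨z, le_qN q M hzM⟩ ^ q ^ k = 1 := by
    simpa using congrArg Subtype.val hk
  rw [← map_pow, qmk_eq_one] at hk'
  obtain ⟨j, hj⟩ := oq_isPGroup q M ⟨_, hk'⟩
  refine ⟨k + j, Subtype.ext ?_⟩
  have hj' : ((z : G) ^ q ^ k) ^ q ^ j = 1 := congrArg (fun w : oq q M => (w : G)) hj
  show (z : G) ^ q ^ (k + j) = 1
  rwa [pow_add, pow_mul]

/-- A `q`-subgroup of a layer lies in `O_q`. -/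
theorem le_oq_of_le_layer [hq : Fact q.Prime] [ht : Fact t.Prime] (hqt : q ≠ t)
    (hX : IsPGroup q X) (hle : X ≤ layer q t M) : X ≤ oq q M := by
  intro x hx
  obtain ⟨hxM, hxl⟩ := mem_layer.mp (hle hx)
  refine (qmk_eq_one (x := ⟨x, le_qN q M hxM⟩)).mp (mem_bot.mp ?_)
  rw [← Solv.inf_eq_bot_of_coprime
    (coprime_pgroups hqt (isPGroup_qbar (M := M) hX) (oq_isPGroup t (qbar q M M)))]
  exact ⟨mem_map_of_mem (qmk q M) (show (⟨x, le_qN q M hxM⟩ : normalizer (oq q M : Set G)) ∈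
    X.subgroupOf _ from hx), hxl⟩

omit [Finite G] in
theorem qbar_comm (hX : X ≤ normalizer (oq q M : Set G)) (hY : Y ≤ normalizer (oq q M : Set G)) :
    qbar q M X ≤ centralizer (qbar q M Y : Set _) ↔ ⁅X, Y⁆ ≤ oq q M := by
  set N := normalizer (oq q M : Set G)
  have he : ⁅X.subgroupOf N, Y.subgroupOf N⁆.map N.subtype = ⁅X, Y⁆ := by
    rw [map_commutator, map_subgroupOf_eq_of_le hX, map_subgroupOf_eq_of_le hY]
  rw [← commutator_eq_bot_iff_le_centralizer, qbar, qbar, ← map_commutator, Subgroup.map_eq_bot_iff]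
  constructor
  · intro h
    rw [← he]
    rintro _ ⟨z, hz, rfl⟩
    exact qmk_eq_one.mp (h hz)
  · intro h z hz
    exact qmk_eq_one.mpr (h (he ▸ mem_map_of_mem N.subtype hz))

/-- A `q`-subgroup acting trivially on every layer lies in `O_q`. -/
theorem le_oq_of_layers [hq : Fact q.Prime] [Group.IsSolvable M] (hD : D ≤ M) (hDq : IsPGroup q D)
    (h : ∀ t : ℕ, t.Prime → t ≠ q → ⁅D, layer q t M⁆ ≤ oq q M) : D ≤ oq q M := by
  haveI : Group.IsSolvable (M.subgroupOf (normalizer (oq q M : Set G))) :=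
    Core.isSolvable_subgroupOf ‹_›
  haveI : Group.IsSolvable (qbar q M M) := Core.isSolvable_map _ inferInstance
  have hle : qbar q M D ≤ oq q (qbar q M M) := by
    refine le_oq_of_centralizes (qbar_mono hD) (isPGroup_qbar hDq) fun s hs => ?_
    by_cases hsq : s = q
    · subst hsq
      rw [oq_qbar_eq_bot]
      exact fun x _ => mem_centralizer_iff.mpr fun y hy => by rw [mem_bot.mp hy, one_mul, mul_one]
    · exact ((qbar_comm (hD.trans (le_qN q M)) ((layer_le q s M).trans (le_qN q M))).mpr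
        (h s hs hsq)).trans (centralizer_le (SetLike.coe_subset_coe.mpr (le_qbar_layer q s M)))
  intro x hx
  rw [oq_qbar_eq_bot] at hle
  exact (qmk_eq_one (x := ⟨x, le_qN q M (hD hx)⟩)).mp
    (mem_bot.mp (hle (mem_map_of_mem _ (show (⟨x, le_qN q M (hD hx)⟩ :
      normalizer (oq q M : Set G)) ∈ D.subgroupOf _ from hx))))

/-- Mutually normalising a layer gives a commutator in `O_q`. -/
theorem comm_layer_le [hq : Fact q.Prime] [ht : Fact t.Prime] (hqt : q ≠ t) (hJ : Y ≤ layer q t M)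
    (hT : IsPGroup q T) (hXT : X ≤ T) (hYT : Y ≤ normalizer (T : Set G))
    (hXJ : X ≤ normalizer (layer q t M : Set G)) : ⁅X, Y⁆ ≤ oq q M := by
  refine le_oq_of_le_layer hqt (hT.to_le ((commutator_mono hXT le_rfl).trans
    (le_normalizer_iff_commutator_le_left.mp hYT))) ?_
  exact (commutator_mono le_rfl hJ).trans (le_normalizer_iff_commutator_le_right.mp hXJ)

variable {p : ℕ} [hp : Fact p.Prime]

/-- A layer is generated by the fixed points of a noncyclic group of operators. -/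
theorem layer_comm_of_fixed {B : Subgroup G} (hB : Cfsg.IsElementaryAbelian p B)
    (hB2 : p ^ 2 ≤ Nat.card B) (hBM : B ≤ normalizer (M : Set G)) (hM : ¬ p ∣ Nat.card M)
    (hDM : D ≤ M) (h : ∀ b ∈ B, b ≠ 1 →
      ⁅D, layer q t M ⊓ centralizer ({b} : Set G)⁆ ≤ oq q M) :
    ⁅D, layer q t M⁆ ≤ oq q M := by
  let S : Subgroup G :=
    { carrier := {j | j ∈ layer q t M ∧ ∀ d ∈ D, ⁅d, j⁆ ∈ oq q M}
      one_mem' := ⟨one_mem _, fun d _ => by simp [commutatorElement_def]⟩
      mul_mem' := by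
        rintro i j ⟨hi, hi'⟩ ⟨hj, hj'⟩
        refine ⟨mul_mem hi hj, fun d hd => ?_⟩
        rw [show ⁅d, i * j⁆ = ⁅d, i⁆ * (i * ⁅d, j⁆ * i⁻¹) by
          simp only [commutatorElement_def]; group]
        exact mul_mem (hi' d hd)
          ((mem_normalizer_iff.mp (le_qN q M (layer_le q t M hi)) _).mp (hj' d hd))
      inv_mem' := by
        rintro j ⟨hj, hj'⟩
        refine ⟨inv_mem hj, fun d hd => ?_⟩
        rw [show ⁅d, j⁻¹⁆ = j⁻¹ * (⁅d, j⁆)⁻¹ * j⁻¹⁻¹ by simp only [commutatorElement_def]; group]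
        exact (mem_normalizer_iff.mp ((normalizer (oq q M : Set G)).inv_mem
          (le_qN q M (layer_le q t M hj))) _).mp (inv_mem (hj' d hd)) }
  haveI := hB.1
  have hS : layer q t M ≤ S := LocalEven.le_of_centralizers_le hB.2 hB2
    (le_normalizer_layer_of hBM q t) (not_dvd_of_le hM (layer_le q t M)) fun b hb hb1 j hj =>
      ⟨hj.1, fun d hd => h b hb hb1 (commutator_mem_commutator hd hj)⟩
  exact commutator_le.mpr fun d hd j hj => (hS hj).2 d hd

/-- A fixed point of an operator on a layer lifts. -/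
theorem exists_layer_lift {a : G} (hap : a ^ p = 1) (haM : a ∈ normalizer (M : Set G))
    (hM : ¬ p ∣ Nat.card M) {y : normalizer (oq q M : Set G) ⧸ (oq q M).subgroupOf _}
    (hy : y ∈ qbar q M (layer q t M))
    (hyc : y ∈ centralizer ({qmk q M ⟨a, normalizer_le_normalizer_oq q M haM⟩} : Set _)) :
    ∃ x : normalizer (oq q M : Set G),
      (x : G) ∈ layer q t M ⊓ centralizer ({a} : Set G) ∧ qmk q M x = y := by
  obtain ⟨k, hk, rfl⟩ := hy
  have haN := normalizer_le_normalizer_oq q M haM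
  have hkk : (k : G)⁻¹ * (a * k * a⁻¹) ∈ oq q M := by
    refine (qmk_eq_one (x := k⁻¹ * (⟨a, haN⟩ * k * ⟨a, haN⟩⁻¹))).mp ?_
    rw [map_mul, map_mul, map_mul, map_inv, map_inv,
      ← mem_centralizer_singleton_iff.mp hyc, mul_inv_cancel_right, inv_mul_cancel]
  obtain ⟨n, hn, hc⟩ := exists_fixed_lift (p := p) hap haN (not_dvd_of_le hM (oq_le q M)) k.2 hkk
  have hnN : n ∈ normalizer (oq q M : Set G) := le_qN q M (oq_le q M hn)
  refine ⟨k * ⟨n, hnN⟩, ⟨mul_mem hk (oq_le_layer q t M hn), hc⟩, ?_⟩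
  rw [map_mul, (qmk_eq_one (x := ⟨n, hnN⟩)).mpr hn, mul_one]

omit [Finite G] in
/-- The image of a commutator with an operator. -/
theorem qbar_commutator_zpowers {a : G} (haN : a ∈ normalizer (oq q M : Set G))
    (hPN : P ≤ normalizer (oq q M : Set G)) :
    qbar q M ⁅P, zpowers a⁆ = ⁅qbar q M P, zpowers (qmk q M ⟨a, haN⟩)⁆ := by
  set N := normalizer (oq q M : Set G)
  have he : ⁅P.subgroupOf N, zpowers (⟨a, haN⟩ : N)⁆.map N.subtype = ⁅P, zpowers a⁆ := by
    rw [map_commutator, map_subgroupOf_eq_of_le hPN, MonoidHom.map_zpowers]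
    rfl
  rw [qbar, qbar, ← MonoidHom.map_zpowers, ← map_commutator, ← he]
  congr 1
  exact comap_map_eq_self_of_injective N.subtype_injective _

/-- The common hypotheses of the two fixed-point principles on a layer. -/
theorem layer_fpf_aux {a : G} (haM : a ∈ normalizer (M : Set G)) (hPM : P ≤ M)
    (hap : a ^ p = 1) (hM : ¬ p ∣ Nat.card M)
    (hfix : ⁅P, layer q t M ⊓ centralizer ({a} : Set G)⁆ ≤ oq q M) :
    oq t (qbar q M M) ⊓ centralizer ({qmk q M ⟨a, normalizer_le_normalizer_oq q M haM⟩} : Set _) ≤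
      centralizer (qbar q M P : Set _) := by
  intro y hy
  obtain ⟨x, hx, rfl⟩ := exists_layer_lift hap haM hM (le_qbar_layer q t M hy.1) hy.2
  refine ((qbar_comm (X := layer q t M ⊓ centralizer ({a} : Set G))
    (inf_le_left.trans ((layer_le q t M).trans (le_qN q M))) (hPM.trans (le_qN q M))).mpr ?_)
    ⟨x, hx, rfl⟩
  rwa [commutator_comm]

theorem comm_layer_of_fpf [hq : Fact q.Prime] [ht : Fact t.Prime] (hqt : q ≠ t) (hqp : q ≠ p)
    (hq2 : q ≠ 2 ∨ IsMulCommutative P) {a : G} (hap : a ^ p = 1)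
    (haM : a ∈ normalizer (M : Set G)) (hM : ¬ p ∣ Nat.card M) (hPM : P ≤ M) (hP : IsPGroup q P)
    (haP : a ∈ normalizer (P : Set G))
    (hfix : ⁅P, layer q t M ⊓ centralizer ({a} : Set G)⁆ ≤ oq q M) :
    ⁅⁅P, zpowers a⁆, layer q t M⁆ ≤ oq q M := by
  have haN : a ∈ normalizer (oq q M : Set G) := normalizer_le_normalizer_oq q M haM
  set ab := qmk q M ⟨a, haN⟩
  set V := oq t (qbar q M M)
  have hV : ¬ p ∣ Nat.card V := fun hd => hM (hd.trans ((card_dvd_of_le (oq_le t _)).trans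
    (((M.subgroupOf _).card_map_dvd _).trans (Nat.card_congr
      (subgroupOfEquivOfLe (le_qN q M)).toEquiv).dvd)))
  have hapb : ab ^ p = 1 := by
    rw [← map_pow, show (⟨a, haN⟩ : normalizer (oq q M : Set G)) ^ p = 1 from Subtype.ext hap,
      map_one]
  have hPV : qbar q M P ≤ normalizer (V : Set _) :=
    (qbar_mono hPM).trans (le_normalizer_oq t _)
  have haV : ab ∈ normalizer (V : Set _) :=
    normalizer_le_normalizer_oq t _ (qbar_le_normalizer (g := ⟨a, haN⟩) (le_qN q M) haM)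
  have haPb : ab ∈ normalizer (qbar q M P : Set _) :=
    qbar_le_normalizer (g := ⟨a, haN⟩) (hPM.trans (le_qN q M)) haP
  have hfix' := layer_fpf_aux haM hPM hap hM hfix
  have hc : ⁅qbar q M P, zpowers ab⁆ ≤ centralizer (V : Set _) := by
    rcases hq2 with h2 | hc
    · exact Solv.comm_centralizes (p := p) h2 hqp hqt _ rfl (oq_isPGroup t _) hV (isPGroup_qbar hP)
        hapb hPV haV haPb hfix'
    · refine comm_centralizes_comm (p := p) hqp hqt _ rfl (oq_isPGroup t _) hV (isPGroup_qbar hP)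
        ⟨⟨?_⟩⟩ hapb hPV haV haPb hfix'
      rintro ⟨_, u, hu, rfl⟩ ⟨_, v, hv, rfl⟩
      refine Subtype.ext ?_
      show qmk q M u * qmk q M v = qmk q M v * qmk q M u
      rw [← map_mul, ← map_mul]
      exact congrArg _ (Subtype.ext (congrArg (fun z : P => (z : G))
        (hc.is_comm.comm ⟨(u : G), hu⟩ ⟨(v : G), hv⟩)))
  refine (qbar_comm (((Solv.comm_le_self haP).trans hPM).trans (le_qN q M))
    ((layer_le q t M).trans (le_qN q M))).mp ?_
  rw [qbar_commutator_zpowers haN (hPM.trans (le_qN q M))]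
  exact hc.trans (centralizer_le (SetLike.coe_subset_coe.mpr (qbar_layer_le q t M)))

/-- An operator trivial on a layer pushes the groups acting on it into the centralizer. -/
theorem comm_layer_of_trivial {a : G} (haM : a ∈ normalizer (M : Set G)) (hPM : P ≤ M)
    (haP : a ∈ normalizer (P : Set G)) (h : ⁅layer q t M, zpowers a⁆ ≤ oq q M) :
    ⁅⁅P, zpowers a⁆, layer q t M⁆ ≤ oq q M := by
  have haN : a ∈ normalizer (oq q M : Set G) := normalizer_le_normalizer_oq q M haM
  refine (qbar_comm (((Solv.comm_le_self haP).trans hPM).trans (le_qN q M))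
    ((layer_le q t M).trans (le_qN q M))).mp ?_
  rw [qbar_commutator_zpowers haN (hPM.trans (le_qN q M))]
  refine Solv.comm_le_centralizer ?_ ?_
  · have h1 : qbar q M (layer q t M) ≤ centralizer ({qmk q M ⟨a, haN⟩} : Set _) := by
      rw [← comm_eq_bot_iff, ← le_bot_iff,
        ← qbar_commutator_zpowers haN ((layer_le q t M).trans (le_qN q M))]
      rintro _ ⟨z, hz, rfl⟩
      exact mem_bot.mpr (qmk_eq_one.mpr (h hz))
    exact Solv.mem_centralizer_of_le h1
  · rintro _ ⟨g, hg, rfl⟩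
    exact qbar_le_normalizer ((layer_le q t M).trans (le_qN q M))
      (le_normalizer_layer q t M (hPM hg))

end Fin

end CfsgLib.Signalizer.Gen
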