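import Cfsg.Agent.Lib.Signalizer.General.Uniqueness
import Cfsg.Agent.Lib.Signalizer.General.Layer
import Cfsg.Agent.Lib.Core.Nilpotent

/-!
Owner: helper13. The `q`-members normalised by the fixed part, the maximal members omitting a prime,
central elements, and the criterion by fixed points on a line.
-/

set_option autoImplicit false
set_option maxHeartbeats 400000

namespace CfsgLib.Signalizer.Gen

open Subgroup Solv
open scoped commutatorElement

universe u

variable {G : Type u} [Group G] [Finite G] {p : ℕ} [hp : Fact p.Prime] {A : Subgroup G}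
  {θ : G → Subgroup G} {M K L X Y D : Subgroup G} {a b g : G} {q r s t x : ℕ}

local notation "Fam" => Cfsg.signalizerFamily p A θ
local notation "C₀" => Cfsg.signalizerInf A θ

/-- The join of the `q`-members normalised by the fixed part. -/
def pSup (p : ℕ) (A : Subgroup G) (θ : G → Subgroup G) (q : ℕ) : Subgroup G :=
  ⨆ Y : {Y : Subgroup G // Y ∈ Cfsg.signalizerFamily p A θ ∧ IsPGroup q Y ∧
    Cfsg.signalizerInf A θ ≤ normalizer (Y : Set G)}, (Y : Subgroup G)

/-- The centre of that join. -/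
def pCent (p : ℕ) (A : Subgroup G) (θ : G → Subgroup G) (q : ℕ) : Subgroup G :=
  pSup p A θ q ⊓ centralizer (pSup p A θ q : Set G)

/-- A maximal member containing the fixed part and all members omitting the prime `x`. -/
structure Base (p : ℕ) (A : Subgroup G) (θ : G → Subgroup G) (x : ℕ) (L : Subgroup G) : Prop where
  top : IsTop p A θ L
  inf_le : Cfsg.signalizerInf A θ ≤ L
  le : ∀ Y ∈ Cfsg.signalizerFamily p A θ, Cfsg.IsPiSubgroup {s | s ≠ x} Y →
    Cfsg.signalizerInf A θ ≤ normalizer (Y : Set G) → Y ≤ L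

omit [Finite G] hp in
theorem le_pSup (hY : Y ∈ Fam) (hYq : IsPGroup q Y) (hC : C₀ ≤ normalizer (Y : Set G)) :
    Y ≤ pSup p A θ q :=
  le_iSup (fun Y : {Y : Subgroup G // Y ∈ Fam ∧ IsPGroup q Y ∧ C₀ ≤ normalizer (Y : Set G)} =>
    (Y : Subgroup G)) ⟨Y, hY, hYq, hC⟩

omit hp in
theorem mem_normalizer_pSup {g : G} (h : ∀ Y : Subgroup G, Y ∈ Fam → IsPGroup q Y →
    C₀ ≤ normalizer (Y : Set G) → g ∈ normalizer (Y : Set G)) :
    g ∈ normalizer (pSup p A θ q : Set G) := by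
  refine mem_normalizer_of_forall_le fun y hy => ?_
  have hle : pSup p A θ q ≤ (pSup p A θ q).comap (MulAut.conj g).toMonoidHom := iSup_le fun Y z hz =>
    le_pSup Y.2.1 Y.2.2.1 Y.2.2.2 ((mem_normalizer_iff.mp (h Y Y.2.1 Y.2.2.1 Y.2.2.2) z).mp hz)
  exact hle hy

omit hp in
theorem inf_le_normalizer_pSup : C₀ ≤ normalizer (pSup p A θ q : Set G) := fun _ hg =>
  mem_normalizer_pSup fun _ _ _ h => h hg

omit hp in
theorem le_normalizer_pSup : A ≤ normalizer (pSup p A θ q : Set G) := fun _ hg =>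
  mem_normalizer_pSup fun _ hY _ _ => fam_norm hY hg

theorem isPi_of_isPGroup [hq : Fact q.Prime] (hX : IsPGroup q X) {π : Set ℕ} (h : q ∈ π) :
    Cfsg.IsPiSubgroup π X := by
  intro r hr hd
  obtain ⟨k, hk⟩ := hX.exists_card_eq
  rw [hk] at hd
  obtain rfl := (Nat.prime_dvd_prime_iff_eq hr hq.out).mp (hr.dvd_of_dvd_pow hd)
  exact h

/-- A member normalised by the fixed part lies in every invariant Sylow subgroup. -/
theorem le_inv_sylow (hS : GSetup p A θ) [hq : Fact q.Prime] (hL : L ∈ Fam) (hY : Y ∈ Fam)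
    (hYL : Y ≤ L) (hYq : IsPGroup q Y) (hC : C₀ ≤ normalizer (Y : Set G)) (P : Sylow q L)
    (hP : A ≤ normalizer ((P : Subgroup L).map L.subtype : Set G)) :
    Y ≤ (P : Subgroup L).map L.subtype := by
  obtain ⟨R, hYR, hRA⟩ := Core.exists_invariant_sylow_ge (fam_norm hL)
    (coprime_card_of_pGroup (elementary_isPGroup hS.elem) (fam_not_dvd hL)) (Or.inr hL.1)
    hYL hYq (fam_norm hY)
  obtain ⟨c, hcA, hc⟩ := Core.invariant_sylow_conj (fam_norm hL)
    (coprime_card_of_pGroup (elementary_isPGroup hS.elem) (fam_not_dvd hL)) (Or.inr hL.1) R P hRA hP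
  have hcC : (c : G) ∈ C₀ :=
    ((family_inf_centralizer_eq hS.functor.1 hL le_rfl).le ⟨c.2, hcA⟩).2
  intro y hy
  obtain ⟨u, hu, he⟩ := hYR ((mem_normalizer_iff''.mp (hC hcC) y).mp hy)
  refine ⟨c * u * c⁻¹, ?_, ?_⟩
  · rw [← hc]
    show c * u * c⁻¹ ∈ ((c • R : Sylow q L) : Subgroup L)
    rw [CfsgLib.Transfer.mem_sylow_smul]
    simp only [mul_assoc, inv_mul_cancel, mul_one, inv_mul_cancel_left]
    exact hu
  · simp only [coe_subtype, Subgroup.coe_mul, InvMemClass.coe_inv] at he ⊢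
    rw [he]; group

/-- The join is a member and a `q`-group when another prime is involved. -/
theorem pSup_spec (h : GHyp p A θ) [hq : Fact q.Prime] (hn : ∃ r, InPi A θ r ∧ r ≠ q) :
    pSup p A θ q ∈ Fam ∧ IsPGroup q (pSup p A θ q) := by
  obtain ⟨r, hr, hrq⟩ := hn
  obtain ⟨W, hW, hWmax⟩ := h.sub {q} r hr (fun e => hrq e)
  have hle : pSup p A θ q ≤ W := iSup_le fun Y =>
    hWmax Y Y.2.1 (isPi_of_isPGroup Y.2.2.1 rfl) Y.2.2.2
  have hf := family_of_le hW hle le_normalizer_pSup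
  obtain ⟨P, hP⟩ := Core.exists_invariant_sylow (fam_norm hf)
    (coprime_card_of_pGroup (elementary_isPGroup h.elem) (fam_not_dvd hf)) (Or.inr hf.1) q
  refine ⟨hf, (P.isPGroup'.map (pSup p A θ q).subtype).to_le (iSup_le fun Y => ?_)⟩
  exact le_inv_sylow h.toGSetup hf Y.2.1 (le_pSup Y.2.1 Y.2.2.1 Y.2.2.2) Y.2.2.1 Y.2.2.2 P hP

theorem exists_base (h : GHyp p A θ) (hx : InPi A θ x) : ∃ L, Base p A θ x L := by
  obtain ⟨W, hW, hWmax⟩ := h.sub {s | s ≠ x} x hx (fun e => e rfl)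
  set S : Subgroup G := ⨆ Y : {Y : Subgroup G // Y ∈ Fam ∧ Cfsg.IsPiSubgroup {s | s ≠ x} Y ∧
    C₀ ≤ normalizer (Y : Set G)}, (Y : Subgroup G) with hS
  have hmem : ∀ {Y : Subgroup G}, Y ∈ Fam → Cfsg.IsPiSubgroup {s | s ≠ x} Y →
      C₀ ≤ normalizer (Y : Set G) → Y ≤ S := fun h1 h2 h3 =>
    le_iSup (fun Y : {Y : Subgroup G // Y ∈ Fam ∧ Cfsg.IsPiSubgroup {s | s ≠ x} Y ∧
      C₀ ≤ normalizer (Y : Set G)} => (Y : Subgroup G)) ⟨_, h1, h2, h3⟩
  have hnorm : ∀ {g : G}, (∀ Y : Subgroup G, Y ∈ Fam → C₀ ≤ normalizer (Y : Set G) →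
      g ∈ normalizer (Y : Set G)) → g ∈ normalizer (S : Set G) := by
    intro g hg
    refine mem_normalizer_of_forall_le fun y hy => ?_
    have hle : S ≤ S.comap (MulAut.conj g).toMonoidHom := iSup_le fun Y z hz =>
      hmem Y.2.1 Y.2.2.1 Y.2.2.2 ((mem_normalizer_iff.mp (hg Y Y.2.1 Y.2.2.2) z).mp hz)
    exact hle hy
  have hSf : S ∈ Fam := family_of_le hW (iSup_le fun Y => hWmax Y Y.2.1 Y.2.2.1 Y.2.2.2)
    fun g hg => hnorm fun Y hY _ => fam_norm hY hg
  have hSC : S ⊔ C₀ ∈ Fam :=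
    family_sup h.elem hSf (inf_mem h.toGSetup) fun c hc => hnorm fun Y _ h3 => h3 hc
  obtain ⟨L, hL, hle⟩ := exists_top hSC
  exact ⟨L, hL, le_sup_right.trans hle, fun Y h1 h2 h3 => (hmem h1 h2 h3).trans
    (le_sup_left.trans hle)⟩

omit [Finite G] hp in
theorem inf_le_normalizer (hM : C₀ ≤ M) (hX : M ≤ normalizer (X : Set G)) :
    C₀ ≤ normalizer (X : Set G) := hM.trans hX

theorem oq_le_pSup (hM : M ∈ Fam) (hC : C₀ ≤ M) (q : ℕ) : oq q M ≤ pSup p A θ q :=
  le_pSup (mem_oq hM q) (oq_isPGroup q M) (hC.trans (le_normalizer_oq q M))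

theorem Base.pSup_le (hL : Base p A θ x L) [hq : Fact q.Prime] (hqx : q ≠ x) :
    pSup p A θ q ≤ L :=
  iSup_le fun Y => hL.le Y Y.2.1 (isPi_of_isPGroup Y.2.2.1 hqx) Y.2.2.2

theorem Base.oq_le (hL : Base p A θ x L) (hM : M ∈ Fam) (hC : C₀ ≤ M) [hq : Fact q.Prime]
    (hqx : q ≠ x) : oq q M ≤ L :=
  (oq_le_pSup hM hC q).trans (hL.pSup_le hqx)

theorem mem_layer_fam (hM : M ∈ Fam) (q t : ℕ) : layer q t M ∈ Fam :=
  family_of_le hM (layer_le q t M) (le_normalizer_layer_of (fam_norm hM) q t)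

theorem Base.layer_le (hL : Base p A θ x L) (hM : M ∈ Fam) (hC : C₀ ≤ M) [hq : Fact q.Prime]
    [ht : Fact t.Prime] (hqx : q ≠ x) (htx : t ≠ x) : layer q t M ≤ L :=
  hL.le _ (mem_layer_fam hM q t)
    (fun s hs hd => by rcases layer_primes hs hd with rfl | rfl <;> assumption)
    (hC.trans (le_normalizer_layer q t M))

/-- Two cores for different primes normalising each other commute. -/
theorem oq_comm_of_le (hs : s.Prime) (ht : t.Prime) (hst : s ≠ t) (h1 : oq s M ≤ K)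
    (h2 : oq t K ≤ M) : oq s M ≤ centralizer (oq t K : Set G) :=
  (le_inf le_rfl h1).trans ((inter_core_comm hs ht hst).trans
    (centralizer_le (SetLike.coe_subset_coe.mpr (le_inf le_rfl h2))))

/-! ### Central elements -/

theorem pCent_mem (h : GHyp p A θ) [hq : Fact q.Prime] (hn : ∃ r, InPi A θ r ∧ r ≠ q) :
    pCent p A θ q ∈ Fam :=
  mem_inf (pSup_spec h hn).1
    (le_normalizer_pSup.trans (normalizer_le_normalizer_centralizer_set _))

omit hp in
theorem inf_le_normalizer_pCent : C₀ ≤ normalizer (pCent p A θ q : Set G) :=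
  (le_inf inf_le_normalizer_pSup (inf_le_normalizer_pSup.trans
    (normalizer_le_normalizer_centralizer_set _))).trans inf_normalizer_le_normalizer_inf

omit [Finite G] hp in
theorem pCent_le_centralizer (hX : X ≤ pSup p A θ q) :
    pCent p A θ q ≤ centralizer (X : Set G) :=
  inf_le_right.trans (centralizer_le (SetLike.coe_subset_coe.mpr hX))

theorem pCent_le_top (h : GHyp p A θ) [hq : Fact q.Prime] (hn : ∃ r, InPi A θ r ∧ r ≠ q)
    (hM : IsTop p A θ M) (hC : C₀ ≤ M) (hne : oq q M ≠ ⊥) : pCent p A θ q ≤ M :=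
  le_top_of_centralizes_oq h hM hne (pCent_mem h hn) (pCent_le_centralizer (oq_le_pSup hM.1 hC q))

/-- A central subgroup lies in `O_q` as soon as it centralises the other cores. -/
theorem le_oq_of_pCent [hq : Fact q.Prime] (hM : M ∈ Fam) (hC : C₀ ≤ M) (hX : X ≤ M)
    (hXZ : X ≤ pCent p A θ q) (hXq : IsPGroup q X)
    (hc : ∀ s : ℕ, s.Prime → s ≠ q → X ≤ centralizer (oq s M : Set G)) : X ≤ oq q M := by
  haveI := hM.1
  refine le_oq_of_centralizes hX hXq fun s hs => ?_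
  by_cases hsq : s = q
  · subst hsq
    exact hXZ.trans (pCent_le_centralizer (oq_le_pSup hM hC s))
  · exact hc s hs hsq

/-- A nontrivial normal subgroup of the join meets the centre. -/
theorem pCent_inf_ne_bot (h : GHyp p A θ) [hq : Fact q.Prime] (hn : ∃ r, InPi A θ r ∧ r ≠ q)
    (hX : X ≤ pSup p A θ q) (hN : pSup p A θ q ≤ normalizer (X : Set G)) (hne : X ≠ ⊥) :
    pCent p A θ q ⊓ X ≠ ⊥ := by
  haveI : (X.subgroupOf (pSup p A θ q)).Normal :=
    (normal_subgroupOf_iff_le_normalizer hX).mpr hN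
  have h1 : X.subgroupOf (pSup p A θ q) ≠ ⊥ := fun e => hne (by
    rw [← map_subgroupOf_eq_of_le hX, e, Subgroup.map_bot])
  haveI := (pSup_spec h hn).2.isNilpotent
  intro hbot
  refine Core.inf_center_ne_bot_of_isNilpotent (X.subgroupOf (pSup p A θ q)) h1
    ((eq_bot_iff_forall _).mpr fun z hz => Subtype.ext ?_)
  refine (eq_bot_iff_forall _).mp hbot z ⟨⟨z.2, mem_centralizer_iff.mpr fun y hy => ?_⟩, hz.1⟩
  exact congrArg Subtype.val (mem_center_iff.mp hz.2 ⟨y, hy⟩)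

/-! ### The criterion by fixed points -/

/-- A subgroup inside `O_q` of members above every point of a line is in `O_q` wherever it lies. -/
theorem criterion (hS : GSetup p A θ) [hq : Fact q.Prime] {k : Subgroup G} (hk : k ≤ A)
    (hkc : Nat.card k = p ^ 2)
    (hD : ∀ g ∈ k, g ≠ 1 → ∃ K ∈ Fam, θ g ≤ K ∧ D ≤ oq q K) (hM : M ∈ Fam) (hDM : D ≤ M) :
    D ≤ oq q M := by
  haveI := hM.1
  have hDq : IsPGroup q D := by
    obtain ⟨g, hg, hg1⟩ := exists_ne_one_of_sq_le hkc.ge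
    obtain ⟨K, -, -, hDK⟩ := hD g hg hg1
    exact (oq_isPGroup q K).to_le hDK
  refine le_oq_of_layers hDM hDq fun t ht htq => ?_
  haveI := Fact.mk ht
  refine layer_comm_of_fixed (elementary_of_le hS.elem hk) hkc.ge (hk.trans (fam_norm hM))
    (fam_not_dvd hM) hDM fun g hg hg1 => ?_
  obtain ⟨K, hK, hgK, hDK⟩ := hD g hg hg1
  refine comm_layer_le (Ne.symm htq) inf_le_left (oq_isPGroup q K) hDK ?_
    (hDM.trans (le_normalizer_layer q t M))
  intro y hy
  exact le_normalizer_oq q K (hgK (fam_fix hM (hk hg) hg1 ⟨Gen.layer_le q t M hy.1, hy.2⟩))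

end CfsgLib.Signalizer.Gen
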