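import Cfsg.Agent.Lib.Signalizer.General.Core

/-!
Owner: helper13. Lines of operators acting on an intersection of cores: the conjugates of the
intersection under the fixed part of a line, and the bad points of a line.
-/

set_option autoImplicit false
set_option maxHeartbeats 400000

namespace CfsgLib.Signalizer.Gen

open Subgroup Solv
open scoped commutatorElement

universe u

variable {G : Type u} [Group G] [Finite G] {p : ℕ} [hp : Fact p.Prime] {A : Subgroup G}
  {θ : G → Subgroup G} {M K X Y V P D U n : Subgroup G} {a b g : G} {q r s t : ℕ}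

local notation "Fam" => Cfsg.signalizerFamily p A θ
local notation "C₀" => Cfsg.signalizerInf A θ

/-! ### General tools -/

/-- A member is generated by the fixed points of the points of a line. -/
theorem gen_le (hS : GSetup p A θ) (hX : X ∈ Fam) {k : Subgroup G} (hk : k ≤ A)
    (hkc : Nat.card k = p ^ 2)
    (h : ∀ g ∈ k, g ≠ 1 → X ⊓ centralizer ({g} : Set G) ≤ Y) : X ≤ Y :=
  haveI := (elementary_of_le hS.elem hk).1
  LocalEven.le_of_centralizers_le (elementary_of_le hS.elem hk).2 hkc.ge (hk.trans (fam_norm hX))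
    (fam_not_dvd hX) h

omit [Finite G] in
theorem line_ne_bot {k : Subgroup G} (hkc : Nat.card k = p ^ 2) : k ≠ ⊥ := fun e => by
  rw [e, card_bot] at hkc
  exact absurd hkc.symm (Nat.one_lt_pow two_ne_zero hp.out.one_lt).ne'

/-- A nontrivial member has a line of nontrivial fixed points. -/
theorem exists_fixing_line (hS : GSetup p A θ) (hX : X ∈ Fam) (hne : X ≠ ⊥) :
    ∃ m : Subgroup G, m ≤ A ∧ Nat.card m = p ^ 2 ∧ X ⊓ centralizer (m : Set G) ≠ ⊥ := by
  obtain ⟨b, hb, hb1⟩ := exists_ne_one_of_sq_le (card_A_ge hS)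
  obtain ⟨B, hBA, hB, -⟩ := exists_line_mem hS hb hb1
  have hex : ∃ a ∈ B, a ≠ 1 ∧ X ⊓ centralizer ({a} : Set G) ≠ ⊥ := by
    by_contra hcon
    push Not at hcon
    exact hne (le_bot_iff.mp (gen_le hS hX hBA hB fun g hg hg1 => (hcon g hg hg1).le))
  obtain ⟨a, haB, ha1, hne'⟩ := hex
  have ha := hBA haB
  obtain ⟨k, hk, hkc, hak⟩ := exists_line_not_mem hS ha ha1
  have hY : X ⊓ centralizer ({a} : Set G) ∈ Fam :=
    mem_inf hX (le_normalizer_centralizer_of_le hS.elem (Set.singleton_subset_iff.mpr ha))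
  by_contra hcon
  push Not at hcon
  refine hne' (le_bot_iff.mp (gen_le hS hY hk hkc fun g hg hg1 => ?_))
  have hga : g ∉ zpowers a := fun hh =>
    hak (zpowers_le.mpr hg ((zpowers_eq_of_mem hS.elem ha hh hg1).ge (mem_zpowers a)))
  rw [← hcon (zpowers a ⊔ zpowers g) (sup_le (zpowers_le.mpr ha) (zpowers_le.mpr (hk hg)))
    (card_pair hS.elem ha ha1 (hk hg) hga)]
  exact le_inf (inf_le_left.trans inf_le_left)
    (le_centralizer_pair (inf_le_left.trans inf_le_right) inf_le_right)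

/-- Commutators of a join with values in a normalised subgroup. -/
theorem comm_sup_le {J N : Subgroup G} (hX : X ≤ normalizer (N : Set G))
    (hY : Y ≤ normalizer (N : Set G)) (h1 : ⁅X, J⁆ ≤ N) (h2 : ⁅Y, J⁆ ≤ N) : ⁅X ⊔ Y, J⁆ ≤ N := by
  let S : Subgroup G :=
    { carrier := {x | x ∈ normalizer (N : Set G) ∧ ∀ j ∈ J, ⁅x, j⁆ ∈ N}
      one_mem' := ⟨one_mem _, fun j _ => by simp⟩
      mul_mem' := by
        rintro x y ⟨hx, hx'⟩ ⟨hy, hy'⟩
        refine ⟨mul_mem hx hy, fun j hj => ?_⟩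
        rw [show ⁅x * y, j⁆ = x * ⁅y, j⁆ * x⁻¹ * ⁅x, j⁆ by
          simp only [commutatorElement_def]; group]
        exact mul_mem ((mem_normalizer_iff.mp hx _).mp (hy' j hj)) (hx' j hj)
      inv_mem' := by
        rintro x ⟨hx, hx'⟩
        refine ⟨inv_mem hx, fun j hj => ?_⟩
        rw [show ⁅x⁻¹, j⁆ = x⁻¹ * ⁅x, j⁆⁻¹ * x⁻¹⁻¹ by simp only [commutatorElement_def]; group]
        exact (mem_normalizer_iff.mp (inv_mem hx) _).mp (inv_mem (hx' j hj)) }
  have hle : X ⊔ Y ≤ S := sup_le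
    (fun x hx => ⟨hX hx, fun j hj => h1 (commutator_mem_commutator hx hj)⟩)
    (fun x hx => ⟨hY hx, fun j hj => h2 (commutator_mem_commutator hx hj)⟩)
  exact commutator_le.mpr fun x hx j hj => (hle hx).2 j hj

/-- The conjugates of a subgroup under another one. -/
def orbit (T Θ : Subgroup G) : Subgroup G := T ⊔ ⁅T, Θ⁆

omit [Finite G] in
theorem le_orbit (T Θ : Subgroup G) : T ≤ orbit T Θ := le_sup_left

omit [Finite G] in
theorem orbit_le (hT : X ≤ Y) (hΘ : U ≤ normalizer (Y : Set G)) : orbit X U ≤ Y :=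
  sup_le hT ((commutator_mono hT le_rfl).trans (le_normalizer_iff_commutator_le_left.mp hΘ))

theorem le_normalizer_orbit_right (T Θ : Subgroup G) : Θ ≤ normalizer (orbit T Θ : Set G) := by
  intro x hx
  refine mem_normalizer_of_forall_le fun y hy => ?_
  have hle : orbit T Θ ≤ (orbit T Θ).comap (MulAut.conj x).toMonoidHom := by
    refine sup_le (fun z hz => ?_) (fun z hz => ?_)
    · show x * z * x⁻¹ ∈ orbit T Θ
      rw [show x * z * x⁻¹ = ⁅x, z⁆ * z by simp only [commutatorElement_def]; group]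
      refine mul_mem (mem_sup_right ?_) (mem_sup_left hz)
      rw [commutator_comm]
      exact commutator_mem_commutator hx hz
    · exact mem_sup_right
        ((mem_normalizer_iff.mp (normalizer_commutator_ge_right T Θ hx) z).mp hz)
  exact hle hy

theorem le_normalizer_orbit (hX : D ≤ normalizer (X : Set G)) (hU : D ≤ normalizer (U : Set G)) :
    D ≤ normalizer (orbit X U : Set G) := by
  intro d hd
  refine mem_normalizer_of_forall_le fun y hy => ?_
  have hm : (orbit X U).map (MulAut.conj d).toMonoidHom = orbit X U := by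
    rw [orbit, Subgroup.map_sup, map_commutator,
      LocalEvenB.map_conj_eq_self_iff_mem_normalizer.mpr (hX hd),
      LocalEvenB.map_conj_eq_self_iff_mem_normalizer.mpr (hU hd)]
  exact hm ▸ mem_map_of_mem (MulAut.conj d).toMonoidHom hy

/-- Centralised operators which move all of a subgroup move all of its conjugates. -/
theorem orbit_comm {T Θ : Subgroup G} (hT : ⁅T, zpowers b⁆ = T)
    (hΘ : Θ ≤ centralizer ({b} : Set G)) (hb : b ∈ normalizer (orbit T Θ : Set G)) :
    ⁅orbit T Θ, zpowers b⁆ = orbit T Θ := by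
  refine le_antisymm (Solv.comm_le_self hb) (orbit_le ?_ ?_)
  · exact hT.ge.trans (commutator_mono (le_orbit T Θ) le_rfl)
  · exact (le_inf (le_normalizer_orbit_right T Θ) hΘ).trans (fun x hx =>
      inf_centralizer_le_normalizer_comm le_rfl b hx)

/-- An operator trivial on a quotient of `V` pushes the groups it moves into the kernel. -/
theorem comm_le_of_trivial_mod {W : Subgroup G} (hPV : P ≤ normalizer (V : Set G))
    (hPW : P ≤ normalizer (W : Set G)) (hbV : b ∈ normalizer (V : Set G))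
    (hbW : b ∈ normalizer (W : Set G)) (hVW : V ≤ normalizer (W : Set G))
    (h : ⁅V, zpowers b⁆ ≤ W) (hbP : b ∈ normalizer (P : Set G)) : ⁅⁅P, zpowers b⁆, V⁆ ≤ W := by
  let N := normalizer (V : Set G) ⊓ normalizer (W : Set G)
  let S : Subgroup G :=
    { carrier := {x | x ∈ N ∧ ∀ v ∈ V, ⁅x, v⁆ ∈ W}
      one_mem' := ⟨one_mem _, fun j _ => by simp⟩
      mul_mem' := by
        rintro x y ⟨hx, hx'⟩ ⟨hy, hy'⟩
        refine ⟨mul_mem hx hy, fun j hj => ?_⟩
        rw [show ⁅x * y, j⁆ = x * ⁅y, j⁆ * x⁻¹ * ⁅x, j⁆ by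
          simp only [commutatorElement_def]; group]
        exact mul_mem ((mem_normalizer_iff.mp hx.2 _).mp (hy' j hj)) (hx' j hj)
      inv_mem' := by
        rintro x ⟨hx, hx'⟩
        refine ⟨inv_mem hx, fun j hj => ?_⟩
        rw [show ⁅x⁻¹, j⁆ = x⁻¹ * ⁅x, j⁆⁻¹ * x⁻¹⁻¹ by simp only [commutatorElement_def]; group]
        exact (mem_normalizer_iff.mp (inv_mem hx.2) _).mp (inv_mem (hx' j hj)) }
  have hb : zpowers b ≤ S := zpowers_le.mpr ⟨⟨hbV, hbW⟩, fun v hv => by
    have := h (commutator_mem_commutator hv (mem_zpowers b))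
    simpa using inv_mem this⟩
  have hSN : ∀ x ∈ N, ∀ y ∈ S, x * y * x⁻¹ ∈ S := fun x hx y hy =>
    ⟨mul_mem (mul_mem hx hy.1) (inv_mem hx), fun v hv => by
      have hv' : x⁻¹ * v * x ∈ V := (mem_normalizer_iff''.mp hx.1 v).mp hv
      rw [show ⁅x * y * x⁻¹, v⁆ = x * ⁅y, x⁻¹ * v * x⁆ * x⁻¹ by
        simp only [commutatorElement_def]; group]
      exact (mem_normalizer_iff.mp hx.2 _).mp (hy.2 _ hv')⟩
  have hle : ⁅P, zpowers b⁆ ≤ S := commutator_le.mpr fun x hx y hy => by
    rw [show ⁅x, y⁆ = (x * y * x⁻¹) * y⁻¹ by simp only [commutatorElement_def]]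
    exact mul_mem (hSN x ⟨hPV hx, hPW hx⟩ y (hb hy)) (inv_mem (hb hy))
  exact commutator_le.mpr fun x hx v hv => (hle hx).2 v hv

/-- One exceptional point on a line: `P` centralises what all the other points fix. -/
theorem centralizes_of_one_bad (hB : Cfsg.IsElementaryAbelian p n) (hn : p ^ 2 ≤ Nat.card n)
    (hVs : Group.IsSolvable V) (hV : ¬ p ∣ Nat.card V) (hnV : n ≤ normalizer (V : Set G))
    (hcop : (Nat.card P).Coprime (Nat.card V)) (hPV : P ≤ normalizer (V : Set G)) (hb : b ∈ n)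
    (hbP : b ∈ normalizer (P : Set G)) (hP : ⁅P, zpowers b⁆ = P)
    (h : ∀ e ∈ n, e ∉ zpowers b → V ⊓ centralizer ({e} : Set G) ≤ centralizer (P : Set G)) :
    P ≤ centralizer (V : Set G) := by
  set W := ⁅V, zpowers b⁆ with hW
  have hWP : W ≤ centralizer (P : Set G) := comm_le_of_fixed hB hn hVs hV hnV hb
    fun e he heb => by
      refine (commutator_mono (h e he heb) le_rfl).trans (Solv.comm_le_self ?_)
      exact normalizer_le_normalizer_centralizer_set _ hbP
  have hPW : P ≤ normalizer (W : Set G) :=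
    (le_centralizer_iff.mp hWP).trans (centralizer_le_normalizer _)
  have hVP : ⁅P, V⁆ ≤ W := by
    have := comm_le_of_trivial_mod hPV hPW (hnV hb)
      (normalizer_commutator_ge_right V (zpowers b) (mem_zpowers b))
      (normalizer_commutator_ge_left V (zpowers b)) le_rfl hbP
    rwa [hP] at this
  have h2 : ⁅⁅V, P⁆, P⁆ = ⊥ := commutator_eq_bot_iff_le_centralizer.mpr
    ((commutator_comm V P).le.trans (hVP.trans hWP))
  rw [Core.commutator_commutator_eq hPV hcop (Or.inr hVs)] at h2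
  exact le_centralizer_iff.mp (commutator_eq_bot_iff_le_centralizer.mp h2)

/-- The same on the layers of a member. -/
theorem comm_layer_of_one_bad [hq : Fact q.Prime] [ht : Fact t.Prime] (hqt : q ≠ t)
    (hB : Cfsg.IsElementaryAbelian p n) (hn : Nat.card n = p ^ 2) (hM : ¬ p ∣ Nat.card M)
    (hnM : n ≤ normalizer (M : Set G)) (hPM : P ≤ M) (hP : IsPGroup q P)
    (hb : b ∈ n) (hbP : b ∈ normalizer (P : Set G)) (hPb : ⁅P, zpowers b⁆ = P)
    (h : ∀ e ∈ n, e ∉ zpowers b → ⁅P, layer q t M ⊓ centralizer ({e} : Set G)⁆ ≤ oq q M) :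
    ⁅P, layer q t M⁆ ≤ oq q M := by
  have hnN : n ≤ normalizer (oq q M : Set G) := hnM.trans (normalizer_le_normalizer_oq q M)
  set V := oq t (qbar q M M) with hVd
  set nb := qbar q M n with hnb
  set Pb := qbar q M P with hPbd
  have hmem : ∀ (e : G) (he : e ∈ n), qmk q M ⟨e, hnN he⟩ ∈ nb := fun e he =>
    mem_map_of_mem (qmk q M) (show (⟨e, hnN he⟩ : normalizer (oq q M : Set G)) ∈ n.subgroupOf _
      from he)
  have hinj : ∀ x : normalizer (oq q M : Set G), (x : G) ∈ n → qmk q M x = 1 → x = 1 := by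
    intro x hx hx1
    refine Subtype.ext ?_
    by_contra hne
    have h1 : (x : G) ∈ M := oq_le q M (qmk_eq_one.mp hx1)
    have h2 := orderOf_dvd_natCard (⟨(x : G), h1⟩ : M)
    rw [← Subgroup.orderOf_coe] at h2
    exact hM ((elementary_orderOf hB hx hne) ▸ h2)
  have hcard : Nat.card nb = p ^ 2 := by
    rw [← hn, ← Nat.card_congr (subgroupOfEquivOfLe hnN).toEquiv]
    refine (Nat.card_eq_of_bijective _ ⟨fun u v huv => ?_, (qmk q M).subgroupMap_surjective _⟩).symm
    have h1 := congrArg Subtype.val huv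
    have h2 : qmk q M ((u : normalizer (oq q M : Set G))⁻¹ * v) = 1 := by
      rw [map_mul, map_inv]
      exact inv_mul_eq_one.mpr h1
    exact Subtype.ext (inv_mul_eq_one.mp (hinj _ (mul_mem (inv_mem u.2) v.2) h2))
  have hnel : Cfsg.IsElementaryAbelian p nb := by
    refine ⟨⟨⟨?_⟩⟩, ?_⟩
    · rintro ⟨_, u, hu, rfl⟩ ⟨_, v, hv, rfl⟩
      refine Subtype.ext ?_
      show qmk q M u * qmk q M v = qmk q M v * qmk q M u
      rw [← map_mul, ← map_mul]
      exact congrArg _ (Subtype.ext (elementary_comm hB hu hv))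
    · rintro _ ⟨u, hu, rfl⟩
      rw [← map_pow, show u ^ p = 1 from Subtype.ext (hB.2 _ hu), map_one]
  have hVp : ¬ p ∣ Nat.card V := fun hd => hM (hd.trans ((card_dvd_of_le (oq_le t _)).trans
    (((M.subgroupOf _).card_map_dvd _).trans (Nat.card_congr
      (subgroupOfEquivOfLe (le_qN q M)).toEquiv).dvd)))
  haveI := (oq_isPGroup t (qbar q M M)).isNilpotent
  have hnV : nb ≤ normalizer (V : Set _) := by
    rintro _ ⟨u, hu, rfl⟩
    exact normalizer_le_normalizer_oq t _ (qbar_le_normalizer (g := u) (le_qN q M) (hnM hu))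
  have hbN := hnN hb
  have hPN : P ≤ normalizer (oq q M : Set G) := hPM.trans (le_qN q M)
  refine (qbar_comm hPN ((layer_le q t M).trans (le_qN q M))).mp ?_
  refine le_trans ?_ (centralizer_le (SetLike.coe_subset_coe.mpr (qbar_layer_le q t M)))
  refine centralizes_of_one_bad (b := qmk q M ⟨b, hbN⟩) hnel hcard.ge inferInstance hVp hnV
    (coprime_pgroups hqt (isPGroup_qbar hP) (oq_isPGroup t _))
    ((qbar_mono hPM).trans (le_normalizer_oq t _)) (hmem b hb)
    (qbar_le_normalizer (g := ⟨b, hbN⟩) hPN hbP) ?_ ?_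
  · rw [← qbar_commutator_zpowers hbN hPN, hPb]
  · rintro _ ⟨⟨e, heN⟩, he, rfl⟩ heb
    have heM : e ∈ normalizer (M : Set G) := hnM he
    refine layer_fpf_aux heM hPM (hB.2 e he) hM (h e he fun hh => heb ?_)
    obtain ⟨j, hj⟩ := mem_zpowers_iff.mp hh
    refine mem_zpowers_iff.mpr ⟨j, ?_⟩
    rw [← map_zpow]
    exact congrArg _ (Subtype.ext hj)

/-! ### Good and bad points -/

/-- A point below a maximal member with a `q`-core. -/
def GoodPt (p : ℕ) (A : Subgroup G) (θ : G → Subgroup G) (q : ℕ) (a : G) : Prop :=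
  ∃ K, IsTop p A θ K ∧ θ a ≤ K ∧ oq q K ≠ ⊥

theorem qCore_le_good (h : GHyp p A θ) (h3 : Three A θ) [hq : Fact q.Prime] (ha : a ∈ A)
    (ha1 : a ≠ 1) {K : Subgroup G} (hK : IsTop p A θ K) (haK : θ a ≤ K) (hne : oq q K ≠ ⊥) :
    qCore p A θ q ≤ oq q K :=
  qCore_le_oq h h3 hK (inf_le_of_theta_le ha ha1 haK) hne

theorem qCore_inf_bad (h : GHyp p A θ) (h3 : Three A θ) [hq : Fact q.Prime] (hb : b ∈ A)
    (hb1 : b ≠ 1) (hbad : ¬ GoodPt p A θ q b) :
    qCore p A θ q ⊓ centralizer ({b} : Set G) = ⊥ := by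
  obtain ⟨K, hK, hbK⟩ := exists_top (theta_mem_family h.functor hb hb1)
  have h0 : oq q K = ⊥ := by
    by_contra hne
    exact hbad ⟨K, hK, hbK, hne⟩
  refine le_bot_iff.mp (h0 ▸ qCore_inf_le h h3 hK.1 (inf_le_of_theta_le hb hb1 hbK) inf_le_left ?_)
  exact (fam_fix (qCore_mem h h3) hb hb1).trans hbK

theorem qCore_comm_bad (h : GHyp p A θ) (h3 : Three A θ) [hq : Fact q.Prime] (hb : b ∈ A)
    (hb1 : b ≠ 1) (hbad : ¬ GoodPt p A θ q b) :
    ⁅qCore p A θ q, zpowers b⁆ = qCore p A θ q := by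
  have := Core.commutator_sup_centralizer (A := zpowers b)
    (zpowers_le.mpr (fam_norm (qCore_mem (q := q) h h3) hb))
    (by rw [Nat.card_zpowers]; exact coprime_orderOf h.toGSetup (qCore_mem (q := q) h h3) hb)
    (Or.inl inferInstance)
  rwa [centralizer_zpowers, qCore_inf_bad h h3 hb hb1 hbad, sup_bot_eq] at this

/-- The conjugates of the intersection under the fixed part of a line. -/
abbrev lineOrbit (p : ℕ) (A : Subgroup G) (θ : G → Subgroup G) (q : ℕ) (n : Subgroup G) :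
    Subgroup G :=
  orbit (qCore p A θ q) (Cfsg.signalizerInf n θ)

section Line

variable (h : GHyp p A θ) (h3 : Three A θ) [hq : Fact q.Prime] (hn : n ≤ A)
  (hnc : Nat.card n = p ^ 2)
include h h3 hn hnc

theorem inf_le_lineInf : C₀ ≤ Cfsg.signalizerInf n θ := fun _ hx =>
  mem_inf_iff.mpr fun b hb hb1 => Solv.inf_le (hn hb) hb1 hx

theorem lineOrbit_A : A ≤ normalizer (lineOrbit p A θ q n : Set G) :=
  le_normalizer_orbit le_normalizer_qCore
    (fam_norm (inf_mem_family h.functor hn (line_ne_bot hnc)))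

theorem lineOrbit_le_oq {K : Subgroup G} (hg : g ∈ n) (hg1 : g ≠ 1) (hK : IsTop p A θ K)
    (hgK : θ g ≤ K) (hne : oq q K ≠ ⊥) : lineOrbit p A θ q n ≤ oq q K :=
  orbit_le (qCore_le_good h h3 (hn hg) hg1 hK hgK hne)
    (((inf_le_theta hg hg1).trans hgK).trans (le_normalizer_oq q K))

theorem lineOrbit_spec (hg : g ∈ n) (hg1 : g ≠ 1) (hgood : GoodPt p A θ q g) :
    lineOrbit p A θ q n ∈ Fam ∧ IsPGroup q (lineOrbit p A θ q n) ∧
      lineOrbit p A θ q n ≤ pSup p A θ q := by
  obtain ⟨K, hK, hgK, hne⟩ := hgood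
  have hle := lineOrbit_le_oq h h3 hn hnc hg hg1 hK hgK hne
  have hf := family_of_le (mem_oq hK.1 q) hle (lineOrbit_A h h3 hn hnc)
  refine ⟨hf, (oq_isPGroup q K).to_le hle, le_pSup hf ((oq_isPGroup q K).to_le hle) ?_⟩
  exact (inf_le_lineInf h h3 hn hnc).trans (le_normalizer_orbit_right _ _)

theorem lineOrbit_comm (hb : b ∈ n) (hb1 : b ≠ 1) (hbad : ¬ GoodPt p A θ q b) :
    ⁅lineOrbit p A θ q n, zpowers b⁆ = lineOrbit p A θ q n :=
  orbit_comm (qCore_comm_bad h h3 (hn hb) hb1 hbad)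
    ((inf_le_theta hb hb1).trans (theta_le_centralizer h.toGSetup (hn hb) hb1))
    (lineOrbit_A h h3 hn hnc (hn hb))

/-- A good point fixes on every layer only elements trivial modulo the core. -/
theorem lineOrbit_good_layer (hg : g ∈ n) (hg1 : g ≠ 1) (hgood : GoodPt p A θ q g)
    [ht : Fact t.Prime] (hqt : q ≠ t) (hM : M ∈ Fam) (hPM : lineOrbit p A θ q n ≤ M) :
    ⁅lineOrbit p A θ q n, layer q t M ⊓ centralizer ({g} : Set G)⁆ ≤ oq q M := by
  obtain ⟨K, hK, hgK, hne⟩ := hgood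
  refine comm_layer_le hqt inf_le_left (oq_isPGroup q K)
    (lineOrbit_le_oq h h3 hn hnc hg hg1 hK hgK hne) ?_ (hPM.trans (le_normalizer_layer q t M))
  intro y hy
  exact le_normalizer_oq q K (hgK (fam_fix hM (hn hg) hg1 ⟨Gen.layer_le q t M hy.1, hy.2⟩))

/-- The fixed part of a line normalises the intersection when the conjugates lie inside. -/
theorem lineInf_le_normalizer (hle : lineOrbit p A θ q n ≤ qCore p A θ q) :
    Cfsg.signalizerInf n θ ≤ normalizer (qCore p A θ q : Set G) := by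
  have he : lineOrbit p A θ q n = qCore p A θ q := le_antisymm hle (le_orbit _ _)
  rw [← he]
  exact le_normalizer_orbit_right _ _

end Line

/-- A value lies above the fixed parts of the lines through its point. -/
theorem theta_le_of_lines (h : GHyp p A θ) (ha : a ∈ A) (ha1 : a ≠ 1) {k : Subgroup G} (hk : k ≤ A)
    (hkc : Nat.card k = p ^ 2) (hak : a ∉ k)
    (hlines : ∀ e ∈ k, e ≠ 1 → Cfsg.signalizerInf (zpowers a ⊔ zpowers e) θ ≤ Y) : θ a ≤ Y := by
  refine gen_le h.toGSetup (theta_mem_family h.functor ha ha1) hk hkc fun e he he1 => ?_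
  refine le_trans ?_ (hlines e he he1)
  have hea : zpowers a ⊔ zpowers e ≤ A := sup_le (zpowers_le.mpr ha) (zpowers_le.mpr (hk he))
  exact (le_inf inf_le_left (le_centralizer_pair
    (inf_le_left.trans (theta_le_centralizer h.toGSetup ha ha1)) inf_le_right)).trans
    ((family_inf_centralizer_eq h.functor.1 (theta_mem_family h.functor ha ha1) hea).le.trans
      inf_le_right)

/-- A line of points fixing part of the intersection: all are good, and two values escape. -/
theorem exists_good_outside (h : GHyp p A θ) (h3 : Three A θ) [hq : Fact q.Prime]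
    (hne : qCore p A θ q ≠ ⊥) {L : Subgroup G} (hL : IsTop p A θ L) :
    ∃ m : Subgroup G, m ≤ A ∧ Nat.card m = p ^ 2 ∧
      (∀ g ∈ m, g ≠ 1 → GoodPt p A θ q g) ∧ ∃ x ∈ m, ∃ y ∈ m, x ≠ 1 ∧ y ≠ 1 ∧ y ∉ zpowers x ∧
        ¬ θ x ≤ L ∧ ¬ θ y ≤ L := by
  obtain ⟨m, hm, hmc, hfix⟩ := exists_fixing_line h.toGSetup (qCore_mem h h3) hne
  refine ⟨m, hm, hmc, fun g hg hg1 => ?_, ?_⟩
  · by_contra hbad
    exact hfix (le_bot_iff.mp ((inf_le_inf_left _ (centralizer_le
      (Set.singleton_subset_iff.mpr hg))).trans (qCore_inf_bad h h3 (hm hg) hg1 hbad).le))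
  · obtain ⟨g, hg, hg1⟩ := exists_ne_one_of_sq_le hmc.ge
    obtain ⟨x, hx, hx1, -, hxL⟩ := two_outside h hL hm hmc (hm hg) hg1
    obtain ⟨y, hy, hy1, hyx, hyL⟩ := two_outside h hL hm hmc (hm hx) hx1
    exact ⟨x, hx, y, hy, hx1, hy1, hyx, hxL, hyL⟩

end CfsgLib.Signalizer.Gen
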