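import Cfsg.Agent.Lib.Signalizer.General.EvenPrime

/-!
Owner: helper13. At least three primes cannot occur in a minimal counterexample.
-/

set_option autoImplicit false
set_option maxHeartbeats 400000

namespace CfsgLib.Signalizer.Gen

open Subgroup Solv
open scoped commutatorElement

universe u

variable {G : Type u} [Group G] [Finite G] {p : ℕ} [hp : Fact p.Prime] {A : Subgroup G}
  {θ : G → Subgroup G} {M K L L' X Y n : Subgroup G} {a b y g : G} {q r s t u v w x z a' b' y' : ℕ}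

local notation "Fam" => Cfsg.signalizerFamily p A θ
local notation "C₀" => Cfsg.signalizerInf A θ

/-- An odd core of a value's maximal member is centralised by its operator. -/
theorem calm (h : GHyp p A θ) (h3 : Three A θ) (hq : q.Prime) (hq2 : q ≠ 2) (ha : a ∈ A)
    (ha1 : a ≠ 1) (hK : K ∈ Fam) (haK : θ a ≤ K) : oq q K ≤ centralizer ({a} : Set G) :=
  haveI := Fact.mk hq
  calm_of_qCore_eq_bot h hq2 (qCore_eq_bot_of_odd h h3 hq2) ha ha1 hK haK

/-- A maximal member over a value without a core for two is that value. -/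
theorem eq_theta_of_odd_cores (h : GHyp p A θ) (h3 : Three A θ) (ha : a ∈ A) (ha1 : a ≠ 1)
    (hK : IsTop p A θ K) (haK : θ a ≤ K) (h20 : oq 2 K = ⊥) : θ a = K := by
  refine le_antisymm haK (le_theta_of_centralizes hK.1 ha ha1 ?_)
  by_contra hc
  obtain ⟨v, hv, hmv⟩ := exists_mu_of_not_le h.toGSetup hK.1 ha hc
  by_cases hv2 : v = 2
  · subst hv2
    rw [h20] at hmv
    exact hmv bot_le
  · exact hmv (calm h h3 hv hv2 ha ha1 hK.1 haK)

/-- Two cores of a maximal member against a core of a base. -/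
theorem core_centralizes_base (h : GHyp p A θ) (hK : IsTop p A θ K) (hC : C₀ ≤ K)
    (hL : Base p A θ z L) [hu : Fact u.Prime] [ht : Fact t.Prime] (hut : u ≠ t) (hzu : z ≠ u)
    (hzt : z ≠ t) (hne : oq u K ≠ ⊥) : oq t K ≤ centralizer (oq u L : Set G) := by
  have htL : oq t K ≤ L := hL.oq_le hK.1 hC (Ne.symm hzt)
  refine (le_inf le_rfl htL).trans (inter_axb ht.out hu.out (Ne.symm hut) (oq_isPGroup u K)
    ((hL.oq_le hK.1 hC (Ne.symm hzu)).trans (le_normalizer_oq u L))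
    (inf_le_left.trans (oq_commute ht.out hu.out (Ne.symm hut))) ?_)
  exact le_top_of_centralizes_oq h hK hne (mem_inf (mem_oq hL.top.1 u)
    ((le_normalizer_oq_of (fam_norm hK.1) u).trans (normalizer_le_normalizer_centralizer_set _)))
    inf_le_right

/-- A core centralising the only core of a base lies in a trivial core. -/
theorem core_eq_bot_of_pure (h : GHyp p A θ) (hK : IsTop p A θ K) (hC : C₀ ≤ K)
    (hL : Base p A θ z L) [hu : Fact u.Prime] [ht : Fact t.Prime] (hut : u ≠ t) (hzu : z ≠ u)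
    (hzt : z ≠ t) (hne : oq u K ≠ ⊥) (hpure : ∀ v : ℕ, v.Prime → v ≠ u → oq v L = ⊥) :
    oq t K = ⊥ := by
  haveI := hL.top.1.1
  refine le_bot_iff.mp ((le_oq_of_centralizes (hL.oq_le hK.1 hC (Ne.symm hzt)) (oq_isPGroup t K)
    fun v hv => ?_).trans (hpure t ht.out (Ne.symm hut)).le)
  by_cases hvu : v = u
  · subst hvu; exact core_centralizes_base h hK hC hL hut hzu hzt hne
  · rw [hpure v hv hvu]; exact le_centralizer_bot _

/-- Four primes cannot occur. -/
theorem four_false (h : GHyp p A θ) (h3 : Three A θ) [hb : Fact b'.Prime] [hy : Fact y'.Prime]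
    [ha : Fact a'.Prime] {Lb La Lw : Subgroup G} (hLb : Base p A θ b' Lb) (hLa : Base p A θ a' La)
    (hLw : Base p A θ w Lw) (hyb : y' ≠ b') (hab : a' ≠ b') (hay : a' ≠ y') (hwb : w ≠ b')
    (hwy : w ≠ y') (hwa : w ≠ a') (hne : oq y' Lb ≠ ⊥) : False := by
  have h0 := qCore_all_bot h h3
  have hedge := edge (h0 y' hy.out) hLb hLa (Ne.symm hyb) hay (Ne.symm hab) hne
  have hYa : oq y' Lb ≤ La := hLa.oq_le hLb.top.1 hLb.inf_le (Ne.symm hay)
  have hYw : oq y' Lb ≤ Lw := hLw.oq_le hLb.top.1 hLb.inf_le (Ne.symm hwy)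
  have hQw : oq b' La ≤ Lw := hLw.oq_le hLa.top.1 hLa.inf_le (Ne.symm hwb)
  set Q := oq b' La
  set Y := oq y' Lb
  have hDQ : ⁅Q, Y⁆ ≤ Q :=
    le_normalizer_iff_commutator_le_left.mp (hYa.trans (le_normalizer_oq b' La))
  haveI := hLw.top.1.1
  refine hedge (le_centralizer_iff.mp (commutator_eq_bot_iff_le_centralizer.mp (le_bot_iff.mp ?_)))
  rw [← pair_eq_bot (h0 b' hb.out) hLa hLw (Ne.symm hwa) hab hwb]
  refine le_inf hDQ (le_oq_of_centralizes (hDQ.trans hQw) ((oq_isPGroup b' La).to_le hDQ)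
    fun t ht => ?_)
  haveI := Fact.mk ht
  by_cases htb : t = b'
  · subst htb
    exact hDQ.trans (le_centralizer_of_normalizes (hQw.trans (le_normalizer_oq t Lw))
      ((hLa.oq_le hLw.top.1 hLw.inf_le (Ne.symm hab)).trans (le_normalizer_oq t La))
      (pair_eq_bot (h0 t ht) hLa hLw (Ne.symm hwa) hab hwb))
  by_cases hta : t = a'
  · subst hta
    have hYX : Y ≤ centralizer (oq t Lw : Set G) :=
      oq_comm_of_le hy.out ht (Ne.symm hay) hYw (hLb.oq_le hLw.top.1 hLw.inf_le hab)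
    have hXQ : ⁅oq t Lw, Q⁆ ≤ oq t Lw :=
      le_normalizer_iff_commutator_le_left.mp (hQw.trans (le_normalizer_oq t Lw))
    have hYX' : ⁅oq t Lw, Y⁆ = ⊥ :=
      commutator_eq_bot_iff_le_centralizer.mpr (le_centralizer_iff.mp hYX)
    rw [← commutator_eq_bot_iff_le_centralizer]
    refine commutator_commutator_eq_bot_of_rotate ?_ ?_
    · rw [commutator_comm Y, hYX', commutator_bot_left]
    · exact le_bot_iff.mp ((commutator_mono hXQ le_rfl).trans hYX'.le)
  · exact hDQ.trans (oq_comm_of_le hb.out ht (Ne.symm htb) hQw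
      (hLa.oq_le hLw.top.1 hLw.inf_le hta))

/-- A line avoiding two given points. -/
theorem exists_line_avoiding (hS : GSetup p A θ) {e f : G} (he : e ∈ A) (he1 : e ≠ 1) (hf : f ∈ A)
    (hf1 : f ≠ 1) : ∃ k : Subgroup G, k ≤ A ∧ Nat.card k = p ^ 2 ∧ e ∉ k ∧ f ∉ k := by
  by_cases hfe : f ∈ zpowers e
  · obtain ⟨k, hk, hkc, hek⟩ := exists_line_not_mem hS he he1
    exact ⟨k, hk, hkc, hek, fun hh => hek (zpowers_le.mpr hh
      ((zpowers_eq_of_mem hS.elem he hfe hf1).ge (mem_zpowers e)))⟩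
  have hmc := card_pair hS.elem he he1 hf hfe
  have hm : zpowers e ⊔ zpowers f ≤ A := sup_le (zpowers_le.mpr he) (zpowers_le.mpr hf)
  obtain ⟨c, hc, hcm⟩ := exists_not_mem_line hS hmc
  have hgA : e * f ∈ A := mul_mem he hf
  have hgm : e * f ∈ zpowers e ⊔ zpowers f :=
    mul_mem (mem_sup_left (mem_zpowers e)) (mem_sup_right (mem_zpowers f))
  have hg1 : e * f ≠ 1 := fun e' => hfe (by
    rw [show f = e⁻¹ from eq_inv_of_mul_eq_one_right e']
    exact inv_mem (mem_zpowers e))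
  have hcg : c ∉ zpowers (e * f) := fun hh => hcm (zpowers_le.mpr hgm hh)
  have hk := card_pair hS.elem hgA hg1 hc hcg
  have hkA : zpowers (e * f) ⊔ zpowers c ≤ A := sup_le (zpowers_le.mpr hgA) (zpowers_le.mpr hc)
  have key : e ∈ zpowers (e * f) ⊔ zpowers c → f ∈ zpowers (e * f) ⊔ zpowers c → False :=
    fun h1 h2 => hcm (by
      rw [line_eq hS.elem hkA hk h1 he1 h2 hfe]
      exact mem_sup_right (mem_zpowers c))
  have hg' : e * f ∈ zpowers (e * f) ⊔ zpowers c := mem_sup_left (mem_zpowers _)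
  exact ⟨_, hkA, hk, fun hh => key hh (((zpowers (e * f) ⊔ zpowers c).mul_mem_cancel_left hh).mp hg'),
    fun hh => key (((zpowers (e * f) ⊔ zpowers c).mul_mem_cancel_right hh).mp hg') hh⟩

/-- The setting of exactly three primes. -/
structure Trio (p : ℕ) (A : Subgroup G) (θ : G → Subgroup G) (s x : ℕ) (Ls Lx L2 : Subgroup G) :
    Prop where
  hyp : GHyp p A θ
  three : Three A θ
  sP : s.Prime
  xP : x.Prime
  s2 : s ≠ 2
  x2 : x ≠ 2
  sx : s ≠ x
  only : ∀ v : ℕ, InPi A θ v → v = 2 ∨ v = s ∨ v = x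
  bs : Base p A θ s Ls
  bx : Base p A θ x Lx
  b2 : Base p A θ 2 L2

variable {Ls Lx L2 : Subgroup G}

theorem Trio.symm (T : Trio p A θ s x Ls Lx L2) : Trio p A θ x s Lx Ls L2 :=
  ⟨T.hyp, T.three, T.xP, T.sP, T.x2, T.s2, Ne.symm T.sx,
    fun v hv => by rcases T.only v hv with e | e | e <;> simp [e], T.bx, T.bs, T.b2⟩

theorem Trio.core_eq_bot (T : Trio p A θ s x Ls Lx L2) (hK : K ∈ Fam) (hv : v.Prime) (hv2 : v ≠ 2)
    (hvs : v ≠ s) (hvx : v ≠ x) : oq v K = ⊥ := by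
  by_contra hne
  rcases T.only v (inPi_of_oq_ne_bot T.hyp.toGSetup hK hv hne) with e | e | e
  exacts [hv2 e, hvs e, hvx e]

theorem Trio.self_eq_bot (T : Trio p A θ s x Ls Lx L2) :
    oq x Lx = ⊥ ∧ oq s Ls = ⊥ ∧ oq 2 L2 = ⊥ := by
  haveI := Fact.mk T.sP
  haveI := Fact.mk T.xP
  haveI : Fact (Nat.Prime 2) := ⟨Nat.prime_two⟩
  have h0 := qCore_all_bot T.hyp T.three
  exact ⟨oq_self_eq_bot T.hyp T.three h0 T.bx, oq_self_eq_bot T.hyp T.three h0 T.bs,
    oq_self_eq_bot T.hyp T.three h0 T.b2⟩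

/-- The points below a member with a core for `q` odd, when all are pure, form at most one ray. -/
theorem pure_ray (T : Trio p A θ s x Ls Lx L2)
    (hone : ∀ K, IsTop p A θ K → C₀ ≤ K → ∀ u t : ℕ, u.Prime → t.Prime → u ≠ t → oq u K ≠ ⊥ →
      oq t K = ⊥) (hq : q.Prime) (hq2 : q ≠ 2) :
    ∃ e ∈ A, e ≠ 1 ∧ ∀ f ∈ A, f ≠ 1 →
      (∃ K, IsTop p A θ K ∧ θ f ≤ K ∧ oq q K ≠ ⊥) → f ∈ zpowers e := by
  have h := T.hyp
  haveI := Fact.mk hq
  have hsingle : ∀ f ∈ A, f ≠ 1 → (∃ K, IsTop p A θ K ∧ θ f ≤ K ∧ oq q K ≠ ⊥) →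
      IsTop p A θ (θ f) ∧ oq q (θ f) ≠ ⊥ := by
    rintro f hf hf1 ⟨K, hK, hfK, hne⟩
    rw [eq_theta_of_odd_cores h T.three hf hf1 hK hfK
      (hone K hK (inf_le_of_theta_le hf hf1 hfK) q 2 hq Nat.prime_two hq2 hne)]
    exact ⟨hK, hne⟩
  by_cases hex : ∃ e ∈ A, e ≠ 1 ∧ ∃ K, IsTop p A θ K ∧ θ e ≤ K ∧ oq q K ≠ ⊥
  · obtain ⟨e, he, he1, hKe⟩ := hex
    refine ⟨e, he, he1, fun f hf hf1 hKf => ?_⟩
    obtain ⟨hTe, hne⟩ := hsingle e he he1 hKe
    obtain ⟨hTf, hnf⟩ := hsingle f hf hf1 hKf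
    by_contra hfe
    have hn := exists_ne_of_three T.three q
    obtain ⟨hPf, hPq⟩ := pSup_spec (q := q) h hn
    have hHe : pSup p A θ q ≤ θ e := le_theta_of_centralizes hPf he he1
      (singleton_centralizes h he he1 hTe hq hne hPf hPq)
    have hZ := pCent_inf_ne_bot h hn (oq_le_pSup hTe.1 (Solv.inf_le he he1) q)
      (hHe.trans (le_normalizer_oq q (θ e))) hne
    refine singleton_inter_false h he he1 hf hf1 hTe hTf hfe hq (ne_bot_of_le_ne_bot hZ
      (le_inf inf_le_right (le_oq_of_pCent hTf.1 (Solv.inf_le hf hf1)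
        (inf_le_left.trans (pCent_le_top h hn hTf (Solv.inf_le hf hf1) hnf)) inf_le_left
        (hPq.to_le (inf_le_left.trans inf_le_left)) fun v hv hvq => ?_)))
    rw [hone _ hTf (Solv.inf_le hf hf1) q v hq hv (Ne.symm hvq) hnf]
    exact le_centralizer_bot _
  · obtain ⟨e, he, he1⟩ := exists_ne_one_of_sq_le (card_A_ge h.toGSetup)
    exact ⟨e, he, he1, fun f hf hf1 hK => absurd ⟨f, hf, hf1, hK⟩ hex⟩

/-- The exclusive case. -/
theorem exclusive_false (T : Trio p A θ s x Ls Lx L2) (hsx : oq s Lx = ⊥) (hx2' : oq x L2 = ⊥)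
    (h2s : oq 2 Ls = ⊥) (hne : oq 2 Lx ≠ ⊥) : False := by
  have h := T.hyp
  haveI := Fact.mk T.sP
  haveI := Fact.mk T.xP
  haveI : Fact (Nat.Prime 2) := ⟨Nat.prime_two⟩
  obtain ⟨hxx, hss, h22⟩ := T.self_eq_bot
  have hpx : ∀ v : ℕ, v.Prime → v ≠ 2 → oq v Lx = ⊥ := fun v hv hv2 => by
    by_cases hvs : v = s
    · exact hvs ▸ hsx
    by_cases hvx : v = x
    · exact hvx ▸ hxx
    exact T.core_eq_bot T.bx.top.1 hv hv2 hvs hvx
  have hp2 : ∀ v : ℕ, v.Prime → v ≠ s → oq v L2 = ⊥ := fun v hv hvs => by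
    by_cases hv2 : v = 2
    · exact hv2 ▸ h22
    by_cases hvx : v = x
    · exact hvx ▸ hx2'
    exact T.core_eq_bot T.b2.top.1 hv hv2 hvs hvx
  have hps : ∀ v : ℕ, v.Prime → v ≠ x → oq v Ls = ⊥ := fun v hv hvx => by
    by_cases hv2 : v = 2
    · exact hv2 ▸ h2s
    by_cases hvs : v = s
    · exact hvs ▸ hss
    exact T.core_eq_bot T.bs.top.1 hv hv2 hvs hvx
  have hone : ∀ K, IsTop p A θ K → C₀ ≤ K → ∀ u t : ℕ, u.Prime → t.Prime → u ≠ t → oq u K ≠ ⊥ →
      oq t K = ⊥ := by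
    intro K hK hC u t hu ht hut hne'
    by_contra hnt
    have e2s : oq 2 K ≠ ⊥ → oq s K = ⊥ :=
      fun hh => core_eq_bot_of_pure h hK hC T.bx (Ne.symm T.s2) T.x2 (Ne.symm T.sx) hh hpx
    have esx : oq s K ≠ ⊥ → oq x K = ⊥ :=
      fun hh => core_eq_bot_of_pure h hK hC T.b2 T.sx (Ne.symm T.s2) (Ne.symm T.x2) hh hp2
    have ex2 : oq x K ≠ ⊥ → oq 2 K = ⊥ :=
      fun hh => core_eq_bot_of_pure h hK hC T.bs T.x2 T.sx T.s2 hh hps
    rcases T.only u (inPi_of_oq_ne_bot h.toGSetup hK.1 hu hne') with e | e | e <;> subst e <;>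
      rcases T.only t (inPi_of_oq_ne_bot h.toGSetup hK.1 ht hnt) with e | e | e <;> subst e
    · exact hut rfl
    · exact hnt (e2s hne')
    · exact hne' (ex2 hnt)
    · exact hne' (e2s hnt)
    · exact hut rfl
    · exact hnt (esx hne')
    · exact hnt (ex2 hne')
    · exact hne' (esx hnt)
    · exact hut rfl
  obtain ⟨e, he, he1, hray⟩ := pure_ray T hone T.sP T.s2
  obtain ⟨f, hf, hf1, hray'⟩ := pure_ray T hone T.xP T.x2
  obtain ⟨k, hk, hkc, hek, hfk⟩ := exists_line_avoiding h.toGSetup he he1 hf hf1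
  have hn := exists_ne_of_three T.three 2
  have hC2 : pCent p A θ 2 ≤ oq 2 Ls := by
    refine criterion h.toGSetup hk hkc (fun g hg hg1 => ?_) T.bs.top.1
      (inf_le_left.trans (T.bs.pSup_le (Ne.symm T.s2)))
    obtain ⟨K, hK, hgK⟩ := exists_top (theta_mem_family h.functor (hk hg) hg1)
    have hC := inf_le_of_theta_le (hk hg) hg1 hgK
    have hs0 : oq s K = ⊥ := by
      by_contra hh
      exact hek (zpowers_le.mpr hg ((zpowers_eq_of_mem h.elem he (hray g (hk hg) hg1 ⟨K, hK, hgK, hh⟩)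
        hg1).ge (mem_zpowers e)))
    have hx0 : oq x K = ⊥ := by
      by_contra hh
      exact hfk (zpowers_le.mpr hg ((zpowers_eq_of_mem h.elem hf (hray' g (hk hg) hg1 ⟨K, hK, hgK, hh⟩)
        hg1).ge (mem_zpowers f)))
    have h2ne : oq 2 K ≠ ⊥ := by
      intro h20
      obtain ⟨v, hv, hvne⟩ := exists_oq_top h hK
      rcases T.only v (inPi_of_oq_ne_bot h.toGSetup hK.1 hv hvne) with e | e | e <;> subst e
      exacts [hvne h20, hvne hs0, hvne hx0]
    refine ⟨K, hK.1, hgK, le_oq_of_pCent hK.1 hC (pCent_le_top h hn hK hC h2ne) le_rfl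
      ((pSup_spec h hn).2.to_le inf_le_left) fun v hv hv2 => ?_⟩
    rw [hone K hK hC 2 v Nat.prime_two hv (Ne.symm hv2) h2ne]
    exact le_centralizer_bot _
  refine pCent_inf_ne_bot h hn (oq_le_pSup T.bx.top.1 T.bx.inf_le 2)
    ((T.bx.pSup_le (Ne.symm T.x2)).trans (le_normalizer_oq 2 Lx)) hne ?_
  rw [le_bot_iff.mp (hC2.trans h2s.le), bot_inf_eq]

/-- A maximal member over a value with an `s`-core: the operator centralises the base core. -/
theorem fix_side (T : Trio p A θ s x Ls Lx L2) (hy : y ∈ A) (hy1 : y ≠ 1) (hK : IsTop p A θ K)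
    (hyK : θ y ≤ K) (hne : oq s K ≠ ⊥) : oq s Lx ≤ centralizer ({y} : Set G) := by
  have h := T.hyp
  haveI := Fact.mk T.sP
  haveI : Fact (Nat.Prime 2) := ⟨Nat.prime_two⟩
  have hC := inf_le_of_theta_le hy hy1 hyK
  by_cases h20 : oq 2 K = ⊥
  · have he := eq_theta_of_odd_cores h T.three hy hy1 hK hyK h20
    exact singleton_centralizes h hy hy1 (he ▸ hK) T.sP (he ▸ hne) (mem_oq T.bx.top.1 s)
      (oq_isPGroup s Lx)
  set U := oq s Lx ⊓ centralizer (oq s K : Set G) with hU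
  have hUf : U ∈ Fam := mem_inf (mem_oq T.bx.top.1 s)
    ((le_normalizer_oq_of (fam_norm hK.1) s).trans (normalizer_le_normalizer_centralizer_set _))
  have hUK : U ≤ K := le_top_of_centralizes_oq h hK hne hUf inf_le_right
  have hUy : U ≤ centralizer ({y} : Set G) := by
    haveI := hK.1.1
    rw [← comm_eq_bot_iff, ← comm_idem h.toGSetup hUf hy, comm_eq_bot_iff]
    have hle : ⁅U, zpowers y⁆ ≤ U := Solv.comm_le_self (fam_norm hUf hy)
    refine (le_oq_of_centralizes (hle.trans hUK)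
      ((oq_isPGroup s Lx).to_le (hle.trans inf_le_left)) fun v hv => ?_).trans
        (calm h T.three T.sP T.s2 hy hy1 hK.1 hyK)
    by_cases hv2 : v = 2
    · subst hv2
      exact (hle.trans inf_le_left).trans (le_centralizer_iff.mp
        (core_centralizes_base h hK hC T.bx T.s2 (Ne.symm T.sx) T.x2 hne))
    · exact comm_le_centralizer (Solv.mem_centralizer_of_le (calm h T.three hv hv2 hy hy1 hK.1 hyK))
        (hUK.trans (le_normalizer_oq v K))
  have hcop : (orderOf y).Coprime s :=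
    ((hp.out.coprime_iff_not_dvd.mpr fun hd => ne_p_of_dvd hK.1 (dvd_of_oq_ne_bot T.sP hne)
      ((Nat.prime_dvd_prime_iff_eq hp.out T.sP).mp hd).symm)).coprime_dvd_left
      (orderOf_dvd_of_pow_eq_one (h.elem.2 y hy))
  have hyc : y ∈ centralizer (oq s Lx : Set G) :=
    LocalEvenB.mem_centralizer_of_axb hcop (oq_isPGroup s Lx) (oq_isPGroup s K)
      ((T.bx.oq_le hK.1 hC T.sx).trans (le_normalizer_oq s Lx))
      (le_normalizer_oq_of (fam_norm T.bx.top.1) s hy)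
      (Solv.mem_centralizer_of_le (calm h T.three T.sP T.s2 hy hy1 hK.1 hyK))
      (Solv.mem_centralizer_of_le hUy)
  exact fun u hu => mem_centralizer_singleton_iff.mpr (mem_centralizer_iff.mp hyc u hu)

/-- A point moving both base cores pushes the centre for two into a base core. -/
theorem moved_side (T : Trio p A θ s x Ls Lx L2) (hy : y ∈ A) (hy1 : y ≠ 1) (hK : IsTop p A θ K)
    (hyK : θ y ≤ K) (hs0 : oq s K = ⊥) (hx0 : oq x K = ⊥) :
    ⁅pCent p A θ 2, zpowers y⁆ ≤ oq 2 Lx := by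
  have h := T.hyp
  haveI := Fact.mk T.sP
  haveI : Fact (Nat.Prime 2) := ⟨Nat.prime_two⟩
  have hC := inf_le_of_theta_le hy hy1 hyK
  have hn := exists_ne_of_three T.three 2
  have hZf := pCent_mem (q := 2) h hn
  have hZ2 : IsPGroup 2 (pCent p A θ 2) := (pSup_spec h hn).2.to_le inf_le_left
  have hZx : pCent p A θ 2 ≤ Lx := inf_le_left.trans (T.bx.pSup_le (Ne.symm T.x2))
  have hle : ⁅pCent p A θ 2, zpowers y⁆ ≤ pCent p A θ 2 := Solv.comm_le_self (fam_norm hZf hy)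
  have hfix : oq s Lx ⊓ centralizer ({y} : Set G) = ⊥ := by
    haveI := hK.1.1
    have hUK : oq s Lx ⊓ centralizer ({y} : Set G) ≤ K :=
      (fam_fix (mem_oq T.bx.top.1 s) hy hy1).trans hyK
    refine le_bot_iff.mp ((le_oq_of_centralizes hUK ((oq_isPGroup s Lx).to_le inf_le_left)
      fun v hv => ?_).trans hs0.le)
    by_cases hv2 : v = 2
    · subst hv2
      exact (le_inf inf_le_left hUK).trans ((inter_core_comm T.sP hv T.s2).trans
        (centralizer_le (SetLike.coe_subset_coe.mpr (le_inf le_rfl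
          (T.bx.oq_le hK.1 hC (Ne.symm T.x2))))))
    · by_cases hvs : v = s
      · rw [hvs, hs0]; exact le_centralizer_bot _
      by_cases hvx : v = x
      · rw [hvx, hx0]; exact le_centralizer_bot _
      rw [T.core_eq_bot hK.1 hv hv2 hvs hvx]; exact le_centralizer_bot _
  refine le_oq_of_pCent T.bx.top.1 T.bx.inf_le (hle.trans hZx) hle (hZ2.to_le hle) fun v hv hv2 => ?_
  by_cases hvs : v = s
  · subst hvs
    refine comm_centralizes_comm (p := p) (ne_p_of_dvd hK.1 (dvd_of_oq_ne_bot Nat.prime_two ?_))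
      (Ne.symm hv2) _ rfl (oq_isPGroup v Lx) (fam_not_dvd (mem_oq T.bx.top.1 v)) hZ2 ⟨⟨?_⟩⟩
      (h.elem.2 y hy) (hZx.trans (le_normalizer_oq v Lx))
      (le_normalizer_oq_of (fam_norm T.bx.top.1) v hy) (fam_norm hZf hy) (hfix.le.trans bot_le)
    · intro h20
      obtain ⟨w, hw, hwne⟩ := exists_oq_top h hK
      rcases T.only w (inPi_of_oq_ne_bot h.toGSetup hK.1 hw hwne) with e | e | e <;> subst e
      exacts [hwne h20, hwne hs0, hwne hx0]
    · intro u w
      exact Subtype.ext (mem_centralizer_iff.mp u.2.2 w w.2.1).symm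
  by_cases hvx : v = x
  · rw [hvx, T.self_eq_bot.1]; exact le_centralizer_bot _
  rw [T.core_eq_bot T.bx.top.1 hv hv2 hvs hvx]; exact le_centralizer_bot _

/-- A member centralised by all of `A` lies in the fixed part. -/
theorem le_inf_of_centralized (h : GHyp p A θ) (hX : X ∈ Fam)
    (hc : ∀ a ∈ A, X ≤ centralizer ({a} : Set G)) : X ≤ C₀ := fun u hu =>
  mem_inf_iff.mpr fun a ha ha1 => le_theta_of_centralizes hX ha ha1 (hc a ha) hu

/-- A base core centralised by all of `A` contradicts the edge lemma. -/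
theorem side_not_centralized (T : Trio p A θ s x Ls Lx L2) (hne : oq 2 Lx ≠ ⊥) :
    ¬ ∀ a ∈ A, oq x Ls ≤ centralizer ({a} : Set G) := by
  intro hc
  haveI := Fact.mk T.xP
  haveI : Fact (Nat.Prime 2) := ⟨Nat.prime_two⟩
  refine edge (qCore_two_eq_bot T.hyp T.three) T.bx T.bs T.x2 T.s2 (Ne.symm T.sx) hne ?_
  have hXL : oq x Ls ≤ Lx :=
    (le_inf_of_centralized T.hyp (mem_oq T.bs.top.1 x) hc).trans T.bx.inf_le
  exact oq_comm_of_le Nat.prime_two T.xP (Ne.symm T.x2)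
    (T.bs.oq_le T.bx.top.1 T.bx.inf_le (Ne.symm T.s2)) hXL

/-- The mixed case. -/
theorem mixed_false (T : Trio p A θ s x Ls Lx L2) (hnx : oq 2 Lx ≠ ⊥) (hns : oq 2 Ls ≠ ⊥) :
    False := by
  have h := T.hyp
  haveI := Fact.mk T.sP
  haveI := Fact.mk T.xP
  haveI : Fact (Nat.Prime 2) := ⟨Nat.prime_two⟩
  have h0 := qCore_all_bot h T.three
  have hn := exists_ne_of_three T.three 2
  have hcls : ∀ y ∈ A, ¬ oq s Lx ≤ centralizer ({y} : Set G) →
      ¬ oq x Ls ≤ centralizer ({y} : Set G) → pCent p A θ 2 ≤ centralizer ({y} : Set G) := by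
    intro y hy hns' hnx'
    have hy1 : y ≠ 1 := fun e => hns' (e ▸ fun u _ => mem_centralizer_singleton_iff.mpr (by simp))
    obtain ⟨K, hK, hyK⟩ := exists_top (theta_mem_family h.functor hy hy1)
    have hs0 : oq s K = ⊥ := by_contra fun hh => hns' (fix_side T hy hy1 hK hyK hh)
    have hx0 : oq x K = ⊥ := by_contra fun hh => hnx' (fix_side T.symm hy hy1 hK hyK hh)
    rw [← comm_eq_bot_iff, ← le_bot_iff,
      ← pair_eq_bot (h0 2 Nat.prime_two) T.bx T.bs (Ne.symm T.sx) T.x2 T.s2]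
    exact le_inf (moved_side T hy hy1 hK hyK hs0 hx0) (moved_side T.symm hy hy1 hK hyK hx0 hs0)
  set FS := A ⊓ centralizer (oq s Lx : Set G) with hFS
  set FX := A ⊓ centralizer (oq x Ls : Set G) with hFX
  have hmem : ∀ {X : Subgroup G} {y : G}, y ∈ centralizer (X : Set G) ↔
      X ≤ centralizer ({y} : Set G) := fun {X y} =>
    ⟨fun hh u hu => mem_centralizer_singleton_iff.mpr (mem_centralizer_iff.mp hh u hu),
      Solv.mem_centralizer_of_le⟩
  have hS : ¬ A ≤ FS := fun hh => side_not_centralized T.symm hns fun a ha => hmem.mp (hh ha).2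
  have hX : ¬ A ≤ FX := fun hh => side_not_centralized T hnx fun a ha => hmem.mp (hh ha).2
  set H := A ⊓ centralizer (pCent p A θ 2 : Set G) with hH
  have hout : ∀ y ∈ A, y ∉ FS → y ∉ FX → y ∈ H := fun y hy h1 h2 =>
    ⟨hy, hmem.mpr (hcls y hy (fun hh => h1 ⟨hy, hmem.mpr hh⟩) fun hh => h2 ⟨hy, hmem.mpr hh⟩)⟩
  obtain ⟨f, hf, hfS, hfX⟩ : ∃ f ∈ A, f ∉ FS ∧ f ∉ FX := by
    obtain ⟨c, hc, hcS⟩ := SetLike.not_le_iff_exists.mp hS
    obtain ⟨d, hd, hdX⟩ := SetLike.not_le_iff_exists.mp hX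
    by_cases hcX : c ∈ FX
    · by_cases hdS : d ∈ FS
      · exact ⟨c * d, mul_mem hc hd, fun hh => hcS ((FS.mul_mem_cancel_right hdS).mp hh),
          fun hh => hdX ((FX.mul_mem_cancel_left hcX).mp hh)⟩
      · exact ⟨d, hd, hdS, hdX⟩
    · exact ⟨c, hc, hcS, hcX⟩
  have hsq : ∀ y ∈ A, ∀ {F : Subgroup G}, y * y ∈ F → y ∈ F := by
    intro y hy F hyy
    obtain ⟨k, hk⟩ := (hp.out.odd_of_ne_two (p_ne_two h))
    have hyp : y ^ p = 1 := h.elem.2 y hy
    have : y = (y * y) ^ (k + 1) := by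
      rw [← pow_two, ← pow_mul, show 2 * (k + 1) = p + 1 by omega, pow_succ, hyp, one_mul]
    rw [this]
    exact pow_mem hyy _
  have hall : A ≤ H := by
    intro y hy
    have hfy : f ∈ H := hout f hf hfS hfX
    have step : ∀ (F F' : Subgroup G), y ∈ F → y ∉ F' → f ∉ F →
        (∀ g ∈ A, g ∉ F → g ∉ F' → g ∈ H) → f ∉ F' → y ∈ H := by
      intro F F' hyF hyF' hfF hFF hfF'
      by_cases h1 : f * y ∈ F'
      · refine hsq y hy ((H.mul_mem_cancel_left hfy).mp (hFF _ (mul_mem hf (mul_mem hy hy))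
          (fun hh => hfF ((F.mul_mem_cancel_right (mul_mem hyF hyF)).mp hh)) fun hh => hyF' ?_))
        rw [← mul_assoc] at hh
        exact (F'.mul_mem_cancel_left h1).mp hh
      · exact (H.mul_mem_cancel_left hfy).mp (hFF _ (mul_mem hf hy)
          (fun hh => hfF ((F.mul_mem_cancel_right hyF).mp hh)) h1)
    by_cases hyS : y ∈ FS
    · by_cases hyX : y ∈ FX
      · exact (H.mul_mem_cancel_left hfy).mp (hout _ (mul_mem hf hy)
          (fun hh => hfS ((FS.mul_mem_cancel_right hyS).mp hh))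
          fun hh => hfX ((FX.mul_mem_cancel_right hyX).mp hh))
      · exact step FS FX hyS hyX hfS hout hfX
    · by_cases hyX : y ∈ FX
      · exact step FX FS hyX hyS hfX (fun g hg h1 h2 => hout g hg h2 h1) hfS
      · exact hout y hy hyS hyX
  set D := pCent p A θ 2 ⊓ oq 2 Lx with hD
  have hD1 : D ≠ ⊥ := pCent_inf_ne_bot h hn (oq_le_pSup T.bx.top.1 T.bx.inf_le 2)
    ((T.bx.pSup_le (Ne.symm T.x2)).trans (le_normalizer_oq 2 Lx)) hnx
  have hD2 : D ≤ L2 := inf_le_left.trans ((le_inf_of_centralized h (pCent_mem h hn)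
    fun a ha => hmem.mp (hall ha).2).trans T.b2.inf_le)
  have hDs : D ≤ Ls := (inf_le_left.trans inf_le_left).trans (T.bs.pSup_le (Ne.symm T.s2))
  have hX2 : oq x Ls ≤ L2 := T.b2.oq_le T.bs.top.1 T.bs.inf_le T.x2
  have hXD : ⁅oq x Ls, D⁆ ≤ oq x Ls :=
    le_normalizer_iff_commutator_le_left.mp (hDs.trans (le_normalizer_oq x Ls))
  have hXD0 : ⁅oq x Ls, D⁆ = ⊥ := by
    haveI := T.b2.top.1.1
    rw [← le_bot_iff, ← pair_eq_bot (h0 x T.xP) T.bs T.b2 T.s2 T.sx (Ne.symm T.x2)]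
    refine le_inf hXD (le_oq_of_centralizes (hXD.trans hX2) ((oq_isPGroup x Ls).to_le hXD)
      fun v hv => ?_)
    by_cases hvx : v = x
    · subst hvx
      exact hXD.trans (le_centralizer_of_normalizes (hX2.trans (le_normalizer_oq v L2))
        ((T.bs.oq_le T.b2.top.1 T.b2.inf_le (Ne.symm T.sx)).trans (le_normalizer_oq v Ls))
        (pair_eq_bot (h0 v hv) T.bs T.b2 T.s2 T.sx (Ne.symm T.x2)))
    by_cases hvs : v = s
    · subst hvs
      have hDR : D ≤ centralizer (oq v L2 : Set G) := (le_inf inf_le_right hD2).trans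
        ((inter_core_comm Nat.prime_two hv (Ne.symm T.s2)).trans (centralizer_le
          (SetLike.coe_subset_coe.mpr (le_inf le_rfl (T.bx.oq_le T.b2.top.1 T.b2.inf_le T.sx)))))
      refine commutator_le.mpr fun u hu d hd => ?_
      rw [show ⁅u, d⁆ = u * d * u⁻¹ * d⁻¹ from commutatorElement_def u d]
      exact mul_mem ((mem_normalizer_iff.mp (normalizer_le_normalizer_centralizer_set _
        ((hX2.trans (le_normalizer_oq v L2)) hu)) d).mp (hDR hd)) (inv_mem (hDR hd))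
    by_cases hv2 : v = 2
    · rw [hv2, T.self_eq_bot.2.2]; exact le_centralizer_bot _
    rw [T.core_eq_bot T.b2.top.1 hv hv2 hvs hvx]; exact le_centralizer_bot _
  refine hD1 (le_bot_iff.mp ?_)
  rw [← pair_eq_bot (h0 2 Nat.prime_two) T.bx T.bs (Ne.symm T.sx) T.x2 T.s2]
  refine le_inf inf_le_right (le_oq_of_pCent T.bs.top.1 T.bs.inf_le hDs inf_le_left
    ((oq_isPGroup 2 Lx).to_le inf_le_right) fun v hv hv2 => ?_)
  by_cases hvx : v = x
  · subst hvx
    exact le_centralizer_iff.mp (commutator_eq_bot_iff_le_centralizer.mp hXD0)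
  by_cases hvs : v = s
  · rw [hvs, T.self_eq_bot.2.1]; exact le_centralizer_bot _
  rw [T.core_eq_bot T.bs.top.1 hv hv2 hvs hvx]; exact le_centralizer_bot _

/-- **At least three primes are impossible.** -/
theorem not_three (h : GHyp p A θ) : ¬ Three A θ := by
  intro h3
  haveI : Fact (Nat.Prime 2) := ⟨Nat.prime_two⟩
  have h0 := qCore_all_bot h h3
  obtain ⟨L2, hL2⟩ := exists_base h (two_inPi h)
  obtain ⟨s, hs, hne⟩ := exists_oq_top h hL2.top
  haveI := Fact.mk hs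
  have hs2 : s ≠ 2 := fun e => by
    subst e
    exact hne (oq_self_eq_bot h h3 h0 hL2)
  obtain ⟨x, hx, hx2, hxs⟩ := exists_third h3 2 s
  haveI := Fact.mk hx.1
  obtain ⟨Lx, hLx⟩ := exists_base h hx
  by_cases honly : ∀ v : ℕ, InPi A θ v → v = 2 ∨ v = s ∨ v = x
  · obtain ⟨Ls, hLs⟩ := exists_base h (inPi_of_oq_ne_bot h.toGSetup hL2.top.1 hs hne)
    have T : Trio p A θ s x Ls Lx L2 :=
      ⟨h, h3, hs, hx.1, hs2, hx2, Ne.symm hxs, honly, hLs, hLx, hL2⟩
    have hnx : oq 2 Lx ≠ ⊥ := edge_ne_bot (h0 s hs) hL2 hLx (Ne.symm hs2) hxs (Ne.symm hx2) hne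
    by_cases hns : oq 2 Ls = ⊥
    · refine exclusive_false T ?_ ?_ hns hnx
      · by_contra hh
        have h1 : oq x L2 ≠ ⊥ := edge_ne_bot (h0 s hs) hLx hL2 hxs (Ne.symm hs2) hx2 hh
        exact edge_ne_bot (h0 x hx.1) hL2 hLs (Ne.symm hx2) (Ne.symm hxs) (Ne.symm hs2) h1 hns
      · by_contra hh
        exact edge_ne_bot (h0 x hx.1) hL2 hLs (Ne.symm hx2) (Ne.symm hxs) (Ne.symm hs2) hh hns
    · exact mixed_false T hnx hns
  · push Not at honly
    obtain ⟨w, hw, hw2, hws, hwx⟩ := honly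
    obtain ⟨Lw, hLw⟩ := exists_base h hw
    exact four_false h h3 hL2 hLx hLw hs2 hx2 hxs hw2 hws hwx hne

end CfsgLib.Signalizer.Gen
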