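import Cfsg.Agent.Lib.Signalizer.General.Lines

/-!
Owner: helper13. For at least three primes the intersections of cores of odd primes are trivial.
-/

set_option autoImplicit false
set_option maxHeartbeats 400000

namespace CfsgLib.Signalizer.Gen

open Subgroup Solv
open scoped commutatorElement

universe u

variable {G : Type u} [Group G] [Finite G] {p : ℕ} [hp : Fact p.Prime] {A : Subgroup G}
  {θ : G → Subgroup G} {M K L X Y n : Subgroup G} {a b x y : G} {q r s t : ℕ}

local notation "Fam" => Cfsg.signalizerFamily p A θ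
local notation "C₀" => Cfsg.signalizerInf A θ

/-- The fixed part of a line with two independent good points normalises the intersection. -/
theorem line_normalizes (h : GHyp p A θ) (h3 : Three A θ) [hq : Fact q.Prime] (hq2 : q ≠ 2)
    (hn : n ≤ A) (hnc : Nat.card n = p ^ 2) (hx : x ∈ n) (hx1 : x ≠ 1) (hy : y ∈ n) (hy1 : y ≠ 1)
    (hyx : y ∉ zpowers x) (hgx : GoodPt p A θ q x) (hgy : GoodPt p A θ q y) :
    Cfsg.signalizerInf n θ ≤ normalizer (qCore p A θ q : Set G) := by
  obtain ⟨hPf, hPq, hPH⟩ := lineOrbit_spec h h3 hn hnc hx hx1 hgx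
  refine lineInf_le_normalizer h h3 hn hnc (le_inf hPH (le_iInf fun N => ?_))
  obtain ⟨z, hzq, hN⟩ := N.2
  set P := lineOrbit p A θ q n
  have hPN : P ≤ (N : Subgroup G) := hPH.trans (hN.pSup_le (Ne.symm hzq))
  haveI := hN.top.1.1
  refine le_oq_of_layers hPN hPq fun t ht htq => ?_
  haveI := Fact.mk ht
  by_cases hall : ∀ g ∈ n, g ≠ 1 → GoodPt p A θ q g
  · exact layer_comm_of_fixed (elementary_of_le h.elem hn) hnc.ge (hn.trans (fam_norm hN.top.1))
      (fam_not_dvd hN.top.1) hPN fun g hg hg1 =>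
        lineOrbit_good_layer h h3 hn hnc hg hg1 (hall g hg hg1) (Ne.symm htq) hN.top.1 hPN
  push Not at hall
  obtain ⟨b, hb, hb1, hbad⟩ := hall
  set N₀ := oq q (N : Subgroup G)
  have key : ∀ g ∈ n, g ≠ 1 → GoodPt p A θ q g →
      ⁅⁅P, zpowers g⁆, layer q t (N : Subgroup G)⁆ ≤ N₀ := fun g hg hg1 hgood =>
    comm_layer_of_fpf (p := p) (Ne.symm htq)
      (by
        obtain ⟨K, hK, -, hne⟩ := hgood
        exact ne_p_of_dvd hK.1 (dvd_of_oq_ne_bot hq.out hne)) (Or.inl hq2)
      (h.elem.2 g (hn hg)) (fam_norm hN.top.1 (hn hg)) (fam_not_dvd hN.top.1) hPN hPq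
      (fam_norm hPf (hn hg))
      (lineOrbit_good_layer h h3 hn hnc hg hg1 hgood (Ne.symm htq) hN.top.1 hPN)
  set W := ⁅P, zpowers x⁆ ⊔ ⁅P, zpowers y⁆ with hW
  have hWn : n ≤ normalizer (W : Set G) := fun c hc =>
    normalizer_inf_normalizer_le_normalizer_sup _ _
      ⟨inf_centralizer_le_normalizer_comm (hn.trans (fam_norm hPf)) x
        ⟨hc, mem_centralizer_singleton_iff.mpr (elementary_comm h.elem (hn hc) (hn hx))⟩,
      inf_centralizer_le_normalizer_comm (hn.trans (fam_norm hPf)) y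
        ⟨hc, mem_centralizer_singleton_iff.mpr (elementary_comm h.elem (hn hc) (hn hy))⟩⟩
  have hnW : ⁅zpowers x ⊔ zpowers y, P⁆ ≤ W :=
    comm_sup_le ((zpowers_le.mpr hx).trans hWn) ((zpowers_le.mpr hy).trans hWn)
      ((commutator_comm _ _).le.trans le_sup_left) ((commutator_comm _ _).le.trans le_sup_right)
  have hPW : P ≤ W := by
    refine (lineOrbit_comm h h3 hn hnc hb hb1 hbad).ge.trans ?_
    rw [commutator_comm]
    refine (commutator_mono ?_ le_rfl).trans hnW
    rw [line_eq h.elem hn hnc hx hx1 hy hyx]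
    exact zpowers_le.mpr hb
  refine (commutator_mono hPW le_rfl).trans (comm_sup_le ?_ ?_ (key x hx hx1 hgx) (key y hy hy1 hgy))
  · exact ((Solv.comm_le_self (fam_norm hPf (hn hx))).trans hPN).trans (le_qN q _)
  · exact ((Solv.comm_le_self (fam_norm hPf (hn hy))).trans hPN).trans (le_qN q _)

/-- What a maximal member over the normalizer of the intersection contains. -/
theorem local_top_spec (h : GHyp p A θ) (h3 : Three A θ) [hq : Fact q.Prime] (hL : IsTop p A θ L)
    (hLN : ∀ Y ∈ Fam, Y ≤ normalizer (qCore p A θ q : Set G) → Y ≤ L) :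
    qCore p A θ q ≤ oq q L ∧ C₀ ≤ L ∧ pSup p A θ q ≤ L := by
  have hC : C₀ ≤ L := hLN _ (inf_mem h.toGSetup) inf_le_normalizer_qCore
  exact ⟨qCore_inf_le h h3 hL.1 hC le_rfl (hLN _ (qCore_mem h h3) le_normalizer), hC,
    hLN _ (pSup_spec h (exists_ne_of_three h3 q)).1 pSup_le_normalizer_qCore⟩

/-- The cores of a maximal member with a `q`-core lie above the normalizer of the intersection. -/
theorem cores_le_local (h : GHyp p A θ) (h3 : Three A θ) [hq : Fact q.Prime] (hL : IsTop p A θ L)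
    (hLN : ∀ Y ∈ Fam, Y ≤ normalizer (qCore p A θ q : Set G) → Y ≤ L) (hK : IsTop p A θ K)
    (hC : C₀ ≤ K) (hne : oq q K ≠ ⊥) {v : ℕ} (hv : v.Prime) : oq v K ≤ L := by
  by_cases hvq : v = q
  · subst hvq
    exact (oq_le_pSup hK.1 hC v).trans (local_top_spec h h3 hL hLN).2.2
  · exact hLN _ (mem_oq hK.1 v) ((oq_commute hv hq.out hvq).trans
      ((centralizer_le (SetLike.coe_subset_coe.mpr (qCore_le_oq h h3 hK hC hne))).trans
        (centralizer_le_normalizer _)))

/-- A good point whose value escapes centralises the intersection. -/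
theorem centralizes_of_outside (h : GHyp p A θ) (h3 : Three A θ) [hq : Fact q.Prime] (hq2 : q ≠ 2)
    (hLN : ∀ Y ∈ Fam, Y ≤ normalizer (qCore p A θ q : Set G) → Y ≤ L) (hx : x ∈ A) (hx1 : x ≠ 1)
    (hgx : GoodPt p A θ q x) (hnle : ¬ θ x ≤ L) :
    qCore p A θ q ≤ centralizer ({x} : Set G) := by
  obtain ⟨k, hk, hkc, hxk⟩ := exists_line_not_mem h.toGSetup hx hx1
  have hex : ∃ e ∈ k, e ≠ 1 ∧ ¬ Cfsg.signalizerInf (zpowers x ⊔ zpowers e) θ ≤ L := by
    by_contra hcon
    push Not at hcon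
    exact hnle (theta_le_of_lines h hx hx1 hk hkc hxk hcon)
  obtain ⟨e, he, he1, hne⟩ := hex
  have hex' : e ∉ zpowers x := fun hh =>
    hxk (zpowers_le.mpr he ((zpowers_eq_of_mem h.elem hx hh he1).ge (mem_zpowers x)))
  have hn : zpowers x ⊔ zpowers e ≤ A := sup_le (zpowers_le.mpr hx) (zpowers_le.mpr (hk he))
  have hnc := card_pair h.elem hx hx1 (hk he) hex'
  refine gen_le h.toGSetup (qCore_mem h h3) hn hnc fun g hg hg1 => ?_
  by_cases hgx' : g ∈ zpowers x
  · rw [centralizer_eq_of_mem h.elem hx hgx' hg1]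
    exact inf_le_right
  refine (qCore_inf_bad h h3 (hn hg) hg1 fun hgood => hne ?_).le.trans bot_le
  exact hLN _ (inf_mem_family h.functor hn (line_ne_bot hnc))
    (line_normalizes h h3 hq2 hn hnc (mem_sup_left (mem_zpowers x)) hx1 hg hg1 hgx' hgx hgood)

/-- Two intersections have the same maximal member over their normalizers. -/
theorem local_top_eq (h : GHyp p A θ) (h3 : Three A θ) [hq : Fact q.Prime] [hs : Fact s.Prime]
    (hqs : q ≠ s) (hT : qCore p A θ q ≠ ⊥) (hTs : qCore p A θ s ≠ ⊥) (hL : IsTop p A θ L)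
    (hLN : ∀ Y ∈ Fam, Y ≤ normalizer (qCore p A θ q : Set G) → Y ≤ L) (hK : IsTop p A θ K)
    (hKN : ∀ Y ∈ Fam, Y ≤ normalizer (qCore p A θ s : Set G) → Y ≤ K) : K = L := by
  obtain ⟨hTL, hCL, -⟩ := local_top_spec h h3 hL hLN
  obtain ⟨hTK, hCK, -⟩ := local_top_spec h h3 hK hKN
  obtain ⟨w, hw, hwq, hws⟩ := exists_third h3 q s
  obtain ⟨Lw, hLw⟩ := exists_base h hw
  have hcomm : qCore p A θ q ≤ centralizer (qCore p A θ s : Set G) :=
    (qCore_le_base hLw hwq).trans ((oq_commute hq.out hs.out hqs).trans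
      (centralizer_le (SetLike.coe_subset_coe.mpr (qCore_le_base hLw hws))))
  have hTsL : qCore p A θ s ≤ oq s L := qCore_inf_le h h3 hL.1 hCL le_rfl
    (hLN _ (qCore_mem h h3) ((le_centralizer_iff.mp hcomm).trans (centralizer_le_normalizer _)))
  have hTqK : qCore p A θ q ≤ oq q K := qCore_inf_le h h3 hK.1 hCK le_rfl
    (hKN _ (qCore_mem h h3) (hcomm.trans (centralizer_le_normalizer _)))
  have hne : oq q L ≠ ⊥ := ne_bot_of_le_ne_bot hT hTL
  have hneS : oq s L ≠ ⊥ := ne_bot_of_le_ne_bot hTs hTsL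
  have hFL : ∀ v : ℕ, v.Prime → oq v L ≤ K := fun v hv =>
    cores_le_local h h3 hK hKN hL hCL hneS hv
  have hFK : ∀ v : ℕ, v.Prime → oq v K ≤ L := fun v hv =>
    cores_le_local h h3 hL hLN hK hCK (ne_bot_of_le_ne_bot hT hTqK) hv
  have hin : oq q L ⊓ K = oq q L := inf_eq_left.mpr (hFL q hq.out)
  refine bender h hL hK hq.out hs.out (Ne.symm hqs) hneS (fun u hu _ => hFL u hu)
    (by rw [hin]; exact hne) (fun Y hY hYn => le_top_of_oq h hL hne hY (by rwa [hin] at hYn))
    fun r hr hrK hrL => hrK (le_bot_iff.mp ?_)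
  haveI := Fact.mk hr
  haveI := hL.1.1
  rw [← hrL]
  refine le_oq_of_centralizes (hFK r hr) (oq_isPGroup r K) fun v hv => ?_
  by_cases hvr : v = r
  · subst hvr
    rw [hrL]
    exact fun u _ => mem_centralizer_iff.mpr fun w hw => by rw [mem_bot.mp hw, one_mul, mul_one]
  · exact oq_comm_of_le hr hv (Ne.symm hvr) (hFK r hr) (hFL v hv)

/-- Fixed points of a centralised core, inside another member, lie in the core. -/
theorem fixed_le_core (hK : K ∈ Fam) [hs : Fact s.Prime] (hU : X ≤ oq s L) (hUK : X ≤ K)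
    (hcores : ∀ v : ℕ, v.Prime → oq v K ≤ L) (hc : X ≤ centralizer (oq s K : Set G)) :
    X ≤ oq s K := by
  haveI := hK.1
  refine le_oq_of_centralizes hUK ((oq_isPGroup s L).to_le hU) fun v hv => ?_
  by_cases hvs : v = s
  · subst hvs; exact hc
  · exact (le_inf hU hUK).trans ((inter_core_comm hs.out hv (Ne.symm hvs)).trans
      (centralizer_le (SetLike.coe_subset_coe.mpr (le_inf le_rfl (hcores v hv)))))

/-- An unmoved core transfers to the maximal member over its cores. -/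
theorem op_centralizes_core (h : GHyp p A θ) (hL : IsTop p A θ L) (hK : IsTop p A θ K) (hy : y ∈ A)
    [hs : Fact s.Prime] (hne : oq s K ≠ ⊥) (hfix : oq s K ≤ centralizer ({y} : Set G))
    (hcores : ∀ v : ℕ, v.Prime → oq v K ≤ L) : y ∈ centralizer (oq s L : Set G) := by
  have hcop : (orderOf y).Coprime s :=
    ((hp.out.coprime_iff_not_dvd.mpr fun hd => ne_p_of_dvd hK.1 (dvd_of_oq_ne_bot hs.out hne)
      ((Nat.prime_dvd_prime_iff_eq hp.out hs.out).mp hd).symm)).coprime_dvd_left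
      (orderOf_dvd_of_pow_eq_one (h.elem.2 y hy))
  have hU : oq s L ⊓ centralizer (oq s K : Set G) ∈ Fam :=
    mem_inf (mem_oq hL.1 s) ((le_normalizer_oq_of (fam_norm hK.1) s).trans
      (normalizer_le_normalizer_centralizer_set _))
  have hUK := le_top_of_centralizes_oq h hK hne hU inf_le_right
  refine LocalEvenB.mem_centralizer_of_axb hcop (oq_isPGroup s L) (oq_isPGroup s K)
    ((hcores s hs.out).trans (le_normalizer_oq s L)) (le_normalizer_oq_of (fam_norm hL.1) s hy)
    (Solv.mem_centralizer_of_le hfix) ?_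
  exact Solv.mem_centralizer_of_le
    ((fixed_le_core hK.1 inf_le_left hUK hcores inf_le_right).trans hfix)

/-- The two escaping points of a line of good points cannot exist. -/
theorem odd_pair_false (h : GHyp p A θ) (h3 : Three A θ) [hq : Fact q.Prime] (hq2 : q ≠ 2)
    (hT : qCore p A θ q ≠ ⊥) (hL : IsTop p A θ L)
    (hLN : ∀ Y ∈ Fam, Y ≤ normalizer (qCore p A θ q : Set G) → Y ≤ L) (hx : x ∈ A) (hx1 : x ≠ 1)
    (hy : y ∈ A) (hy1 : y ≠ 1) (hyx : y ∉ zpowers x) (hnx : ¬ θ x ≤ L) (hny : ¬ θ y ≤ L)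
    {Kx Ky : Subgroup G} (hKx : IsTop p A θ Kx) (hxK : θ x ≤ Kx) (hnex : oq q Kx ≠ ⊥)
    (hKy : IsTop p A θ Ky) (hyK : θ y ≤ Ky) (hney : oq q Ky ≠ ⊥)
    (h2 : oq 2 Ky ≠ ⊥ → oq 2 Kx ≠ ⊥) : False := by
  have hCx : C₀ ≤ Kx := inf_le_of_theta_le hx hx1 hxK
  have hCy : C₀ ≤ Ky := inf_le_of_theta_le hy hy1 hyK
  have hgx : GoodPt p A θ q x := ⟨Kx, hKx, hxK, hnex⟩
  have hgy : GoodPt p A θ q y := ⟨Ky, hKy, hyK, hney⟩
  have hcx : ∀ v : ℕ, v.Prime → oq v Kx ≤ L := fun v hv =>
    cores_le_local h h3 hL hLN hKx hCx hnex hv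
  have hcy : ∀ v : ℕ, v.Prime → oq v Ky ≤ L := fun v hv =>
    cores_le_local h h3 hL hLN hKy hCy hney hv
  have hTy : qCore p A θ q ≤ centralizer ({y} : Set G) :=
    centralizes_of_outside h h3 hq2 hLN hy hy1 hgy hny
  have hqy : oq q Ky ≤ centralizer ({y} : Set G) := by
    rw [← comm_eq_bot_iff, ← comm_idem h.toGSetup (mem_oq hKy.1 q) hy, comm_eq_bot_iff]
    exact (colour_le_qCore h hq2 hy hy1 hKy.1 hyK).trans hTy
  have hyR : y ∈ centralizer (oq q L : Set G) := op_centralizes_core h hL hKy hy hney hqy hcy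
  set P := oq q Kx
  have hPL : P ≤ L := hcx q hq.out
  have hPf : P ∈ Fam := mem_oq hKx.1 q
  set Z := ⁅P, zpowers y⁆ with hZ
  have hZV : ∀ s : ℕ, s.Prime → Z ≤ centralizer (oq s L : Set G) := by
    intro s hs
    haveI := Fact.mk hs
    have hPV : P ≤ normalizer (oq s L : Set G) := hPL.trans (le_normalizer_oq s L)
    by_cases hsq : s = q
    · subst hsq
      exact comm_le_centralizer hyR hPV
    by_cases hsx : oq s Kx = ⊥
    · by_cases hsy : oq s Ky = ⊥
      · refine fpf_centralizes h.toGSetup hq.out hq2 hs (Ne.symm hsq) hPf (oq_isPGroup q Kx)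
          (mem_oq hL.1 s) (oq_isPGroup s L) hPV hy ?_
        have hU : oq s L ⊓ centralizer ({y} : Set G) ≤ oq s Ky :=
          fixed_le_core hKy.1 inf_le_left ((fam_fix (mem_oq hL.1 s) hy hy1).trans hyK) hcy
            (by rw [hsy]; exact fun u _ => mem_centralizer_iff.mpr fun w hw => by
                  rw [mem_bot.mp hw, one_mul, mul_one])
        rw [hsy] at hU
        exact hU.trans bot_le
      by_cases hfix : oq s Ky ≤ centralizer ({y} : Set G)
      · exact comm_le_centralizer (op_centralizes_core h hL hKy hy hsy hfix hcy) hPV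
      exfalso
      have hs2 : s ≠ 2 := fun e => h2 (e ▸ hsy) (e ▸ hsx)
      have hcol := colour_le_qCore h hs2 hy hy1 hKy.1 hyK
      have hmv : ⁅oq s Ky, zpowers y⁆ ≠ ⊥ := comm_ne_bot hfix
      have hTs : qCore p A θ s ≠ ⊥ := ne_bot_of_le_ne_bot hmv hcol
      obtain ⟨Ls, hLs, hLsN⟩ := exists_local_top h (qCore_mem (q := s) h h3) hTs
      refine hny (?_ : θ y ≤ L)
      rw [← local_top_eq h h3 (Ne.symm hsq) hT hTs hL hLN hLs hLsN]
      by_contra hnle
      refine hmv ?_
      rw [← comm_idem h.toGSetup (mem_oq hKy.1 s) hy, comm_eq_bot_iff]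
      exact hcol.trans (centralizes_of_outside h h3 hs2 hLsN hy hy1 ⟨Ky, hKy, hyK, hsy⟩ hnle)
    · refine (Solv.comm_le_self (fam_norm hPf hy)).trans ((le_inf le_rfl hPL).trans ?_)
      refine inter_axb hq.out hs (Ne.symm hsq) (oq_isPGroup s Kx)
        ((hcx s hs).trans (le_normalizer_oq s L))
        (inf_le_left.trans (oq_commute hq.out hs (Ne.symm hsq))) ?_
      exact le_top_of_centralizes_oq h hKx hsx (mem_inf (mem_oq hL.1 s)
        ((le_normalizer_oq_of (fam_norm hKx.1) s).trans (normalizer_le_normalizer_centralizer_set _)))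
        inf_le_right
  have hPy : y ∈ centralizer (P : Set G) := by
    haveI := hL.1.1
    have hZle : Z ≤ P := Solv.comm_le_self (fam_norm hPf hy)
    have hZR : Z ≤ oq q L := le_oq_of_centralizes (hZle.trans hPL)
      ((oq_isPGroup q Kx).to_le hZle) hZV
    refine Solv.mem_centralizer_of_le ?_
    rw [← comm_eq_bot_iff, ← comm_idem h.toGSetup hPf hy, comm_eq_bot_iff]
    exact hZR.trans fun u hu =>
      mem_centralizer_singleton_iff.mpr (mem_centralizer_iff.mp hyR u hu)
  refine hnx ?_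
  have hθ := theta_mem_family h.functor hx hx1
  rw [← Core.commutator_sup_centralizer (A := zpowers y) (zpowers_le.mpr (fam_norm hθ hy))
    (by rw [Nat.card_zpowers]; exact coprime_orderOf h.toGSetup hθ hy) (Or.inl inferInstance),
    centralizer_zpowers]
  refine sup_le (hLN _ (mem_comm h.toGSetup hθ hy) ?_) ?_
  · exact (comm_le_centralizer hPy (hxK.trans (le_normalizer_oq q Kx))).trans
      ((centralizer_le (SetLike.coe_subset_coe.mpr (qCore_le_oq h h3 hKx hCx hnex))).trans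
        (centralizer_le_normalizer _))
  · have hm : zpowers x ⊔ zpowers y ≤ A := sup_le (zpowers_le.mpr hx) (zpowers_le.mpr hy)
    have hmc := card_pair h.elem hx hx1 hy hyx
    refine le_trans ?_ (hLN _ (inf_mem_family h.functor hm (line_ne_bot hmc))
      (line_normalizes h h3 hq2 hm hmc (mem_sup_left (mem_zpowers x)) hx1
        (mem_sup_right (mem_zpowers y)) hy1 hyx hgx hgy))
    exact (le_inf inf_le_left (le_centralizer_pair
      (inf_le_left.trans (theta_le_centralizer h.toGSetup hx hx1)) inf_le_right)).trans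
      ((family_inf_centralizer_eq h.functor.1 hθ hm).le.trans inf_le_right)

/-- **For at least three primes the intersections of odd primes are trivial.** -/
theorem qCore_eq_bot_of_odd (h : GHyp p A θ) (h3 : Three A θ) [hq : Fact q.Prime] (hq2 : q ≠ 2) :
    qCore p A θ q = ⊥ := by
  by_contra hT
  obtain ⟨L, hL, hLN⟩ := exists_local_top h (qCore_mem h h3) hT
  obtain ⟨m, hm, -, hgood, x, hx, y, hy, hx1, hy1, hyx, hnx, hny⟩ :=
    exists_good_outside h h3 hT hL
  obtain ⟨Kx, hKx, hxK, hnex⟩ := hgood x hx hx1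
  obtain ⟨Ky, hKy, hyK, hney⟩ := hgood y hy hy1
  by_cases h2 : oq 2 Ky ≠ ⊥ → oq 2 Kx ≠ ⊥
  · exact odd_pair_false h h3 hq2 hT hL hLN (hm hx) hx1 (hm hy) hy1 hyx hnx hny hKx hxK hnex hKy hyK
      hney h2
  · push Not at h2
    exact odd_pair_false h h3 hq2 hT hL hLN (hm hy) hy1 (hm hx) hx1
      (not_mem_zpowers_symm h.toGSetup (hm hy) hx1 hyx (hm hx))
      hny hnx hKy hyK hney hKx hxK hnex fun _ => h2.1

end CfsgLib.Signalizer.Gen
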