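import Cfsg.Agent.Lib.Signalizer.General.PurePair
import Cfsg.Agent.Lib.Signalizer.General.NoCore

/-!
Owner: helper13. A minimal counterexample of the general signalizer functor theorem does not exist.
-/

set_option autoImplicit false
set_option maxHeartbeats 800000

namespace CfsgLib.Signalizer.Gen

open Subgroup Solv
open scoped commutatorElement

universe u

variable {G : Type u} [Group G] [Finite G] {p : ℕ} [hp : Fact p.Prime] {A : Subgroup G}
  {θ : G → Subgroup G} {M K L X Y k n : Subgroup G} {a b g x y e : G} {q r v w : ℕ}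

local notation "Fam" => Cfsg.signalizerFamily p A θ
local notation "C₀" => Cfsg.signalizerInf A θ

/-- A point below a maximal member without a core for `w`. -/
def GoodV (p : ℕ) (A : Subgroup G) (θ : G → Subgroup G) (w : ℕ) (g : G) : Prop :=
  ∃ K, IsTop p A θ K ∧ θ g ≤ K ∧ oq w K = ⊥

variable [hv : Fact v.Prime] [hw : Fact w.Prime]

theorem PureCase.tCore_le_good (P : PureCase p A θ v w k) (hg : g ∈ A) (hg1 : g ≠ 1)
    (hK : IsTop p A θ K) (hgK : θ g ≤ K) (h0 : oq w K = ⊥) : tCore p A θ v ≤ oq v K :=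
  P.tCore_le_pure _ K rfl hK (inf_le_of_theta_le hg hg1 hgK) h0

theorem PureCase.tCore_inf_le (P : PureCase p A θ v w k) (hM : M ∈ Fam)
    (hX : X ≤ tCore p A θ v) (hXM : X ≤ M) : X ≤ oq v M := by
  refine criterion P.duo.hyp.toGSetup P.le P.card (fun g hg hg1 => ?_) hM hXM
  obtain ⟨L, hL, hgL, h0⟩ := P.points g hg hg1
  exact ⟨L, hL.1, hgL, hX.trans (P.tCore_le_good (P.le hg) hg1 hL hgL h0)⟩

theorem PureCase.bad_inf (P : PureCase p A θ v w k) (hb : b ∈ A) (hb1 : b ≠ 1)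
    (hbad : ¬ GoodV p A θ w b) : tCore p A θ v ⊓ centralizer ({b} : Set G) = ⊥ := by
  obtain ⟨K, hK, hbK⟩ := exists_top (theta_mem_family P.duo.hyp.functor hb hb1)
  have h0 : oq v K = ⊥ := (P.pure K hK (inf_le_of_theta_le hb hb1 hbK)).resolve_right
    fun h0 => hbad ⟨K, hK, hbK, h0⟩
  exact le_bot_iff.mp (h0 ▸ P.tCore_inf_le hK.1 inf_le_left
    ((fam_fix P.tCore_mem hb hb1).trans hbK))

/-- The fixed part of a line with a good point normalises the common core. -/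
theorem PureCase.line_normalizes (P : PureCase p A θ v w k) (hn : n ≤ A)
    (hnc : Nat.card n = p ^ 2) (hg : g ∈ n) (hg1 : g ≠ 1) (hgood : GoodV p A θ w g)
    (hcase : (v ≠ 2 ∧ ∃ x ∈ n, ∃ y ∈ n, x ≠ 1 ∧ y ≠ 1 ∧ y ∉ zpowers x ∧ GoodV p A θ w x ∧
        GoodV p A θ w y) ∨
      ∀ b ∈ n, ∀ a ∈ n, b ≠ 1 → a ≠ 1 → ¬ GoodV p A θ w b → ¬ GoodV p A θ w a → a ∈ zpowers b) :
    Cfsg.signalizerInf n θ ≤ normalizer (tCore p A θ v : Set G) := by
  have h := P.duo.hyp
  set T := tCore p A θ v with hT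
  set Θ := Cfsg.signalizerInf n θ with hΘ
  have hΘf : Θ ∈ Fam := inf_mem_family h.functor hn (line_ne_bot hnc)
  set Q := orbit T Θ with hQ
  have hQA : A ≤ normalizer (Q : Set G) :=
    le_normalizer_orbit A_le_normalizer_tCore (fam_norm hΘf)
  have hQK : ∀ f ∈ n, f ≠ 1 → ∀ K, IsTop p A θ K → θ f ≤ K → oq w K = ⊥ → Q ≤ oq v K :=
    fun f hf hf1 K hK hfK h0 => orbit_le (P.tCore_le_good (hn hf) hf1 hK hfK h0)
      (((inf_le_theta hf hf1).trans hfK).trans (le_normalizer_oq v K))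
  obtain ⟨K₀, hK₀, hgK₀, h00⟩ := hgood
  have hQf : Q ∈ Fam := family_of_le (mem_oq hK₀.1 v) (hQK g hg hg1 K₀ hK₀ hgK₀ h00) hQA
  have hQv : IsPGroup v Q := (oq_isPGroup v K₀).to_le (hQK g hg hg1 K₀ hK₀ hgK₀ h00)
  have hCΘ : C₀ ≤ Θ := fun _ hx => mem_inf_iff.mpr fun b hb hb1 => Solv.inf_le (hn hb) hb1 hx
  have hQH : Q ≤ pSup p A θ v :=
    le_pSup hQf hQv (hCΘ.trans (le_normalizer_orbit_right T Θ))
  suffices hle : Q ≤ T by
    rw [← le_antisymm hle (le_orbit T Θ)]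
    exact le_normalizer_orbit_right T Θ
  refine le_inf hQH (le_iInf fun N => ?_)
  have hN := N.2
  have hQN : Q ≤ (N : Subgroup G) := hQH.trans hN.pSup_le
  refine P.le_oq_of_layer hN.top.1 hQN hQv ?_
  have hvw : v ≠ w := P.duo.ne
  have hnp := elementary_of_le h.elem hn
  have hgl : ∀ f ∈ n, f ≠ 1 → GoodV p A θ w f →
      ⁅Q, layer v w (N : Subgroup G) ⊓ centralizer ({f} : Set G)⁆ ≤ oq v (N : Subgroup G) := by
    rintro f hf hf1 ⟨K, hK, hfK, h0⟩
    refine comm_layer_le hvw inf_le_left (oq_isPGroup v K) (hQK f hf hf1 K hK hfK h0) ?_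
      (hQN.trans (le_normalizer_layer v w _))
    intro u hu
    exact le_normalizer_oq v K (hfK (fam_fix hN.top.1 (hn hf) hf1
      ⟨Gen.layer_le v w _ hu.1, hu.2⟩))
  by_cases hall : ∀ f ∈ n, f ≠ 1 → GoodV p A θ w f
  · exact layer_comm_of_fixed hnp hnc.ge (hn.trans (fam_norm hN.top.1)) (fam_not_dvd hN.top.1) hQN
      fun f hf hf1 => hgl f hf hf1 (hall f hf hf1)
  push Not at hall
  obtain ⟨b, hb, hb1, hbad⟩ := hall
  have hTb : ⁅T, zpowers b⁆ = T := by
    have := Core.commutator_sup_centralizer (A := zpowers b)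
      (zpowers_le.mpr (fam_norm P.tCore_mem (hn hb)))
      (by rw [Nat.card_zpowers]; exact coprime_orderOf h.toGSetup P.tCore_mem (hn hb))
      (Or.inl inferInstance)
    rwa [centralizer_zpowers, P.bad_inf (hn hb) hb1 hbad, sup_bot_eq] at this
  have hQb : ⁅Q, zpowers b⁆ = Q := orbit_comm hTb
    ((inf_le_theta hb hb1).trans (theta_le_centralizer h.toGSetup (hn hb) hb1)) (hQA (hn hb))
  rcases hcase with ⟨hv2, x, hx, y, hy, hx1, hy1, hyx, hgx, hgy⟩ | hone
  · set W := ⁅Q, zpowers x⁆ ⊔ ⁅Q, zpowers y⁆ with hW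
    have hWn : n ≤ normalizer (W : Set G) := fun c hc =>
      normalizer_inf_normalizer_le_normalizer_sup _ _
        ⟨inf_centralizer_le_normalizer_comm (hn.trans hQA) x
          ⟨hc, mem_centralizer_singleton_iff.mpr (elementary_comm h.elem (hn hc) (hn hx))⟩,
        inf_centralizer_le_normalizer_comm (hn.trans hQA) y
          ⟨hc, mem_centralizer_singleton_iff.mpr (elementary_comm h.elem (hn hc) (hn hy))⟩⟩
    have hnW : ⁅zpowers x ⊔ zpowers y, Q⁆ ≤ W :=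
      comm_sup_le ((zpowers_le.mpr hx).trans hWn) ((zpowers_le.mpr hy).trans hWn)
        ((commutator_comm _ _).le.trans le_sup_left) ((commutator_comm _ _).le.trans le_sup_right)
    have hQW : Q ≤ W := by
      refine hQb.ge.trans ?_
      rw [commutator_comm]
      refine (commutator_mono ?_ le_rfl).trans hnW
      rw [line_eq h.elem hn hnc hx hx1 hy hyx]
      exact zpowers_le.mpr hb
    have key : ∀ f ∈ n, f ≠ 1 → GoodV p A θ w f →
        ⁅⁅Q, zpowers f⁆, layer v w (N : Subgroup G)⁆ ≤ oq v (N : Subgroup G) := by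
      intro f hf hf1 hgf
      have hvp : v ≠ p := by
        obtain ⟨K, hK, -, h0⟩ := hgf
        exact ne_p_of_dvd hK.1 (dvd_of_oq_ne_bot hv.out (P.duo.core_ne hK h0))
      exact comm_layer_of_fpf (p := p) hvw hvp (Or.inl hv2) (h.elem.2 f (hn hf))
        (fam_norm hN.top.1 (hn hf)) (fam_not_dvd hN.top.1) hQN hQv (hQA (hn hf)) (hgl f hf hf1 hgf)
    refine (commutator_mono hQW le_rfl).trans
      (comm_sup_le ?_ ?_ (key x hx hx1 hgx) (key y hy hy1 hgy))
    · exact ((Solv.comm_le_self (hQA (hn hx))).trans hQN).trans (le_qN v _)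
    · exact ((Solv.comm_le_self (hQA (hn hy))).trans hQN).trans (le_qN v _)
  · refine comm_layer_of_one_bad hvw hnp hnc (fam_not_dvd hN.top.1) (hn.trans (fam_norm hN.top.1))
      hQN hQv hb (hQA (hn hb)) hQb fun f hf hfb => ?_
    have hf1 : f ≠ 1 := fun e => hfb (e ▸ one_mem _)
    exact hgl f hf hf1 (by_contra fun hbf => hfb (hone b hb f hf hb1 hf1 hbad hbf))

/-- A good point with escaping value centralises the common core. -/
theorem PureCase.centralizes_of_outside (P : PureCase p A θ v w k) (hv2 : v ≠ 2)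
    (hLN : ∀ Y ∈ Fam, Y ≤ normalizer (tCore p A θ v : Set G) → Y ≤ L) (hx : x ∈ A) (hx1 : x ≠ 1)
    (hgx : GoodV p A θ w x) (hnle : ¬ θ x ≤ L) :
    tCore p A θ v ≤ centralizer ({x} : Set G) := by
  have h := P.duo.hyp
  obtain ⟨l, hl, hlc, hxl⟩ := exists_line_not_mem h.toGSetup hx hx1
  have hex : ∃ e ∈ l, e ≠ 1 ∧ ¬ Cfsg.signalizerInf (zpowers x ⊔ zpowers e) θ ≤ L := by
    by_contra hcon
    push Not at hcon
    exact hnle (theta_le_of_lines h hx hx1 hl hlc hxl hcon)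
  obtain ⟨e, he, he1, hne⟩ := hex
  have hex' : e ∉ zpowers x := fun hh =>
    hxl (zpowers_le.mpr he ((zpowers_eq_of_mem h.elem hx hh he1).ge (mem_zpowers x)))
  have hn : zpowers x ⊔ zpowers e ≤ A := sup_le (zpowers_le.mpr hx) (zpowers_le.mpr (hl he))
  have hnc := card_pair h.elem hx hx1 (hl he) hex'
  refine gen_le h.toGSetup P.tCore_mem hn hnc fun g hg hg1 => ?_
  by_cases hgx' : g ∈ zpowers x
  · rw [centralizer_eq_of_mem h.elem hx hgx' hg1]
    exact inf_le_right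
  refine (P.bad_inf (hn hg) hg1 fun hgood => hne ?_).le.trans bot_le
  exact hLN _ (inf_mem_family h.functor hn (line_ne_bot hnc))
    (P.line_normalizes hn hnc (mem_sup_left (mem_zpowers x)) hx1 hgx
      (Or.inl ⟨hv2, x, mem_sup_left (mem_zpowers x), g, hg, hx1, hg1, hgx', hgx, hgood⟩))

omit hv hw

/-- All bad points on one ray: everything normalises the common core. -/
theorem pure_two_false (D : Duo p A θ 2 q) [Fact q.Prime]
    (hpure : ∀ L, IsTop p A θ L → C₀ ≤ L → oq 2 L = ⊥ ∨ oq q L = ⊥) (he : e ∈ A) (he1 : e ≠ 1)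
    (hray : ∀ f ∈ A, f ≠ 1 → ¬ GoodV p A θ q f → f ∈ zpowers e) : False := by
  haveI : Fact (Nat.Prime 2) := ⟨Nat.prime_two⟩
  have h := D.hyp
  obtain ⟨k, hk, hkc, hek⟩ := exists_line_not_mem h.toGSetup he he1
  have hkgood : ∀ f ∈ k, f ≠ 1 → GoodV p A θ q f := fun f hf hf1 => by
    by_contra hbad
    exact hek (zpowers_le.mpr hf ((zpowers_eq_of_mem h.elem he (hray f (hk hf) hf1 hbad) hf1).ge
      (mem_zpowers e)))
  have P : PureCase p A θ 2 q k := ⟨D, hpure, hk, hkc, fun f hf hf1 => hkgood f hf hf1⟩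
  obtain ⟨L, hL, hLN⟩ := exists_local_top h P.tCore_mem
    (ne_bot_of_le_ne_bot P.cent_ne P.pCent_le_tCore)
  obtain ⟨a, ha, ha1, hnle⟩ := exists_theta_not_le h hL.1
  obtain ⟨l, hl, hlc, hal⟩ := exists_line_not_mem h.toGSetup ha ha1
  refine hnle (theta_le_of_lines h ha ha1 hl hlc hal fun f hf hf1 => ?_)
  have hfa : f ∉ zpowers a := fun hh =>
    hal (zpowers_le.mpr hf ((zpowers_eq_of_mem h.elem ha hh hf1).ge (mem_zpowers a)))
  have hn : zpowers a ⊔ zpowers f ≤ A := sup_le (zpowers_le.mpr ha) (zpowers_le.mpr (hl hf))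
  have hnc := card_pair h.elem ha ha1 (hl hf) hfa
  have hone : ∀ b ∈ zpowers a ⊔ zpowers f, ∀ c ∈ zpowers a ⊔ zpowers f, b ≠ 1 → c ≠ 1 →
      ¬ GoodV p A θ q b → ¬ GoodV p A θ q c → c ∈ zpowers b := fun b hb c hc hb1 hc1 hbb hbc => by
    rw [zpowers_eq_of_mem h.elem he (hray b (hn hb) hb1 hbb) hb1]
    exact hray c (hn hc) hc1 hbc
  obtain ⟨g, hg, hg1, hgood⟩ : ∃ g ∈ zpowers a ⊔ zpowers f, g ≠ 1 ∧ GoodV p A θ q g := by
    by_contra hcon
    push Not at hcon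
    exact hfa (hone a (mem_sup_left (mem_zpowers a)) f (mem_sup_right (mem_zpowers f)) ha1 hf1
      (hcon a (mem_sup_left (mem_zpowers a)) ha1) (hcon f (mem_sup_right (mem_zpowers f)) hf1))
  exact hLN _ (inf_mem_family h.functor hn (line_ne_bot hnc))
    (P.line_normalizes hn hnc hg hg1 hgood (Or.inr hone))

/-- A moved odd core: the common core for the odd prime gives a contradiction. -/
theorem pure_odd_false (D : Duo p A θ 2 q) [hq : Fact q.Prime]
    (hpure : ∀ L, IsTop p A θ L → C₀ ≤ L → oq 2 L = ⊥ ∨ oq q L = ⊥) (hx : x ∈ A) (hx1 : x ≠ 1)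
    (hM : IsTop p A θ M) (hxM : θ x ≤ M) (hmv : ¬ oq q M ≤ centralizer ({x} : Set G)) : False := by
  haveI : Fact (Nat.Prime 2) := ⟨Nat.prime_two⟩
  have h := D.hyp
  have hq2 : q ≠ 2 := Ne.symm D.ne
  have hQf : oq q M ∈ Fam := mem_oq hM.1 q
  obtain ⟨k, hk, hkc, -, hkne⟩ :=
    exists_weight_line h.elem h.card (fam_not_dvd hQf) (fam_norm hQf) hx hmv
  have hpoints : ∀ g ∈ k, g ≠ 1 → GoodV p A θ 2 g := by
    intro g hg hg1
    obtain ⟨L, hL, hgL⟩ := exists_top (theta_mem_family h.functor (hk hg) hg1)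
    refine ⟨L, hL, hgL, (hpure L hL (inf_le_of_theta_le (hk hg) hg1 hgL)).resolve_right
      fun h0 => hkne ?_⟩
    have hU : oq q M ⊓ centralizer (k : Set G) ∈ Fam :=
      mem_inf hQf (le_normalizer_centralizer_of_le h.elem hk)
    rw [← comm_eq_bot_iff, ← le_bot_iff]
    refine (commutator_mono ?_ le_rfl).trans ((star h.toGSetup hM.1 hL.1 hx hx1 hxM hq.out hq2).trans
      h0.le)
    exact le_inf inf_le_left (((inf_le_inf_left _ (centralizer_le (Set.singleton_subset_iff.mpr hg))).trans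
      (fam_fix hQf (hk hg) hg1)).trans hgL)
  have P : PureCase p A θ q 2 k :=
    ⟨D.symm, fun L hL hC => (hpure L hL hC).symm, hk, hkc, fun g hg hg1 => hpoints g hg hg1⟩
  have hT : tCore p A θ q ≠ ⊥ := ne_bot_of_le_ne_bot P.cent_ne P.pCent_le_tCore
  obtain ⟨L, hL, hLN⟩ := exists_local_top h P.tCore_mem hT
  obtain ⟨m, hm, hmc, hfix⟩ := exists_fixing_line h.toGSetup P.tCore_mem hT
  have hmgood : ∀ g ∈ m, g ≠ 1 → GoodV p A θ 2 g := fun g hg hg1 => by
    by_contra hbad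
    exact hfix (le_bot_iff.mp ((inf_le_inf_left _ (centralizer_le
      (Set.singleton_subset_iff.mpr hg))).trans (P.bad_inf (hm hg) hg1 hbad).le))
  obtain ⟨g, hg, hg1⟩ := exists_ne_one_of_sq_le hmc.ge
  obtain ⟨a, ha, ha1, -, haL⟩ := two_outside h hL hm hmc (hm hg) hg1
  obtain ⟨b, hb, hb1, hba, hbL⟩ := two_outside h hL hm hmc (hm ha) ha1
  have hsingle : ∀ f ∈ m, f ≠ 1 → ¬ θ f ≤ L → IsTop p A θ (θ f) ∧ oq 2 (θ f) = ⊥ := by
    intro f hf hf1 hfL
    obtain ⟨K, hK, hfK, h0⟩ := hmgood f hf hf1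
    have hc : oq q K ≤ centralizer ({f} : Set G) := by
      rw [← comm_eq_bot_iff, ← comm_idem h.toGSetup (mem_oq hK.1 q) (hm hf), comm_eq_bot_iff]
      refine le_trans ?_ (P.centralizes_of_outside hq2 hLN (hm hf) hf1 ⟨K, hK, hfK, h0⟩ hfL)
      have hKC := inf_le_of_theta_le (hm hf) hf1 hfK
      refine le_inf ((Solv.comm_le_self (le_normalizer_oq_of (fam_norm hK.1) q (hm hf))).trans
        (oq_le_pSup hK.1 hKC q)) (le_iInf fun N => ?_)
      exact (commutator_mono (le_inf le_rfl ((oq_le_pSup hK.1 hKC q).trans N.2.pSup_le)) le_rfl).trans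
        (star h.toGSetup hK.1 N.2.top.1 (hm hf) hf1 hfK hq.out hq2)
    rw [singleton_of_fixed D (hm hf) hf1 hK hfK h0 hc]
    exact ⟨hK, h0⟩
  obtain ⟨hTa, ha0⟩ := hsingle a ha ha1 haL
  obtain ⟨hTb, hb0⟩ := hsingle b hb hb1 hbL
  exact hba (singleton_ray D (hm ha) ha1 (hm hb) hb1 hTa hTb ha0 hb0)

/-- Exactly two primes are impossible. -/
theorem not_duo (D : Duo p A θ 2 q) : False := by
  haveI := Fact.mk D.wπ.1
  haveI : Fact (Nat.Prime 2) := ⟨Nat.prime_two⟩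
  have h := D.hyp
  have hpure : ∀ L, IsTop p A θ L → C₀ ≤ L → oq 2 L = ⊥ ∨ oq q L = ⊥ := fun L hL hC => by
    by_contra hcon
    push Not at hcon
    exact no_both D ⟨hL, hC, hcon.1, hcon.2⟩
  by_cases hcol : ∃ x ∈ A, x ≠ 1 ∧ ∃ M, IsTop p A θ M ∧ θ x ≤ M ∧
      ¬ oq q M ≤ centralizer ({x} : Set G)
  · obtain ⟨x, hx, hx1, M, hM, hxM, hmv⟩ := hcol
    exact pure_odd_false D hpure hx hx1 hM hxM hmv
  push Not at hcol
  have hbadtop : ∀ f ∈ A, f ≠ 1 → ¬ GoodV p A θ q f → IsTop p A θ (θ f) ∧ oq 2 (θ f) = ⊥ := by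
    intro f hf hf1 hbad
    obtain ⟨K, hK, hfK⟩ := exists_top (theta_mem_family h.functor hf hf1)
    have h0 : oq 2 K = ⊥ := (hpure K hK (inf_le_of_theta_le hf hf1 hfK)).resolve_right
      fun h0 => hbad ⟨K, hK, hfK, h0⟩
    rw [singleton_of_fixed D hf hf1 hK hfK h0 (hcol f hf hf1 K hK hfK)]
    exact ⟨hK, h0⟩
  by_cases hex : ∃ e ∈ A, e ≠ 1 ∧ ¬ GoodV p A θ q e
  · obtain ⟨e, he, he1, hbad⟩ := hex
    obtain ⟨hTe, he0⟩ := hbadtop e he he1 hbad
    refine pure_two_false D hpure he he1 fun f hf hf1 hbf => ?_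
    obtain ⟨hTf, hf0⟩ := hbadtop f hf hf1 hbf
    exact singleton_ray D he he1 hf hf1 hTe hTf he0 hf0
  · obtain ⟨e, he, he1⟩ := exists_ne_one_of_sq_le (card_A_ge h.toGSetup)
    exact pure_two_false D hpure he he1 fun f hf hf1 hbf => absurd ⟨f, hf, hf1, hbf⟩ hex

/-- The prime two alone is impossible. -/
theorem not_one (h : GHyp p A θ) (hall : ∀ r, InPi A θ r → r = 2) : False := by
  haveI : Fact (Nat.Prime 2) := ⟨Nat.prime_two⟩
  have htwo : ∀ {X : Subgroup G}, X ∈ Fam → IsPGroup 2 X := fun {X} hX =>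
    IsPGroup.of_card (Nat.eq_prime_pow_of_unique_prime_dvd Nat.card_pos.ne'
      fun {d} hd hdvd => hall d (inPi_of_dvd h.toGSetup hX hd hdvd))
  obtain ⟨U, hCU, hU⟩ := exists_maxMember (inf_mem h.toGSetup) (htwo (inf_mem h.toGSetup))
  refine h.not_done ⟨U, hU.1, fun a ha ha1 => ?_⟩
  obtain ⟨V, haV, hV⟩ := exists_maxMember (theta_mem_family h.functor ha ha1)
    (htwo (theta_mem_family h.functor ha ha1))
  obtain ⟨c, hc, rfl⟩ := transitivity h.elem h.card.ge h.functor hU hV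
  exact haV.trans (LocalEvenB.map_conj_eq_self_iff_mem_normalizer.mpr (le_normalizer (hCU hc))).le

/-- **There is no minimal counterexample.** -/
theorem not_ghyp (h : GHyp p A θ) : False := by
  have h2 := two_inPi h
  by_cases h1 : ∀ r, InPi A θ r → r = 2
  · exact not_one h h1
  push Not at h1
  obtain ⟨q, hq, hq2⟩ := h1
  by_cases hD : ∀ r, InPi A θ r → r = 2 ∨ r = q
  · exact not_duo ⟨h, h2, hq, Ne.symm hq2, hD⟩
  push Not at hD
  obtain ⟨x, hx, hx2, hxq⟩ := hD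
  refine not_three h fun t => ?_
  by_cases ht2 : t = 2
  · exact ⟨q, x, hq, hx, Ne.symm hxq, ht2 ▸ hq2, ht2 ▸ hx2⟩
  by_cases htq : t = q
  · exact ⟨2, x, h2, hx, Ne.symm hx2, Ne.symm ht2, htq ▸ hxq⟩
  exact ⟨2, q, h2, hq, Ne.symm hq2, Ne.symm ht2, Ne.symm htq⟩

end CfsgLib.Signalizer.Gen
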