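import Cfsg.Agent.Lib.Signalizer.General.TwoPrimes
import Cfsg.Agent.Lib.PLocal.NotFactorizableCoprime
import Cfsg.Agent.Lib.Core.PLengthTwoMaximal

/-!
Owner: helper13. Exactly two primes, all maximal members pure: the common core of the maximal
members above all members for one prime is normalised by everything.
-/

set_option autoImplicit false
set_option maxHeartbeats 800000

namespace CfsgLib.Signalizer.Gen

open Subgroup Solv
open scoped commutatorElement

universe u

variable {G : Type u} [Group G] [Finite G] {p : ℕ} [hp : Fact p.Prime] {A : Subgroup G}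
  {θ : G → Subgroup G} {M K L X Y S k n : Subgroup G} {a b g x y : G} {q r t v w : ℕ}

local notation "Fam" => Cfsg.signalizerFamily p A θ
local notation "C₀" => Cfsg.signalizerInf A θ

/-- All maximal members are pure, and a line has pure maximal members for `v` at all its points. -/
structure PureCase (p : ℕ) (A : Subgroup G) (θ : G → Subgroup G) (v w : ℕ) (k : Subgroup G) :
    Prop where
  duo : Duo p A θ v w
  pure : ∀ L, IsTop p A θ L → Cfsg.signalizerInf A θ ≤ L → oq v L = ⊥ ∨ oq w L = ⊥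
  le : k ≤ A
  card : Nat.card k = p ^ 2
  points : ∀ g ∈ k, g ≠ 1 → ∃ L, IsTop p A θ L ∧ θ g ≤ L ∧ oq w L = ⊥

/-- A maximal member above all members for `v` normalised by the fixed part. -/
structure BaseV (p : ℕ) (A : Subgroup G) (θ : G → Subgroup G) (v : ℕ) (L : Subgroup G) : Prop where
  top : IsTop p A θ L
  inf_le : Cfsg.signalizerInf A θ ≤ L
  pSup_le : pSup p A θ v ≤ L

/-- The common core of those maximal members. -/
def tCore (p : ℕ) (A : Subgroup G) (θ : G → Subgroup G) (v : ℕ) : Subgroup G :=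
  pSup p A θ v ⊓ ⨅ L : {L : Subgroup G // BaseV p A θ v L}, oq v (L : Subgroup G)

omit [Finite G] hp in
theorem tCore_le_base (hL : BaseV p A θ v L) : tCore p A θ v ≤ oq v L :=
  inf_le_right.trans (iInf_le (fun L : {L : Subgroup G // BaseV p A θ v L} =>
    oq v (L : Subgroup G)) ⟨L, hL⟩)

theorem le_normalizer_tCore (hX : X ≤ normalizer (pSup p A θ v : Set G))
    (hb : ∀ L, BaseV p A θ v L → X ≤ normalizer (oq v L : Set G)) :
    X ≤ normalizer (tCore p A θ v : Set G) := by
  intro g hg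
  refine mem_normalizer_of_forall_le fun u hu => ⟨?_, mem_iInf.mpr fun L => ?_⟩
  · exact (mem_normalizer_iff.mp (hX hg) u).mp hu.1
  · exact (mem_normalizer_iff.mp (hb L L.2 hg) u).mp (mem_iInf.mp hu.2 L)

theorem pSup_le_normalizer_tCore : pSup p A θ v ≤ normalizer (tCore p A θ v : Set G) :=
  le_normalizer_tCore le_normalizer fun L hL => hL.pSup_le.trans (le_normalizer_oq v L)

theorem inf_le_normalizer_tCore : C₀ ≤ normalizer (tCore p A θ v : Set G) :=
  le_normalizer_tCore inf_le_normalizer_pSup fun L hL => hL.inf_le.trans (le_normalizer_oq v L)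

theorem A_le_normalizer_tCore : A ≤ normalizer (tCore p A θ v : Set G) :=
  le_normalizer_tCore le_normalizer_pSup fun _ hL => le_normalizer_oq_of (fam_norm hL.top.1) v

section Basics

variable [hv : Fact v.Prime] (P : PureCase p A θ v w k)
include P

theorem PureCase.pSup_spec : pSup p A θ v ∈ Fam ∧ IsPGroup v (pSup p A θ v) :=
  Gen.pSup_spec P.duo.hyp P.duo.symm.ne_w

theorem PureCase.tCore_mem : tCore p A θ v ∈ Fam :=
  family_of_le P.pSup_spec.1 inf_le_left A_le_normalizer_tCore

theorem PureCase.tCore_isPGroup : IsPGroup v (tCore p A θ v) := P.pSup_spec.2.to_le inf_le_left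

/-- The centre lands in the core of every member containing it. -/
theorem PureCase.cross (hM : M ∈ Fam) (hle : pCent p A θ v ≤ M) : pCent p A θ v ≤ oq v M := by
  refine criterion P.duo.hyp.toGSetup P.le P.card (fun g hg hg1 => ?_) hM hle
  obtain ⟨L, hL, hgL, h0⟩ := P.points g hg hg1
  exact ⟨L, hL.1, hgL, P.duo.pure_cent hL (inf_le_of_theta_le (P.le hg) hg1 hgL) h0⟩

theorem PureCase.cent_ne : pCent p A θ v ≠ ⊥ := by
  obtain ⟨g, hg, hg1⟩ := exists_ne_one_of_sq_le P.card.ge
  obtain ⟨L, hL, hgL, h0⟩ := P.points g hg hg1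
  exact P.duo.pCent_ne hL.1 (inf_le_of_theta_le (P.le hg) hg1 hgL) (P.duo.core_ne hL h0)

theorem PureCase.pureV (hL : IsTop p A θ L) (hC : C₀ ≤ L) (hle : pCent p A θ v ≤ L) :
    oq w L = ⊥ :=
  (P.pure L hL hC).resolve_left (ne_bot_of_le_ne_bot P.cent_ne (P.cross hL.1 hle))

theorem PureCase.base_pure (hL : BaseV p A θ v L) : oq w L = ⊥ :=
  P.pureV hL.top hL.inf_le (inf_le_left.trans hL.pSup_le)

theorem PureCase.pCent_le_tCore : pCent p A θ v ≤ tCore p A θ v :=
  le_inf inf_le_left (le_iInf fun L => P.cross L.2.top.1 (inf_le_left.trans L.2.pSup_le))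

theorem PureCase.exists_baseV : ∃ L, BaseV p A θ v L := by
  obtain ⟨L, hL, hle⟩ := exists_top (family_sup P.duo.hyp.elem P.pSup_spec.1
    (inf_mem P.duo.hyp.toGSetup) inf_le_normalizer_pSup)
  exact ⟨L, hL, le_sup_right.trans hle, le_sup_left.trans hle⟩

theorem PureCase.layer_other (hM : M ∈ Fam) (ht : t.Prime) (htv : t ≠ v) (htw : t ≠ w) :
    layer v t M ≤ oq v M := by
  haveI := Fact.mk ht
  refine le_oq_of_le_layer (Ne.symm htv) (IsPGroup.of_card (Nat.eq_prime_pow_of_unique_prime_dvd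
    Nat.card_pos.ne' fun {d} hd hdvd => ?_)) le_rfl
  rcases layer_primes hd hdvd with e | e
  · exact e
  · rcases P.duo.only d (inPi_of_dvd P.duo.hyp.toGSetup (mem_layer_fam hM v t) hd hdvd) with e' | e'
    · exact e'
    · exact absurd (e ▸ e') htw

/-- It is enough to act trivially on one layer. -/
theorem PureCase.le_oq_of_layer (hM : M ∈ Fam) (hX : X ≤ M) (hXv : IsPGroup v X)
    (h : ⁅X, layer v w M⁆ ≤ oq v M) : X ≤ oq v M := by
  haveI := hM.1
  refine le_oq_of_layers hX hXv fun t ht htv => ?_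
  by_cases htw : t = w
  · exact htw ▸ h
  · exact (commutator_mono le_rfl (P.layer_other hM ht htv htw)).trans
      (le_normalizer_iff_commutator_le_right.mp (hX.trans (le_qN v M)))

end Basics

section Control

variable [hv : Fact v.Prime] [hw : Fact w.Prime]

/-- The two characteristic subgroups of a `v`-group used for generation. -/
theorem le_normalizer_thompson {U : Subgroup G} (hX : X ≤ normalizer (U : Set G)) :
    X ≤ normalizer (Cfsg.thompsonSubgroupOf v U : Set G) := fun g hg => by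
  rw [← LocalEvenB.map_conj_eq_self_iff_mem_normalizer, PLocal.thompsonOf_conj,
    LocalEvenB.map_conj_eq_self_iff_mem_normalizer.mpr (hX hg)]

theorem le_normalizer_omegaZ {U : Subgroup G} (hX : X ≤ normalizer (U : Set G)) :
    X ≤ normalizer (PLocal.omegaZ v U : Set G) := fun g hg => by
  rw [← LocalEvenB.map_conj_eq_self_iff_mem_normalizer, PLocal.omegaZ_conj,
    LocalEvenB.map_conj_eq_self_iff_mem_normalizer.mpr (hX hg)]

theorem omegaZ_ne_bot {U : Subgroup G} (hU : IsPGroup v U) (hne : U ≠ ⊥) :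
    PLocal.omegaZ v U ≠ ⊥ := by
  have h : U ⊓ centralizer (U : Set G) ≠ ⊥ := inf_centralizer_ne_bot hU hU le_normalizer hne
  have hd : v ∣ Nat.card ↥(U ⊓ centralizer (U : Set G)) := by
    obtain ⟨j, hj⟩ := (hU.to_le inf_le_left : IsPGroup v ↥(U ⊓ centralizer (U : Set G))).exists_card_eq
    refine hj ▸ dvd_pow_self v fun e => h ?_
    rw [e, pow_zero, card_eq_one] at hj
    exact hj
  obtain ⟨z, hz⟩ := exists_prime_orderOf_dvd_card' v hd
  have hz' : orderOf (z : G) = v := (Subgroup.orderOf_coe z).trans hz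
  intro hbot
  have h1 : (z : G) ∈ PLocal.omegaZ v U :=
    Subgroup.subset_closure ⟨z.2, hz' ▸ pow_orderOf_eq_one (z : G)⟩
  rw [hbot, mem_bot] at h1
  rw [h1, orderOf_one] at hz'
  exact hv.out.one_lt.ne hz'

theorem thompson_ne {U : Subgroup G} (hU : IsPGroup v U) (hne : U ≠ ⊥) :
    Cfsg.thompsonSubgroupOf v U ≠ ⊥ := by
  intro hbot
  have hd : v ∣ Nat.card U := by
    obtain ⟨j, hj⟩ := hU.exists_card_eq
    refine hj ▸ dvd_pow_self v fun e => hne ?_
    rw [e, pow_zero, card_eq_one] at hj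
    exact hj
  exact PLocal.thompson_ne_bot hd ((Subgroup.map_eq_bot_iff_of_injective _ U.subtype_injective).mp hbot)

/-- **The common core lies in the core of every pure maximal member for `v`.** -/
theorem PureCase.tCore_le_pure (P : PureCase p A θ v w k) :
    ∀ (j : ℕ) (M : Subgroup G),
      Nat.card (pSup p A θ v) - Nat.card ↥(pSup p A θ v ⊓ M) = j →
      IsTop p A θ M → C₀ ≤ M → oq w M = ⊥ → tCore p A θ v ≤ oq v M := by
  intro j
  induction j using Nat.strong_induction_on with
  | _ j ih =>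
  intro M hj hM hC h0
  by_cases hHM : pSup p A θ v ≤ M
  · exact tCore_le_base ⟨hM, hC, hHM⟩
  have h := P.duo.hyp
  obtain ⟨hHf, hHv⟩ := P.pSup_spec
  set Hv := pSup p A θ v with hHdef
  set S := Hv ⊓ M with hS
  have hSf : S ∈ Fam := mem_inf hHf (fam_norm hM.1)
  have hSv : IsPGroup v S := hHv.to_le inf_le_left
  have hTM : oq v M ≤ S := le_inf (oq_le_pSup hM.1 hC v) (oq_le v M)
  have hMne : oq v M ≠ ⊥ := P.duo.core_ne hM h0
  have hS1 : S ≠ ⊥ := ne_bot_of_le_ne_bot hMne hTM
  have hCS : C₀ ≤ normalizer (S : Set G) :=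
    (le_inf inf_le_normalizer_pSup (hC.trans le_normalizer)).trans inf_normalizer_le_normalizer_inf
  set N₀ := Hv ⊓ normalizer (S : Set G)
  have hgrow : S < N₀ :=
    Transfer.lt_inf_normalizer hHv (lt_of_le_of_ne inf_le_left fun e => hHM (e ▸ inf_le_right))
  -- the local members of the two characteristic subgroups
  have hloc : ∀ Y : Subgroup G, Y ≤ S → Y ≠ ⊥ →
      (∀ X : Subgroup G, X ≤ normalizer (S : Set G) → X ≤ normalizer (Y : Set G)) →
      ∃ L, IsTop p A θ L ∧ (∀ Z ∈ Fam, Z ≤ normalizer (Y : Set G) → Z ≤ L) ∧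
        tCore p A θ v ≤ oq v L := by
    intro Y hYS hY1 hchar
    have hYf : Y ∈ Fam := family_of_le hSf hYS (hchar A (fam_norm hSf))
    obtain ⟨L, hL, hLY⟩ := exists_local_top h hYf hY1
    have hCL : C₀ ≤ L := hLY _ (inf_mem h.toGSetup) (hchar _ hCS)
    have hZL : pCent p A θ v ≤ L := hLY _ (pCent_mem h P.duo.symm.ne_w)
      ((pCent_le_centralizer (hYS.trans inf_le_left)).trans (centralizer_le_normalizer _))
    have hNL : N₀ ≤ Hv ⊓ L := le_inf inf_le_left (hLY _ (mem_inf hHf
      ((fam_norm hSf).trans le_normalizer)) (hchar _ inf_le_right))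
    refine ⟨L, hL, hLY, ih _ ?_ L rfl hL hCL (P.pureV hL hCL hZL)⟩
    have h1 : Nat.card S < Nat.card N₀ :=
      Set.Finite.card_lt_card (Set.toFinite _) (SetLike.coe_ssubset_coe.2 hgrow)
    have h2 := card_le_of_le hNL
    have h3 := card_le_of_le (inf_le_left : Hv ⊓ L ≤ Hv)
    omega
  obtain ⟨L₁, -, hL₁, hT₁⟩ := hloc _ (map_subtype_le _) (thompson_ne hSv hS1)
    fun X hX => le_normalizer_thompson hX
  obtain ⟨L₂, -, hL₂, hT₂⟩ := hloc _ (PLocal.omegaZ_le S) (omegaZ_ne_bot hSv hS1)
    fun X hX => le_normalizer_omegaZ hX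
  set D := tCore p A θ v ⊓ M with hD
  set J := layer v w M with hJ
  have hDM : D ≤ M := inf_le_right
  have hJM : J ≤ M := Gen.layer_le v w M
  let B : Subgroup G :=
    { carrier := {x | x ∈ J ∧ ∀ d ∈ D, ⁅d, x⁆ ∈ oq v M}
      one_mem' := ⟨one_mem _, fun d _ => by simp⟩
      mul_mem' := by
        rintro i i' ⟨hi, hi'⟩ ⟨hj', hj''⟩
        refine ⟨mul_mem hi hj', fun d hd => ?_⟩
        rw [show ⁅d, i * i'⁆ = ⁅d, i⁆ * (i * ⁅d, i'⁆ * i⁻¹) by
          simp only [commutatorElement_def]; group]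
        exact mul_mem (hi' d hd) ((mem_normalizer_iff.mp (le_qN v M (hJM hi)) _).mp (hj'' d hd))
      inv_mem' := by
        rintro i ⟨hi, hi'⟩
        refine ⟨inv_mem hi, fun d hd => ?_⟩
        rw [show ⁅d, i⁻¹⁆ = i⁻¹ * (⁅d, i⁆)⁻¹ * i⁻¹⁻¹ by simp only [commutatorElement_def]; group]
        exact (mem_normalizer_iff.mp ((normalizer (oq v M : Set G)).inv_mem
          (le_qN v M (hJM hi))) _).mp (inv_mem (hi' d hd)) }
  have hSM : S ≤ M := inf_le_right
  have hSD : S ≤ normalizer (D : Set G) :=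
    (le_inf (inf_le_left.trans pSup_le_normalizer_tCore) (hSM.trans le_normalizer)).trans
      inf_normalizer_le_normalizer_inf
  have hSB : S ≤ normalizer (B : Set G) := fun s hs => mem_normalizer_of_forall_le fun x hx =>
    ⟨(mem_normalizer_iff.mp (le_normalizer_layer v w M (hSM hs)) x).mp hx.1, fun d hd => by
      rw [show ⁅d, s * x * s⁻¹⁆ = s * ⁅s⁻¹ * d * s, x⁆ * s⁻¹ by
        simp only [commutatorElement_def]; group]
      exact (mem_normalizer_iff.mp (le_qN v M (hSM hs)) _).mp
        (hx.2 _ ((mem_normalizer_iff''.mp (hSD hs) d).mp hd))⟩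
  have hTB : oq v M ≤ B := fun x hx => ⟨oq_le_layer v w M hx, fun d hd =>
    le_normalizer_iff_commutator_le_right.mp (hDM.trans (le_qN v M))
      (commutator_mem_commutator hd hx)⟩
  set H := J ⊔ S with hH
  have hHf : H ∈ Fam := family_of_le hM.1 (sup_le hJM hSM) fun c hc =>
    normalizer_inf_normalizer_le_normalizer_sup _ _
      ⟨le_normalizer_layer_of (fam_norm hM.1) v w hc, fam_norm hSf hc⟩
  have hSJ : S ≤ normalizer (J : Set G) := hSM.trans (le_normalizer_layer v w M)
  have hpiece : ∀ {Y L : Subgroup G}, A ≤ normalizer (Y : Set G) → S ≤ normalizer (Y : Set G) →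
      (∀ Z ∈ Fam, Z ≤ normalizer (Y : Set G) → Z ≤ L) → tCore p A θ v ≤ oq v L →
      H ⊓ normalizer (Y : Set G) ≤ B ⊔ S := by
    intro Y L hYA hSY hLY hTL u hu
    obtain ⟨i, hi, s, hs, rfl⟩ := (Core.mem_sup_iff_mul' hSJ).mp
      ((sup_comm J S).le hu.1)
    have hiY : i ∈ normalizer (Y : Set G) := by
      simpa using (normalizer (Y : Set G)).mul_mem hu.2 ((normalizer (Y : Set G)).inv_mem (hSY hs))
    refine mul_mem (mem_sup_left ⟨hi, fun d hd => ?_⟩) (mem_sup_right hs)
    exact comm_layer_le (Y := J ⊓ normalizer (Y : Set G)) (Ne.symm (Ne.symm P.duo.ne)) inf_le_left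
      (oq_isPGroup v L) ((inf_le_left : D ≤ _).trans hTL)
      ((hLY _ (mem_inf (mem_layer_fam hM.1 v w) (hYA.trans le_normalizer)) inf_le_right).trans
        (le_normalizer_oq v L))
      (hDM.trans (le_normalizer_layer v w M)) (commutator_mem_commutator hd ⟨hi, hiY⟩)
  have hYS : S ≤ normalizer (Cfsg.thompsonSubgroupOf v S : Set G) :=
    le_normalizer_thompson le_normalizer
  have hHle : H ≤ B ⊔ S := by
    haveI := hHf.1
    obtain ⟨Q, hQ⟩ := (hSv.comap_subtype : IsPGroup v (S.subgroupOf H)).exists_le_sylow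
    have hQS : (Q : Subgroup H).map H.subtype = S := by
      refine le_antisymm ?_ (by
        rw [← map_subgroupOf_eq_of_le (le_sup_right : S ≤ H)]; exact map_mono hQ)
      intro u hu
      obtain ⟨i, hi, s, hs, rfl⟩ := (Core.mem_sup_iff_mul' hSJ).mp
        ((sup_comm J S).le (map_subtype_le _ hu))
      have hiQ : i ∈ (Q : Subgroup H).map H.subtype := by
        have hsQ : s ∈ (Q : Subgroup H).map H.subtype := ⟨⟨s, mem_sup_right hs⟩, hQ hs, rfl⟩
        simpa using mul_mem hu (inv_mem hsQ)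
      exact mul_mem (hTM (le_oq_of_le_layer P.duo.ne
        ((Q.isPGroup'.map H.subtype).to_le inf_le_left : IsPGroup v ↥(_ ⊓ J))
        inf_le_right ⟨hiQ, hi⟩)) hs
    have hO : Cfsg.pPrimeCore v ↥H = ⊥ := by
      refine (Subgroup.map_eq_bot_iff_of_injective _ H.subtype_injective).mp ?_
      show oq' v H = ⊥
      by_contra hne
      have hUM : oq' v H ≤ M := (oq'_le v H).trans (sup_le hJM hSM)
      have hUc : oq' v H ≤ centralizer (oq v M : Set G) := by
        refine (oq'_le_centralizer_oq hv.out).trans (centralizer_le (SetLike.coe_subset_coe.mpr ?_))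
        exact le_oq ((oq_le_layer v w M).trans le_sup_left) (oq_isPGroup v M)
          ((sup_le hJM hSM).trans (le_normalizer_oq v M))
      obtain ⟨d, hd, hdU⟩ := Nat.exists_prime_and_dvd (fun e => hne (card_eq_one.mp e))
      haveI := Fact.mk hd
      obtain ⟨z, hz⟩ := exists_prime_orderOf_dvd_card' d hdU
      have hz' : orderOf (z : G) = d := (Subgroup.orderOf_coe z).trans hz
      have hdv : d ≠ v := fun e => hv.out.coprime_iff_not_dvd.mp (coprime_oq' v H).symm (e ▸ hdU)
      haveI := hM.1.1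
      have hzd : IsPGroup d (zpowers (z : G)) := IsPGroup.of_card (n := 1) (by
        rw [Nat.card_zpowers, hz', pow_one])
      have hle : zpowers (z : G) ≤ oq d M := by
        refine le_oq_of_centralizes (zpowers_le.mpr (hUM z.2)) hzd fun r hr => ?_
        by_cases hrv : r = v
        · rw [hrv]; exact zpowers_le.mpr (hUc z.2)
        by_cases hrw : r = w
        · exact le_centralizer_of_bot _ (hrw ▸ h0)
        exact le_centralizer_of_bot _ (P.duo.other hM.1 hr hrv hrw)
      have hz1 : (z : G) ≠ 1 := fun e => by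
        rw [e, orderOf_one] at hz'
        exact hd.one_lt.ne hz'
      refine hz1 (mem_bot.mp ?_)
      by_cases hdw : d = w
      · subst hdw; exact h0 ▸ hle (mem_zpowers _)
      · exact P.duo.other hM.1 hd hdv hdw ▸ hle (mem_zpowers _)
    have hgen := PLocal.coprime_generation (p := v) (q := p) H A (fam_norm hHf) h.elem
      (fam_not_dvd hHf) (Core.isPSolvable_of_isSolvable hHf.1) hO Q
    have hker : Disjoint (Q : Subgroup H) H.subtype.ker := by
      rw [(MonoidHom.ker_eq_bot_iff _).2 H.subtype_injective]; exact disjoint_bot_right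
    intro u hu
    have hu' : (⟨u, hu⟩ : H) ∈ (⊤ : Subgroup H) := mem_top _
    rw [← hgen] at hu'
    refine (?_ : _ ≤ (B ⊔ S).subgroupOf H) hu'
    refine sup_le (sup_le (fun z hz => ?_) fun z hz => ?_) fun z hz => ?_
    · refine hpiece (le_normalizer_thompson (fam_norm hSf)) hYS hL₁ hT₁ ⟨z.2, ?_⟩
      have := le_normalizer_map H.subtype (⟨z, hz, rfl⟩ :
        (z : G) ∈ (normalizer (Cfsg.thompsonSubgroupOf v (Q : Subgroup H) : Set H)).map H.subtype)
      rwa [PLocal.thompsonOf_map _ _ hker, hQS] at this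
    · refine hpiece (le_normalizer_omegaZ (fam_norm hSf))
        (le_normalizer_omegaZ le_normalizer) hL₂ hT₂ ⟨z.2, centralizer_le_normalizer _ ?_⟩
      rw [← hQS, ← PLocal.omegaZ_map _ _ hker, mem_centralizer_iff]
      rintro _ ⟨y, hy, rfl⟩
      exact congrArg Subtype.val (mem_centralizer_iff.mp hz y hy)
    · refine hpiece (le_normalizer_thompson (fam_norm hSf)) hYS hL₁ hT₁ ⟨z.2, ?_⟩
      exact le_normalizer_thompson hCS ((family_inf_centralizer_eq h.functor.1 hHf le_rfl).le
        ⟨z.2, hz⟩).2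
  have hJB : J ≤ B := fun u hu => by
    obtain ⟨i, hi, s, hs, rfl⟩ := (Core.mem_sup_iff_mul' hSB).mp
      ((sup_comm B S).le (hHle (mem_sup_left hu)))
    refine mul_mem hi (hTB (le_oq_of_le_layer P.duo.ne (hSv.to_le (inf_le_left : S ⊓ J ≤ S))
      inf_le_right ⟨hs, ?_⟩))
    simpa using mul_mem (inv_mem hi.1) hu
  have hDO : D ≤ oq v M := P.le_oq_of_layer hM.1 hDM (P.tCore_isPGroup.to_le inf_le_left)
    (commutator_le.mpr fun d hd u hu => (hJB hu).2 d hd)
  set W := tCore p A θ v ⊔ oq v M with hW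
  have hWH : W ≤ Hv := sup_le inf_le_left (oq_le_pSup hM.1 hC v)
  by_cases hle : W = oq v M
  · exact le_sup_left.trans hle.le
  exfalso
  have hWf : W ∈ Fam := family_of_le P.pSup_spec.1 hWH fun c hc =>
    normalizer_inf_normalizer_le_normalizer_sup _ _
      ⟨A_le_normalizer_tCore hc, le_normalizer_oq_of (fam_norm hM.1) v hc⟩
  have hgrow' := Transfer.lt_inf_normalizer (hHv.to_le hWH)
    (lt_of_le_of_ne (le_sup_right : oq v M ≤ W) (Ne.symm hle))
  refine hgrow'.not_ge fun u hu => ?_
  have huM : u ∈ M := le_top_of_oq h hM hMne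
    (mem_inf hWf ((le_normalizer_oq_of (fam_norm hM.1) v).trans le_normalizer)) inf_le_right hu
  obtain ⟨i, hi, s, hs, rfl⟩ := (Core.mem_sup_iff_mul'
    ((oq_le_pSup hM.1 hC v).trans pSup_le_normalizer_tCore)).mp
    ((sup_comm (tCore p A θ v) (oq v M)).le hu.1)
  have hiM : i ∈ M := by simpa using M.mul_mem huM (M.inv_mem (oq_le v M hs))
  exact mul_mem (hDO ⟨hi, hiM⟩) hs

end Control

end CfsgLib.Signalizer.Gen
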