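import Cfsg.Agent.Lib.Signalizer.General.Lines

/-!
Owner: helper13. Exactly two primes: no maximal member has cores for both.
-/

set_option autoImplicit false
set_option maxHeartbeats 400000

namespace CfsgLib.Signalizer.Gen

open Subgroup Solv
open scoped commutatorElement

universe u

variable {G : Type u} [Group G] [Finite G] {p : ℕ} [hp : Fact p.Prime] {A : Subgroup G}
  {θ : G → Subgroup G} {M K K' L X Y R U : Subgroup G} {a b g x y : G} {q r s v w : ℕ}

local notation "Fam" => Cfsg.signalizerFamily p A θ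
local notation "C₀" => Cfsg.signalizerInf A θ

/-- Exactly two primes are involved. -/
structure Duo (p : ℕ) (A : Subgroup G) (θ : G → Subgroup G) (v w : ℕ) : Prop where
  hyp : GHyp p A θ
  vπ : InPi A θ v
  wπ : InPi A θ w
  ne : v ≠ w
  only : ∀ r : ℕ, InPi A θ r → r = v ∨ r = w

/-- A maximal member over the fixed part with cores for both primes. -/
structure BothCores (p : ℕ) (A : Subgroup G) (θ : G → Subgroup G) (v w : ℕ) (K : Subgroup G) :
    Prop where
  top : IsTop p A θ K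
  inf_le : Cfsg.signalizerInf A θ ≤ K
  neV : oq v K ≠ ⊥
  neW : oq w K ≠ ⊥

theorem le_centralizer_of_bot (X : Subgroup G) (h : Y = ⊥) : X ≤ centralizer (Y : Set G) :=
  fun x _ => mem_centralizer_iff.mpr fun y hy => by rw [mem_bot.mp (h.le hy), one_mul, mul_one]

theorem Duo.symm (D : Duo p A θ v w) : Duo p A θ w v :=
  ⟨D.hyp, D.wπ, D.vπ, Ne.symm D.ne, fun r hr => (D.only r hr).symm⟩

theorem BothCores.symm (hK : BothCores p A θ v w K) : BothCores p A θ w v K :=
  ⟨hK.top, hK.inf_le, hK.neW, hK.neV⟩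

theorem Duo.other (D : Duo p A θ v w) (hK : K ∈ Fam) (hr : r.Prime) (hrv : r ≠ v) (hrw : r ≠ w) :
    oq r K = ⊥ := by
  by_contra hne
  rcases D.only r (inPi_of_oq_ne_bot D.hyp.toGSetup hK hr hne) with e | e
  exacts [hrv e, hrw e]

theorem Duo.ne_w (D : Duo p A θ v w) : ∃ r, InPi A θ r ∧ r ≠ w := ⟨v, D.vπ, D.ne⟩

theorem Duo.core_ne (D : Duo p A θ v w) (hM : IsTop p A θ M) (h0 : oq w M = ⊥) : oq v M ≠ ⊥ := by
  intro hv0
  obtain ⟨r, hr, hne⟩ := exists_oq_top D.hyp hM
  rcases D.only r (inPi_of_oq_ne_bot D.hyp.toGSetup hM.1 hr hne) with e | e <;> subst e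
  exacts [hne hv0, hne h0]

/-- Central elements of a pure maximal member. -/
theorem Duo.pure_cent (D : Duo p A θ v w) [hv : Fact v.Prime] (hM : IsTop p A θ M) (hC : C₀ ≤ M)
    (h0 : oq w M = ⊥) : pCent p A θ v ≤ oq v M := by
  have hn := D.symm.ne_w
  refine le_oq_of_pCent hM.1 hC (pCent_le_top D.hyp hn hM hC (D.core_ne hM h0)) le_rfl
    ((pSup_spec D.hyp hn).2.to_le inf_le_left) fun r hr hrv => le_centralizer_of_bot _ ?_
  by_cases hrw : r = w
  · exact hrw ▸ h0
  · exact D.other hM.1 hr hrv hrw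

theorem Duo.pCent_ne (D : Duo p A θ v w) [hv : Fact v.Prime] (hM : M ∈ Fam) (hC : C₀ ≤ M)
    (hne : oq v M ≠ ⊥) : pCent p A θ v ≠ ⊥ := by
  have hn := D.symm.ne_w
  have hP : pSup p A θ v ≠ ⊥ := ne_bot_of_le_ne_bot hne (oq_le_pSup hM hC v)
  exact ne_bot_of_le_ne_bot (pCent_inf_ne_bot D.hyp hn le_rfl le_normalizer hP) inf_le_left

theorem BothCores.full (D : Duo p A θ v w) (hK : BothCores p A θ v w K) : Full A θ K := fun r hr => by
  rcases D.only r hr with e | e <;> subst e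
  exacts [hK.neV, hK.neW]

theorem good_both (D : Duo p A θ v w) (hK : BothCores p A θ v w K) (hX1 : X ≠ ⊥)
    (hXQ : X ≤ oq v K) (hXA : A ≤ normalizer (X : Set G)) (hY : Y ∈ Fam)
    (hYX : Y ≤ normalizer (X : Set G)) : Y ≤ K :=
  good_le D.hyp hK.top (hK.full D) D.vπ.1 D.wπ.1 (Ne.symm D.ne) hK.neW hX1 hXQ hXA hY hYX

theorem full_eq (D : Duo p A θ v w) (hK : BothCores p A θ v w K) (hK' : BothCores p A θ v w K')
    (h1 : oq v K ≤ K') (h2 : oq w K ⊓ K' ≠ ⊥) : K' = K := by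
  refine bender D.hyp hK.top hK'.top D.wπ.1 D.vπ.1 D.ne hK.neV (fun r hr hrw => ?_) h2
    (fun Y hY hYn => good_both D.symm hK.symm h2 inf_le_left
      (le_normalizer_inf (le_normalizer_oq_of (fam_norm hK.top.1) w) (fam_norm hK'.top.1)) hY hYn)
    fun r hr hne => hK.full D r (inPi_of_oq_ne_bot D.hyp.toGSetup hK'.top.1 hr hne)
  by_cases hrv : r = v
  · exact hrv ▸ h1
  · rw [D.other hK.top.1 hr hrv hrw]; exact bot_le

/-- A group acting on a nontrivial group of its own prime has fixed points. -/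
theorem inf_centralizer_ne_bot [hr : Fact r.Prime] (hU : IsPGroup r U) (hR : IsPGroup r R)
    (hn : U ≤ normalizer (R : Set G)) (hR1 : R ≠ ⊥) : R ⊓ centralizer (U : Set G) ≠ ⊥ := by
  have hP : IsPGroup r ↥(U ⊔ R) := hU.to_sup_of_normal_right' hR hn
  haveI := hP.isNilpotent
  haveI : (R.subgroupOf (U ⊔ R)).Normal :=
    (normal_subgroupOf_iff_le_normalizer le_sup_right).mpr (sup_le hn le_normalizer)
  have h1 : R.subgroupOf (U ⊔ R) ≠ ⊥ := fun e => hR1 (by
    rw [← map_subgroupOf_eq_of_le (le_sup_right : R ≤ U ⊔ R), e, Subgroup.map_bot])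
  intro hbot
  refine Core.inf_center_ne_bot_of_isNilpotent (R.subgroupOf (U ⊔ R)) h1
    ((eq_bot_iff_forall _).mpr fun z hz => Subtype.ext ?_)
  refine (eq_bot_iff_forall _).mp hbot z ⟨hz.1, mem_centralizer_iff.mpr fun y hy => ?_⟩
  exact congrArg Subtype.val (mem_center_iff.mp hz.2 ⟨y, mem_sup_left hy⟩)

theorem link (D : Duo p A θ v w) (hK : BothCores p A θ v w K) (hK' : BothCores p A θ v w K')
    (h : oq w K ⊓ K' ≠ ⊥) : oq w K' ⊓ K ≠ ⊥ := by
  haveI := Fact.mk D.wπ.1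
  have hU : oq w K ⊓ K' ∈ Fam := mem_inf (mem_oq hK.top.1 w) (fam_norm hK'.top.1)
  refine ne_bot_of_le_ne_bot (inf_centralizer_ne_bot ((oq_isPGroup w K).to_le inf_le_left)
    (oq_isPGroup w K') (inf_le_right.trans (le_normalizer_oq w K')) hK'.neW) (le_inf inf_le_left ?_)
  refine good_both D.symm hK.symm h inf_le_left (fam_norm hU) (mem_inf (mem_oq hK'.top.1 w)
    ((fam_norm hU).trans (normalizer_le_normalizer_centralizer_set _))) ?_
  exact inf_le_right.trans (centralizer_le_normalizer _)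

theorem cent_inter (D : Duo p A θ v w) [hv : Fact v.Prime] (hK : BothCores p A θ v w K)
    (hK' : BothCores p A θ v w K') (hne : K' ≠ K) :
    pCent p A θ v ≤ centralizer ((oq w K ⊓ K' : Subgroup G) : Set G) := by
  have h := D.hyp
  have hn := D.symm.ne_w
  have hUf : oq w K ⊓ K' ∈ Fam := mem_inf (mem_oq hK.top.1 w) (fam_norm hK'.top.1)
  have hZK : pCent p A θ v ≤ K := pCent_le_top h hn hK.top hK.inf_le hK.neV
  have hZK' : pCent p A θ v ≤ K' := pCent_le_top h hn hK'.top hK'.inf_le hK'.neV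
  have hZU : pCent p A θ v ≤ normalizer ((oq w K ⊓ K' : Subgroup G) : Set G) :=
    (le_inf (hZK.trans (le_normalizer_oq w K)) (hZK'.trans le_normalizer)).trans
      inf_normalizer_le_normalizer_inf
  set U := oq w K ⊓ K' with hU
  have hXU : ⁅U, pCent p A θ v⁆ ≤ U := le_normalizer_iff_commutator_le_left.mp hZU
  have hZc : pCent p A θ v ≤ centralizer (oq v K' : Set G) :=
    pCent_le_centralizer (oq_le_pSup hK'.top.1 hK'.inf_le v)
  have hXc : ⁅U, pCent p A θ v⁆ ≤ centralizer (oq v K' : Set G) := by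
    refine commutator_le.mpr fun u hu d hd => ?_
    rw [show ⁅u, d⁆ = u * d * u⁻¹ * d⁻¹ from commutatorElement_def u d]
    exact mul_mem ((mem_normalizer_iff.mp (normalizer_le_normalizer_centralizer_set _
      (le_normalizer_oq v K' hu.2)) d).mp (hZc hd)) (inv_mem (hZc hd))
  refine le_centralizer_iff.mp (commutator_eq_bot_iff_le_centralizer.mp ?_)
  by_contra hX1
  have hXA : A ≤ normalizer ((⁅U, pCent p A θ v⁆ : Subgroup G) : Set G) := by
    intro c hc
    refine mem_normalizer_of_forall_le fun z hz => ?_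
    have hm : (⁅U, pCent p A θ v⁆).map (MulAut.conj c).toMonoidHom = ⁅U, pCent p A θ v⁆ := by
      rw [map_commutator, LocalEvenB.map_conj_eq_self_iff_mem_normalizer.mpr (fam_norm hUf hc),
        LocalEvenB.map_conj_eq_self_iff_mem_normalizer.mpr (fam_norm (pCent_mem h hn) hc)]
    exact hm ▸ mem_map_of_mem (MulAut.conj c).toMonoidHom hz
  have h1 : oq v K' ≤ K := good_both D.symm hK.symm hX1 (hXU.trans inf_le_left) hXA
    (mem_oq hK'.top.1 v) ((le_centralizer_iff.mp hXc).trans (centralizer_le_normalizer _))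
  exact hne (full_eq D hK' hK h1
    (link D hK hK' (ne_bot_of_le_ne_bot hX1 hXU))).symm

/-- A maximal member with both cores and above all members for one prime is unique. -/
theorem unique_of_pSup (D : Duo p A θ v w) [hv : Fact v.Prime] [hw : Fact w.Prime]
    (hM : BothCores p A θ v w M) (hH : pSup p A θ w ≤ M) (hK : BothCores p A θ v w K) : K = M := by
  by_contra hne
  have h := D.hyp
  have hn := D.symm.ne_w
  have hRM : oq w K ≤ M := (oq_le_pSup hK.top.1 hK.inf_le w).trans hH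
  have hZv : pCent p A θ v ≤ oq v K := by
    refine le_oq_of_pCent hK.top.1 hK.inf_le (pCent_le_top h hn hK.top hK.inf_le hK.neV) le_rfl
      ((pSup_spec h hn).2.to_le inf_le_left) fun r hr hrv => ?_
    by_cases hrw : r = w
    · subst hrw
      exact (cent_inter D hK hM (Ne.symm hne)).trans
        (centralizer_le (SetLike.coe_subset_coe.mpr (le_inf le_rfl hRM)))
    · exact le_centralizer_of_bot _ (D.other hK.top.1 hr hrv hrw)
  have hHK : pSup p A θ v ≤ K := good_both D hK (D.pCent_ne hK.top.1 hK.inf_le hK.neV) hZv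
    (fam_norm (pCent_mem h hn)) (pSup_spec h hn).1
    ((le_centralizer_iff.mp (pCent_le_centralizer le_rfl)).trans (centralizer_le_normalizer _))
  exact hne (full_eq D hM hK ((oq_le_pSup hM.top.1 hM.inf_le v).trans hHK)
    (link D hK hM (ne_bot_of_le_ne_bot hK.neW (le_inf le_rfl hRM))))

/-- A pure maximal member above the core for its prime meets the other core trivially. -/
theorem pure_inter_eq_bot (D : Duo p A θ v w) (hK : BothCores p A θ v w K) (hL : IsTop p A θ L)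
    (h0 : oq w L = ⊥) (hle : oq v K ≤ L) : oq w K ⊓ L = ⊥ := by
  haveI := Fact.mk D.wπ.1
  haveI := hL.1.1
  have hc : oq w K ⊓ L ≤ centralizer (oq v L : Set G) := inter_axb D.wπ.1 D.vπ.1 (Ne.symm D.ne)
    (oq_isPGroup v K) (hle.trans (le_normalizer_oq v L))
    (inf_le_left.trans (oq_commute D.wπ.1 D.vπ.1 (Ne.symm D.ne)))
    (le_top_of_centralizes_oq D.hyp hK.top hK.neV (mem_inf (mem_oq hL.1 v)
      ((le_normalizer_oq_of (fam_norm hK.top.1) v).trans (normalizer_le_normalizer_centralizer_set _)))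
      inf_le_right)
  refine le_bot_iff.mp ((le_oq_of_centralizes inf_le_right ((oq_isPGroup w K).to_le inf_le_left)
    fun r hr => ?_).trans h0.le)
  by_cases hrv : r = v
  · exact hrv ▸ hc
  by_cases hrw : r = w
  · exact le_centralizer_of_bot _ (hrw ▸ h0)
  exact le_centralizer_of_bot _ (D.other hL.1 hr hrv hrw)

/-- Above all members for one prime a pure maximal member meets the other core centrally. -/
theorem fixed_core_bot (D : Duo p A θ v w) (hK : BothCores p A θ v w K) (hL : IsTop p A θ L)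
    (hC : C₀ ≤ L) (h0 : oq w L = ⊥) (hH : pSup p A θ v ≤ K) (hX : oq w K ⊓ X ≤ L) :
    oq w K ⊓ X = ⊥ := by
  haveI := Fact.mk D.wπ.1
  haveI := hL.1.1
  refine le_bot_iff.mp ((le_oq_of_centralizes hX ((oq_isPGroup w K).to_le inf_le_left)
    fun r hr => ?_).trans h0.le)
  by_cases hrv : r = v
  · subst hrv
    exact (le_inf inf_le_left hX).trans ((inter_core_comm D.wπ.1 D.vπ.1 (Ne.symm D.ne)).trans
      (centralizer_le (SetLike.coe_subset_coe.mpr
        (le_inf le_rfl ((oq_le_pSup hL.1 hC r).trans hH)))))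
  by_cases hrw : r = w
  · exact le_centralizer_of_bot _ (hrw ▸ h0)
  exact le_centralizer_of_bot _ (D.other hL.1 hr hrv hrw)

section Even

variable [hq : Fact q.Prime] [h2 : Fact (Nat.Prime 2)]

/-- Two values which are pure maximal members for `q` lie on one ray. -/
theorem singleton_ray (D : Duo p A θ 2 q) (ha : a ∈ A) (ha1 : a ≠ 1) (hb : b ∈ A) (hb1 : b ≠ 1)
    (hTa : IsTop p A θ (θ a)) (hTb : IsTop p A θ (θ b)) (ha0 : oq 2 (θ a) = ⊥)
    (hb0 : oq 2 (θ b) = ⊥) : b ∈ zpowers a := by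
  by_contra hba
  refine singleton_inter_false D.hyp ha ha1 hb hb1 hTa hTb hba hq.out ?_
  exact ne_bot_of_le_ne_bot (D.symm.pCent_ne hTa.1 (Solv.inf_le ha ha1) (D.symm.core_ne hTa ha0))
    (le_inf (D.symm.pure_cent hTa (Solv.inf_le ha ha1) ha0)
      (D.symm.pure_cent hTb (Solv.inf_le hb hb1) hb0))

/-- A pure maximal member for `q` over an unmoved point is the value. -/
theorem singleton_of_fixed (D : Duo p A θ 2 q) (ha : a ∈ A) (ha1 : a ≠ 1) (hK : IsTop p A θ K)
    (haK : θ a ≤ K) (h0 : oq 2 K = ⊥) (hc : oq q K ≤ centralizer ({a} : Set G)) : θ a = K := by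
  refine le_antisymm haK (le_theta_of_centralizes hK.1 ha ha1 ?_)
  by_contra hnc
  obtain ⟨r, hr, hmv⟩ := exists_mu_of_not_le D.hyp.toGSetup hK.1 ha hnc
  by_cases hr2 : r = 2
  · exact hmv (by rw [hr2, h0]; exact bot_le)
  by_cases hrq : r = q
  · exact hmv (hrq ▸ hc)
  exact hmv (by rw [D.other hK.1 hr hr2 hrq]; exact bot_le)

/-- A colour of `q` reaching the maximal member with both cores pulls the value inside. -/
theorem colour_pulls (D : Duo p A θ 2 q) (hK : BothCores p A θ 2 q K) (ha : a ∈ A) (ha1 : a ≠ 1)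
    (hM : M ∈ Fam) (haM : θ a ≤ M) (hmv : ⁅oq q M, zpowers a⁆ ≠ ⊥)
    (hle : ⁅oq q M, zpowers a⁆ ≤ K) : θ a ≤ K := by
  have h := D.hyp
  have hXR : ⁅oq q M, zpowers a⁆ ≤ oq q K := by
    rw [← comm_idem h.toGSetup (mem_oq hM q) ha]
    exact (commutator_mono (le_inf (Solv.comm_le_self (le_normalizer_oq_of (fam_norm hM) q ha)) hle)
      le_rfl).trans (star h.toGSetup hM hK.top.1 ha ha1 haM hq.out (Ne.symm D.ne))
  refine good_both D.symm hK.symm hmv hXR (fam_norm (mem_comm h.toGSetup (mem_oq hM q) ha))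
    (theta_mem_family h.functor ha ha1) ?_
  exact (le_inf (haM.trans (le_normalizer_oq q M)) (theta_le_centralizer h.toGSetup ha ha1)).trans
    (fun u hu => inf_centralizer_le_normalizer_comm le_rfl a hu)

/-- A unique maximal member with both cores above all `q`-members is impossible. -/
theorem unique_false (D : Duo p A θ 2 q) (hK : BothCores p A θ 2 q K) (hH : pSup p A θ q ≤ K)
    (huniq : ∀ M, BothCores p A θ 2 q M → M = K) : False := by
  have h := D.hyp
  have hq2 : q ≠ 2 := Ne.symm D.ne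
  have hn := D.symm.ne_w
  have hout : ∀ g ∈ A, g ≠ 1 → ¬ θ g ≤ K → ∀ L, IsTop p A θ L → θ g ≤ L → oq q L ≠ ⊥ →
      IsTop p A θ (θ g) ∧ oq 2 (θ g) = ⊥ := by
    intro g hg hg1 hgK L hL hgL hne
    have h0 : oq 2 L = ⊥ := by
      by_contra h20
      exact hgK (huniq L ⟨hL, inf_le_of_theta_le hg hg1 hgL, h20, hne⟩ ▸ hgL)
    have hc : oq q L ≤ centralizer ({g} : Set G) := by
      by_contra hc
      refine hgK (colour_pulls D hK hg hg1 hL.1 hgL (comm_ne_bot hc) ?_)
      exact (Solv.comm_le_self (le_normalizer_oq_of (fam_norm hL.1) q hg)).trans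
        ((oq_le_pSup hL.1 (inf_le_of_theta_le hg hg1 hgL) q).trans hH)
    rw [singleton_of_fixed D hg hg1 hL hgL h0 hc]
    exact ⟨hL, h0⟩
  obtain ⟨e, he, he1, hray⟩ : ∃ e ∈ A, e ≠ 1 ∧ ∀ g ∈ A, g ≠ 1 → ¬ θ g ≤ K →
      IsTop p A θ (θ g) → oq 2 (θ g) = ⊥ → g ∈ zpowers e := by
    by_cases hex : ∃ e ∈ A, e ≠ 1 ∧ IsTop p A θ (θ e) ∧ oq 2 (θ e) = ⊥
    · obtain ⟨e, he, he1, hTe, he0⟩ := hex
      exact ⟨e, he, he1, fun g hg hg1 _ hTg hg0 => singleton_ray D he he1 hg hg1 hTe hTg he0 hg0⟩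
    · obtain ⟨e, he, he1⟩ := exists_ne_one_of_sq_le (card_A_ge h.toGSetup)
      exact ⟨e, he, he1, fun g hg hg1 _ hT h0 => absurd ⟨g, hg, hg1, hT, h0⟩ hex⟩
  obtain ⟨k, hk, hkc, hek, hnle⟩ := line_criterion h hK.top he he1
  have hpt : ∀ g ∈ k, g ≠ 1 → ∃ L, IsTop p A θ L ∧ θ g ≤ L ∧ oq q L = ⊥ := by
    intro g hg hg1
    have hgK : ¬ θ g ≤ K := fun hle => hnle ((inf_le_theta hg hg1).trans hle)
    obtain ⟨L, hL, hgL⟩ := exists_top (theta_mem_family h.functor (hk hg) hg1)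
    refine ⟨L, hL, hgL, ?_⟩
    by_contra hne
    obtain ⟨hT, h0⟩ := hout g (hk hg) hg1 hgK L hL hgL hne
    exact hek (zpowers_le.mpr hg ((zpowers_eq_of_mem h.elem he (hray g (hk hg) hg1 hgK hT h0) hg1).ge
      (mem_zpowers e)))
  set R := oq q K
  have hRf : R ∈ Fam := mem_oq hK.top.1 q
  have hZK : pCent p A θ 2 ≤ K := pCent_le_top h hn hK.top hK.inf_le hK.neV
  have hRc : R ≤ centralizer (pCent p A θ 2 : Set G) := by
    refine gen_le h.toGSetup hRf hk hkc fun g hg hg1 => ?_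
    obtain ⟨L, hL, hgL, h0⟩ := hpt g hg hg1
    exact (le_inf inf_le_left ((fam_fix hRf (hk hg) hg1).trans hgL)).trans
      ((inter_core_comm hq.out h2.out hq2).trans (centralizer_le (SetLike.coe_subset_coe.mpr
        (le_inf (D.pure_cent hL (inf_le_of_theta_le (hk hg) hg1 hgL) h0) hZK))))
  have hZW : pCent p A θ 2 ≤ oq 2 K := by
    refine le_oq_of_pCent hK.top.1 hK.inf_le hZK le_rfl
      ((pSup_spec h hn).2.to_le inf_le_left) fun r hr hr2 => ?_
    by_cases hrq : r = q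
    · exact hrq ▸ le_centralizer_iff.mp hRc
    · exact le_centralizer_of_bot _ (D.other hK.top.1 hr hr2 hrq)
  have hH2 : pSup p A θ 2 ≤ K := good_both D hK (D.pCent_ne hK.top.1 hK.inf_le hK.neV) hZW
    (fam_norm (pCent_mem h hn)) (pSup_spec h hn).1
    ((le_centralizer_iff.mp (pCent_le_centralizer le_rfl)).trans (centralizer_le_normalizer _))
  refine hK.neW (le_bot_iff.mp (gen_le h.toGSetup hRf hk hkc fun g hg hg1 => ?_))
  obtain ⟨L, hL, hgL, h0⟩ := hpt g hg hg1
  exact (fixed_core_bot D hK hL (inf_le_of_theta_le (hk hg) hg1 hgL) h0 hH2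
    ((fam_fix hRf (hk hg) hg1).trans hgL)).le

/-- Maximal members with both cores and none of them above all `q`-members: impossible. -/
theorem both_false_of_local (D : Duo p A θ 2 q) (hK : BothCores p A θ 2 q K)
    (hNA : ∀ M, BothCores p A θ 2 q M → ¬ pSup p A θ q ≤ M)
    (P1 : ∀ g ∈ A, g ≠ 1 → ∀ L, IsTop p A θ L → θ g ≤ L → oq q L = ⊥ →
      oq q K ⊓ centralizer ({g} : Set G) = ⊥)
    (P2 : ∀ K', BothCores p A θ 2 q K' → K' ≠ K → oq q K ⊓ K' = ⊥) : False := by
  have h := D.hyp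
  have hq2 : q ≠ 2 := Ne.symm D.ne
  have hn := D.ne_w
  set R := oq q K
  have hRf : R ∈ Fam := mem_oq hK.top.1 q
  obtain ⟨l, hl, hlc, hlfix⟩ := exists_fixing_line h.toGSetup hRf hK.neW
  have hpure : ∀ g ∈ l, g ≠ 1 → ¬ θ g ≤ K → ∀ L, IsTop p A θ L → θ g ≤ L → oq 2 L = ⊥ := by
    intro g hg hg1 hgK L hL hgL
    have hne : R ⊓ centralizer ({g} : Set G) ≠ ⊥ := ne_bot_of_le_ne_bot hlfix
      (inf_le_inf_left _ (centralizer_le (Set.singleton_subset_iff.mpr hg)))
    by_contra h20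
    have hqL : oq q L ≠ ⊥ := fun h0 => hne (P1 g (hl hg) hg1 L hL hgL h0)
    have hLK : L ≠ K := fun e => hgK (e ▸ hgL)
    refine hne (le_bot_iff.mp ?_)
    rw [← P2 L ⟨hL, inf_le_of_theta_le (hl hg) hg1 hgL, h20, hqL⟩ hLK]
    exact le_inf inf_le_left ((fam_fix hRf (hl hg) hg1).trans hgL)
  obtain ⟨g₀, hg₀, hg₀1⟩ := exists_ne_one_of_sq_le hlc.ge
  obtain ⟨a, hal, ha1, -, haK⟩ := two_outside h hK.top hl hlc (hl hg₀) hg₀1
  obtain ⟨b, hbl, hb1, hba, hbK⟩ := two_outside h hK.top hl hlc (hl hal) ha1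
  obtain ⟨x, hxl, hx1, hxK, M, hM, hxM, hmv⟩ : ∃ x ∈ l, x ≠ 1 ∧ ¬ θ x ≤ K ∧ ∃ M, IsTop p A θ M ∧
      θ x ≤ M ∧ ⁅oq q M, zpowers x⁆ ≠ ⊥ := by
    obtain ⟨Ma, hMa, haM⟩ := exists_top (theta_mem_family h.functor (hl hal) ha1)
    obtain ⟨Mb, hMb, hbM⟩ := exists_top (theta_mem_family h.functor (hl hbl) hb1)
    by_cases hca : oq q Ma ≤ centralizer ({a} : Set G)
    · by_cases hcb : oq q Mb ≤ centralizer ({b} : Set G)
      · have ha0 := hpure a hal ha1 haK Ma hMa haM
        have hb0 := hpure b hbl hb1 hbK Mb hMb hbM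
        have ea := singleton_of_fixed D (hl hal) ha1 hMa haM ha0 hca
        have eb := singleton_of_fixed D (hl hbl) hb1 hMb hbM hb0 hcb
        exact absurd (singleton_ray D (hl hal) ha1 (hl hbl) hb1 (ea ▸ hMa) (eb ▸ hMb) (ea ▸ ha0)
          (eb ▸ hb0)) hba
      · exact ⟨b, hbl, hb1, hbK, Mb, hMb, hbM, comm_ne_bot hcb⟩
    · exact ⟨a, hal, ha1, haK, Ma, hMa, haM, comm_ne_bot hca⟩
  have hx := hl hxl
  have hCM : C₀ ≤ M := inf_le_of_theta_le hx hx1 hxM
  set X := ⁅oq q M, zpowers x⁆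
  have hXf : X ∈ Fam := mem_comm h.toGSetup (mem_oq hM.1 q) hx
  have hXM : X ≤ oq q M := Solv.comm_le_self (le_normalizer_oq_of (fam_norm hM.1) q hx)
  have hstar : ∀ N ∈ Fam, ⁅oq q M ⊓ N, zpowers x⁆ ≤ oq q N := fun N hN =>
    star h.toGSetup hM.1 hN hx hx1 hxM hq.out hq2
  have hXX : ∀ {N : Subgroup G}, N ∈ Fam → X ≤ N → X ≤ oq q N := fun {N} hN hle => by
    refine le_trans ?_ (hstar N hN)
    exact (comm_idem h.toGSetup (mem_oq hM.1 q) hx).ge.trans
      (commutator_mono (le_inf hXM hle) le_rfl)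
  -- the maximal member over the centre for `q`
  obtain ⟨N, hN, hNN⟩ := exists_local_top h (pCent_mem h hn)
    (D.symm.pCent_ne hK.top.1 hK.inf_le hK.neW)
  have hCN : C₀ ≤ N := hNN _ (inf_mem h.toGSetup) inf_le_normalizer_pCent
  have hHN : pSup p A θ q ≤ N := hNN _ (pSup_spec h hn).1
    ((le_centralizer_iff.mp (pCent_le_centralizer le_rfl)).trans (centralizer_le_normalizer _))
  have hN2 : oq 2 N = ⊥ := by
    by_contra h20
    by_cases hNq : oq q N = ⊥
    · exact hmv (le_bot_iff.mp ((hXX hN.1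
        ((hXM.trans (oq_le_pSup hM.1 hCM q)).trans hHN)).trans hNq.le))
    · exact hNA N ⟨hN, hCN, h20, hNq⟩ hHN
  have hWN : oq 2 K ⊓ N = ⊥ := pure_inter_eq_bot D.symm hK.symm hN hN2
    ((oq_le_pSup hK.top.1 hK.inf_le q).trans hHN)
  set W := oq 2 K
  have hWf : W ∈ Fam := mem_oq hK.top.1 2
  have hWc : ∀ Y ∈ Fam, Y ≤ W → Y ≤ centralizer (pCent p A θ q : Set G) → Y = ⊥ := fun Y hY hYW hc =>
    le_bot_iff.mp ((le_inf hYW (hNN Y hY (hc.trans (centralizer_le_normalizer _)))).trans hWN.le)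
  obtain ⟨m, hm, hmc, hmfix⟩ := exists_fixing_line h.toGSetup hWf hK.neV
  refine hxK (colour_pulls D hK hx hx1 hM.1 hxM hmv ?_)
  refine comm_le_of_lines h.elem h.card (mem_oq hM.1 q).1 (fam_not_dvd (mem_oq hM.1 q))
    (fam_norm (mem_oq hM.1 q)) hx hx1 fun k hk hkc hxk => ?_
  obtain ⟨g, ⟨hgm, hgk⟩, hg1⟩ := lines_meet h.elem h.card hm hk hmc hkc
  have hg := hm hgm
  obtain ⟨L, hL, hgL⟩ := exists_top (theta_mem_family h.functor hg hg1)
  have hCL := inf_le_of_theta_le hg hg1 hgL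
  have hkL : oq q M ⊓ centralizer (k : Set G) ≤ oq q M ⊓ L := le_inf inf_le_left
    (((inf_le_inf_left _ (centralizer_le (Set.singleton_subset_iff.mpr hgk))).trans
      (fam_fix (mem_oq hM.1 q) hg hg1)).trans hgL)
  refine (commutator_mono hkL le_rfl).trans ?_
  by_cases hLK : L = K
  · rw [hLK]
    exact (commutator_mono inf_le_right le_rfl).trans (Solv.comm_le_self (fam_norm hK.top.1 hx))
  by_cases hLq : oq q L = ⊥
  · exact (hstar L hL.1).trans (hLq.le.trans bot_le)
  exfalso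
  have hWg : W ⊓ centralizer ({g} : Set G) ∈ Fam := mem_inf hWf
    (le_normalizer_centralizer_of_le h.elem (Set.singleton_subset_iff.mpr hg))
  have hWgL : W ⊓ centralizer ({g} : Set G) ≤ L := (fam_fix hWf hg hg1).trans hgL
  refine hmfix (le_bot_iff.mp ((inf_le_inf_left _ (centralizer_le
    (Set.singleton_subset_iff.mpr hgm))).trans (hWc _ hWg inf_le_left ?_).le))
  by_cases hL2 : oq 2 L = ⊥
  · exact (le_inf inf_le_left hWgL).trans ((inter_core_comm Nat.prime_two hq.out D.ne).trans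
      (centralizer_le (SetLike.coe_subset_coe.mpr (le_inf (D.symm.pure_cent hL hCL hL2)
        (pCent_le_top h hn hK.top hK.inf_le hK.neW)))))
  · exact (le_inf inf_le_left hWgL).trans (le_centralizer_iff.mp
      (cent_inter D.symm hK.symm (BothCores.mk hL hCL hLq hL2) hLK))

/-- **With two primes no maximal member has both cores.** -/
theorem no_both (D : Duo p A θ 2 q) : ¬ BothCores p A θ 2 q K := by
  intro hK
  have h := D.hyp
  have hn2 := D.symm.ne_w
  by_cases hA : ∃ M, BothCores p A θ 2 q M ∧ pSup p A θ q ≤ M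
  · obtain ⟨M, hM, hH⟩ := hA
    exact unique_false D hM hH fun _ hM' => unique_of_pSup D hM hH hM'
  push Not at hA
  obtain ⟨N, hN, hNN⟩ := exists_local_top h (pCent_mem h hn2) (D.pCent_ne hK.top.1 hK.inf_le hK.neV)
  have hCN : C₀ ≤ N := hNN _ (inf_mem h.toGSetup) inf_le_normalizer_pCent
  have hHN : pSup p A θ 2 ≤ N := hNN _ (pSup_spec h hn2).1
    ((le_centralizer_iff.mp (pCent_le_centralizer le_rfl)).trans (centralizer_le_normalizer _))
  have hRf : ∀ {K : Subgroup G}, BothCores p A θ 2 q K → ∀ {g : G}, g ∈ A → g ≠ 1 →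
      ∀ {L : Subgroup G}, θ g ≤ L → oq q K ⊓ centralizer ({g} : Set G) ≤ L :=
    fun {K} hK' {g} hg hg1 {L} hgL => (fam_fix (mem_oq hK'.top.1 q) hg hg1).trans hgL
  by_cases hN2 : oq 2 N = ⊥
  · -- the centre for `q` lies in the core, against the assumption
    have hZK : pCent p A θ q ≤ oq q K := by
      have hn := D.ne_w
      refine le_oq_of_pCent hK.top.1 hK.inf_le (pCent_le_top h hn hK.top hK.inf_le hK.neW) le_rfl
        ((pSup_spec h hn).2.to_le inf_le_left) fun r hr hrq => ?_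
      by_cases hr2 : r = 2
      · subst hr2
        exact (le_inf (D.symm.pure_cent hN hCN hN2)
          (pCent_le_top h hn hK.top hK.inf_le hK.neW)).trans
          ((inter_core_comm hq.out hr (Ne.symm D.ne)).trans (centralizer_le (SetLike.coe_subset_coe.mpr
            (le_inf le_rfl ((oq_le_pSup hK.top.1 hK.inf_le 2).trans hHN)))))
      · exact le_centralizer_of_bot _ (D.other hK.top.1 hr hr2 hrq)
    exact hA K hK (good_both D.symm hK.symm (D.symm.pCent_ne hK.top.1 hK.inf_le hK.neW) hZK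
      (fam_norm (pCent_mem h D.ne_w)) (pSup_spec h D.ne_w).1
      ((le_centralizer_iff.mp (pCent_le_centralizer le_rfl)).trans (centralizer_le_normalizer _)))
  by_cases hNq : oq q N = ⊥
  · have hRN : oq q K ⊓ N = ⊥ :=
      pure_inter_eq_bot D hK hN hNq ((oq_le_pSup hK.top.1 hK.inf_le 2).trans hHN)
    have hlocal : ∀ Y ∈ Fam, Y ≤ oq q K → Y ≤ centralizer (pCent p A θ 2 : Set G) → Y = ⊥ :=
      fun Y hY hYR hc => le_bot_iff.mp
        ((le_inf hYR (hNN Y hY (hc.trans (centralizer_le_normalizer _)))).trans hRN.le)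
    refine both_false_of_local D hK hA (fun g hg hg1 L hL hgL h0 => ?_) fun K' hK' hne => ?_
    · refine hlocal _ (mem_inf (mem_oq hK.top.1 q)
        (le_normalizer_centralizer_of_le h.elem (Set.singleton_subset_iff.mpr hg))) inf_le_left ?_
      exact (le_inf inf_le_left (hRf hK hg hg1 hgL)).trans
        ((inter_core_comm hq.out h2.out (Ne.symm D.ne)).trans (centralizer_le
          (SetLike.coe_subset_coe.mpr (le_inf (D.pure_cent hL (inf_le_of_theta_le hg hg1 hgL) h0)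
            (pCent_le_top h hn2 hK.top hK.inf_le hK.neV)))))
    · exact hlocal _ (mem_inf (mem_oq hK.top.1 q) (fam_norm hK'.top.1)) inf_le_left
        (le_centralizer_iff.mp (cent_inter D hK hK' hne))
  · have hNb : BothCores p A θ 2 q N := ⟨hN, hCN, hN2, hNq⟩
    refine both_false_of_local D hNb hA (fun g hg hg1 L hL hgL h0 => ?_) fun K' hK' hne => ?_
    · exact fixed_core_bot D hNb hL (inf_le_of_theta_le hg hg1 hgL) h0 hHN (hRf hNb hg hg1 hgL)
    · exact absurd (unique_of_pSup D.symm hNb.symm hHN hK'.symm) hne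

end Even

end CfsgLib.Signalizer.Gen
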