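import Cfsg.Agent.Lib.Signalizer.General.Members

/-!
Owner: helper13. Uniqueness, geometry and values which are maximal members, for a signalizer
functor with values of arbitrary parity.
-/

set_option autoImplicit false
set_option maxHeartbeats 400000

namespace CfsgLib.Signalizer.Gen

open Subgroup Solv
open scoped commutatorElement

variable {G : Type*} [Group G] [Finite G] {p : ℕ} [hp : Fact p.Prime] {A : Subgroup G}
  {θ : G → Subgroup G} {M K X Y W : Subgroup G} {a b x y z : G} {m : Subgroup G} {q : ℕ}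

local notation "Fam" => Cfsg.signalizerFamily p A θ

/-- A part of one core lies in the complementary core of another maximal member. -/
theorem part_le (h : GHyp p A θ) (hM : IsTop p A θ M) (hK : IsTop p A θ K) {u v : ℕ} (hu : u.Prime)
    (hv : v.Prime) (huv : u ≠ v) (hvK : oq v M ≤ K) (hne : oq v M ≠ ⊥) :
    oq u M ⊓ K ≤ oq' v K := by
  haveI := Fact.mk hu
  haveI := Fact.mk hv
  haveI := hK.1.1
  refine le_oq'_of_local hvK (oq_isPGroup v M) inf_le_right
    (coprime_pgroup ((oq_isPGroup u M).to_le inf_le_left)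
      fun hd => huv ((Nat.prime_dvd_prime_iff_eq hu hv).mp hd))
    (inf_le_left.trans ((oq_commute hu hv huv).trans (centralizer_le_normalizer _))) ?_
  have hle := le_top_of_oq h hM hne (mem_inf hK.1 ((le_normalizer_oq_of (fam_norm hM.1) v).trans
    le_normalizer)) inf_le_right
  exact fun x hx => inf_normalizer_le_normalizer_inf
    ⟨le_normalizer_oq u M (hle hx), le_normalizer hx.1⟩

theorem bender_aux (h : GHyp p A θ) (hM : IsTop p A θ M) (hK : IsTop p A θ K) (hq : q.Prime)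
    {u₀ : ℕ} (hu₀ : u₀.Prime) (hu₀q : u₀ ≠ q) (hu₀M : oq u₀ M ≠ ⊥)
    (hparts : ∀ u : ℕ, u.Prime → u ≠ q → oq u M ≤ K) (hne : oq q M ⊓ K ≠ ⊥)
    (hN : ∀ Y ∈ Fam, Y ≤ normalizer ((oq q M ⊓ K : Subgroup G) : Set G) → Y ≤ M)
    (hπ : ∀ r : ℕ, r.Prime → oq r K ≠ ⊥ → oq r M ≠ ⊥) :
    oq' q K ≤ M ∧ (∀ r : ℕ, r.Prime → oq r K ≤ M) ∧
      ∀ r : ℕ, r.Prime → oq r M ≠ ⊥ → oq r K ≠ ⊥ := by
  haveI := Fact.mk hq
  haveI := hK.1.1
  have hQ0A : A ≤ normalizer ((oq q M ⊓ K : Subgroup G) : Set G) :=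
    le_normalizer_inf (le_normalizer_oq_of (fam_norm hM.1) q) (fam_norm hK.1)
  have hYQ : oq' q K ≤ centralizer ((oq q M ⊓ K : Subgroup G) : Set G) :=
    centralizes_oq' hK.1.1 hq inf_le_right fun v hv hvq hvK =>
      part_le h hM hK hq hv (Ne.symm hvq) (hparts v hv hvq) (hπ v hv hvK)
  have hY : oq' q K ≤ M :=
    hN _ (mem_oq' hK.1 q) (hYQ.trans (centralizer_le_normalizer _))
  have hUY : ∀ u : ℕ, u.Prime → u ≠ q → oq' u K ≤ centralizer (oq u M : Set G) := by
    intro u hu huq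
    haveI := Fact.mk hu
    refine centralizes_oq' hK.1.1 hu (hparts u hu huq) fun v hv hvu hvK => ?_
    by_cases hvq : v = q
    · subst hvq
      refine le_oq'_of_local inf_le_right ((oq_isPGroup v M).to_le inf_le_left) (hparts u hu huq)
        (coprime_pgroup (oq_isPGroup u M) fun hd =>
          huq ((Nat.prime_dvd_prime_iff_eq hu hv).mp hd))
        ((oq_commute hu hv huq).trans ((centralizer_le (SetLike.coe_subset_coe.mpr inf_le_left)).trans
          (centralizer_le_normalizer _))) ?_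
      exact (hN _ (mem_inf hK.1 (hQ0A.trans le_normalizer)) inf_le_right).trans
        (le_normalizer_oq u M)
    · exact (le_inf le_rfl (hparts u hu huq)).trans
        (part_le h hM hK hu hv (Ne.symm hvu) (hparts v hv hvq) (hπ v hv hvK))
  refine ⟨hY, fun r hr => ?_, fun r hr hrM => ?_⟩
  · by_cases hrq : r = q
    · subst hrq
      exact (oq_le_oq' hu₀ hr (Ne.symm hu₀q)).trans (le_top_of_centralizes_oq h hM hu₀M
        (mem_oq' hK.1 u₀) (hUY u₀ hu₀ hu₀q))
    · exact (oq_le_oq' hq hr hrq).trans hY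
  · intro hrK
    haveI := Fact.mk hr
    by_cases hrq : r = q
    · subst hrq
      refine hne (le_bot_iff.mp (hrK ▸ le_oq_of_centralizes inf_le_right
        ((oq_isPGroup r M).to_le inf_le_left) fun s hs => ?_))
      by_cases hsr : s = r
      · subst hsr
        rw [hrK]
        exact fun x _ => mem_centralizer_iff.mpr fun y hy => by rw [mem_bot.mp hy, one_mul, mul_one]
      · exact le_centralizer_iff.mp ((oq_le_oq' hr hs hsr).trans hYQ)
    · refine hrM (le_bot_iff.mp (hrK ▸ le_oq_of_centralizes (hparts r hr hrq) (oq_isPGroup r M)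
        fun s hs => ?_))
      by_cases hsr : s = r
      · subst hsr
        rw [hrK]
        exact fun x _ => mem_centralizer_iff.mpr fun y hy => by rw [mem_bot.mp hy, one_mul, mul_one]
      · exact le_centralizer_iff.mp ((oq_le_oq' hr hs hsr).trans (hUY r hr hrq))

/-- **Bender's uniqueness argument.** -/
theorem bender (h : GHyp p A θ) (hM : IsTop p A θ M) (hK : IsTop p A θ K) (hq : q.Prime)
    {u₀ : ℕ} (hu₀ : u₀.Prime) (hu₀q : u₀ ≠ q) (hu₀M : oq u₀ M ≠ ⊥)
    (hparts : ∀ u : ℕ, u.Prime → u ≠ q → oq u M ≤ K) (hne : oq q M ⊓ K ≠ ⊥)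
    (hN : ∀ Y ∈ Fam, Y ≤ normalizer ((oq q M ⊓ K : Subgroup G) : Set G) → Y ≤ M)
    (hπ : ∀ r : ℕ, r.Prime → oq r K ≠ ⊥ → oq r M ≠ ⊥) : K = M := by
  haveI := Fact.mk hq
  obtain ⟨-, hFK, hπ'⟩ := bender_aux h hM hK hq hu₀ hu₀q hu₀M hparts hne hN hπ
  have hQM : oq q M ≠ ⊥ := fun e => hne (le_bot_iff.mp (inf_le_left.trans e.le))
  have hQK : oq q K ≠ ⊥ := hπ' q hq hQM
  have hQK' : oq q K ⊓ M = oq q K := inf_eq_left.mpr (hFK q hq)
  obtain ⟨hYM, hFM, -⟩ := bender_aux h hK hM hq hu₀ hu₀q (hπ' u₀ hu₀ hu₀M)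
    (fun u hu _ => hFK u hu) (by rw [hQK']; exact hQK)
    (fun Y hY hYn => le_top_of_oq h hK hQK hY (by rwa [hQK'] at hYn)) hπ'
  have hQM' : oq q M ⊓ K = oq q M := inf_eq_left.mpr (hFM q hq)
  obtain ⟨hYK, -, -⟩ := bender_aux h hM hK hq hu₀ hu₀q hu₀M hparts hne hN hπ
  have loc : ∀ {M K : Subgroup G}, IsTop p A θ M → IsTop p A θ K → oq q K ≠ ⊥ → oq q K ≤ M →
      oq' q K ≤ M → oq' q K ≤ oq' q M := by
    intro M K hM hK hne hQ hY
    haveI := hM.1.1
    refine le_oq'_of_local hQ (oq_isPGroup q K) hY (coprime_oq' q K)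
      ((oq'_le q K).trans (le_normalizer_oq q K)) ?_
    exact (le_top_of_oq h hK hne (mem_inf hM.1 ((le_normalizer_oq_of (fam_norm hK.1) q).trans
      le_normalizer)) inf_le_right).trans (le_normalizer_oq' q K)
  have heq : oq' q K = oq' q M :=
    le_antisymm (loc hM hK hQK (hFK q hq) hYK) (loc hK hM hQM (hFM q hq) hYM)
  have hY1 : oq' q M ≠ ⊥ := fun e => hu₀M (le_bot_iff.mp ((oq_le_oq' hq hu₀ hu₀q).trans e.le))
  exact hK.eq hM.1 (le_top_of_normalizes h hM (mem_oq' hM.1 q) hY1 (le_normalizer_oq' q M) hK.1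
    (heq ▸ le_normalizer_oq' q K))


/-- Uniqueness for a maximal member whose cores involve all primes, and more than one. -/
theorem good (h : GHyp p A θ) (hM : IsTop p A θ M) (hfull : Full A θ M) (hq : q.Prime)
    {u₀ : ℕ} (hu₀ : u₀.Prime) (hu₀q : u₀ ≠ q) (hu₀M : oq u₀ M ≠ ⊥) :
    ∀ X : Subgroup G, X ≠ ⊥ → X ≤ oq q M → A ≤ normalizer (X : Set G) → ∀ K : Subgroup G,
      IsTop p A θ K → (∀ Y ∈ Fam, Y ≤ normalizer (X : Set G) → Y ≤ K) → K = M := by
  intro X
  induction X using WellFoundedGT.induction with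
  | ind X ih =>
    intro hX1 hXQ hXA K hK hKX
    by_cases hXe : X = oq q M
    · subst hXe
      exact (hM.eq hK.1 (hKX M hM.1 (le_normalizer_oq q M))).symm
    haveI := Fact.mk hq
    have hgrow := Transfer.lt_inf_normalizer (oq_isPGroup q M) (lt_of_le_of_ne hXQ hXe)
    have hlt : X < oq q M ⊓ K := lt_of_lt_of_le hgrow (le_inf inf_le_left
      (hKX _ (mem_inf (mem_oq hM.1 q) (hXA.trans le_normalizer)) inf_le_right))
    have hne : oq q M ⊓ K ≠ ⊥ := ne_bot_of_gt hlt
    have hA0 : A ≤ normalizer ((oq q M ⊓ K : Subgroup G) : Set G) :=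
      le_normalizer_inf (le_normalizer_oq_of (fam_norm hM.1) q) (fam_norm hK.1)
    refine bender h hM hK hq hu₀ hu₀q hu₀M (fun u hu huq => hKX _ (mem_oq hM.1 u) ?_) hne ?_
      fun r hr hne' => hfull r (inPi_of_oq_ne_bot h.toGSetup hK.1 hr hne')
    · exact (oq_commute hu hq huq).trans ((centralizer_le (SetLike.coe_subset_coe.mpr hXQ)).trans
        (centralizer_le_normalizer _))
    · intro Y hY hYn
      obtain ⟨L, hL, hLX⟩ := exists_local_top h (mem_inf (mem_oq hM.1 q) (fam_norm hK.1)) hne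
      exact ih _ hlt hne inf_le_left hA0 L hL hLX ▸ hLX Y hY hYn

theorem good_le (h : GHyp p A θ) (hM : IsTop p A θ M) (hfull : Full A θ M) (hq : q.Prime)
    {u₀ : ℕ} (hu₀ : u₀.Prime) (hu₀q : u₀ ≠ q) (hu₀M : oq u₀ M ≠ ⊥) (hX1 : X ≠ ⊥)
    (hXQ : X ≤ oq q M) (hXA : A ≤ normalizer (X : Set G)) (hY : Y ∈ Fam)
    (hYX : Y ≤ normalizer (X : Set G)) : Y ≤ M := by
  obtain ⟨L, hL, hLX⟩ := exists_local_top h (family_of_le (mem_oq hM.1 q) hXQ hXA) hX1
  exact good h hM hfull hq hu₀ hu₀q hu₀M X hX1 hXQ hXA L hL hLX ▸ hLX Y hY hYX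


section Geometry

theorem exists_not_mem_line (hS : GSetup p A θ) {B : Subgroup G} (hB : Nat.card B = p ^ 2) :
    ∃ c ∈ A, c ∉ B := by
  by_contra hcon
  push Not at hcon
  have := card_le_of_le (show A ≤ B from hcon)
  rw [hS.card, hB] at this
  exact absurd ((Nat.pow_le_pow_iff_right hp.out.one_lt).mp this) (by norm_num)

theorem exists_line_mem (hS : GSetup p A θ) {g : G} (hg : g ∈ A) (hg1 : g ≠ 1) :
    ∃ B : Subgroup G, B ≤ A ∧ Nat.card B = p ^ 2 ∧ g ∈ B := by
  obtain ⟨a, ha, hag⟩ := exists_not_mem_zpowers hS.elem le_rfl (card_A_ge hS) g hg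
  exact ⟨_, sup_le (zpowers_le.mpr hg) (zpowers_le.mpr ha), card_pair hS.elem hg hg1 ha hag,
    mem_sup_left (mem_zpowers g)⟩

theorem exists_line_not_mem (hS : GSetup p A θ) {g : G} (hg : g ∈ A) (hg1 : g ≠ 1) :
    ∃ B : Subgroup G, B ≤ A ∧ Nat.card B = p ^ 2 ∧ g ∉ B := by
  obtain ⟨a, ha, hag⟩ := exists_not_mem_zpowers hS.elem le_rfl (card_A_ge hS) g hg
  have hB := card_pair hS.elem hg hg1 ha hag
  have hBA : zpowers g ⊔ zpowers a ≤ A := sup_le (zpowers_le.mpr hg) (zpowers_le.mpr ha)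
  obtain ⟨c, hc, hcB⟩ := exists_not_mem_line hS hB
  have ha1 : a ≠ 1 := fun e => hag (e ▸ one_mem _)
  have hca : c ∉ zpowers a := fun h => hcB (mem_sup_right h)
  have hk := card_pair hS.elem ha ha1 hc hca
  have hkA : zpowers a ⊔ zpowers c ≤ A := sup_le (zpowers_le.mpr ha) (zpowers_le.mpr hc)
  refine ⟨_, hkA, hk, fun hgk => hcB ?_⟩
  rw [line_eq hS.elem hkA hk hgk hg1 (mem_sup_left (mem_zpowers a)) hag]
  exact mem_sup_right (mem_zpowers c)

theorem not_mem_zpowers_symm (hS : GSetup p A θ) {x y : G} (hx : x ∈ A) (hy1 : y ≠ 1)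
    (hxy : x ∉ zpowers y) (hy : y ∈ A) : y ∉ zpowers x := fun h =>
  hxy ((zpowers_eq_of_mem hS.elem hx h hy1).ge (mem_zpowers x))

end Geometry


theorem theta_le_centralizer (hS : GSetup p A θ) (ha : a ∈ A) (ha1 : a ≠ 1) :
    θ a ≤ centralizer ({a} : Set G) := hS.functor.1.1 a ha ha1

theorem le_theta_of_centralizes (hX : X ∈ Fam) (ha : a ∈ A) (ha1 : a ≠ 1)
    (hc : X ≤ centralizer ({a} : Set G)) : X ≤ θ a :=
  (le_inf le_rfl hc).trans (fam_fix hX ha ha1)


theorem exists_mu_of_not_le (hS : GSetup p A θ) (hK : K ∈ Fam) (ha : a ∈ A)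
    (h : ¬ K ≤ centralizer ({a} : Set G)) : ∃ q, Mu a K q := by
  by_contra hcon
  push Not at hcon
  haveI := hK.1
  refine h (centralizes_of_centralizes_cores (fam_norm hK ha) (coprime_orderOf hS hK ha) fun s hs => ?_)
  have hs' : oq s K ≤ centralizer ({a} : Set G) := by
    by_contra hne
    exact hcon s ⟨hs, hne⟩
  exact mem_centralizer_iff.mpr fun y hy => mem_centralizer_singleton_iff.mp (hs' hy)


/-! ### Lines escaping a maximal member -/

theorem line_criterion (h : GHyp p A θ) (hM : IsTop p A θ M) {g : G} (hg : g ∈ A) (hg1 : g ≠ 1) :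
    ∃ k : Subgroup G, k ≤ A ∧ Nat.card k = p ^ 2 ∧ g ∉ k ∧ ¬ Cfsg.signalizerInf k θ ≤ M := by
  by_contra hcon
  push Not at hcon
  have hgM : g ∈ normalizer (M : Set G) := fam_norm hM.1 hg
  have hcomm : ∀ X ∈ Fam, ⁅X, zpowers g⁆ ≤ M := fun X hX => by
    refine comm_le_of_lines h.elem h.card hX.1 (fam_not_dvd hX) (fam_norm hX) hg hg1
      fun k hk hkc hgk => ?_
    exact (commutator_mono ((family_inf_centralizer_eq h.functor.1 hX hk).le.trans
      (inf_le_right.trans (hcon k hk hkc hgk))) le_rfl).trans (comm_le_self hgM)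
  set J := ⁅M, zpowers g⁆ with hJ
  have hJθ : ∀ f ∈ A, f ≠ 1 → ⁅θ f, zpowers g⁆ ≤ J := fun f hf hf1 => by
    rw [← comm_idem h.toGSetup (theta_mem_family h.functor hf hf1) hg]
    exact commutator_mono (hcomm _ (theta_mem_family h.functor hf hf1)) le_rfl
  have hgJ : θ g ≤ normalizer (J : Set G) := by
    obtain ⟨B, hBA, hB, hgB⟩ := exists_line_not_mem h.toGSetup hg hg1
    haveI := (elementary_of_le h.elem hBA).1
    have hgf := theta_mem_family h.functor hg hg1
    refine LocalEven.le_of_centralizers_le (elementary_of_le h.elem hBA).2 hB.ge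
      (hBA.trans (fam_norm hgf)) (fam_not_dvd hgf) fun e he he1 x hx => ?_
    have heg : e ∉ zpowers g := fun hh =>
      hgB (zpowers_le.mpr he ((zpowers_eq_of_mem h.elem hg hh he1).ge (mem_zpowers g)))
    have hLA : zpowers g ⊔ zpowers e ≤ A := sup_le (zpowers_le.mpr hg) (zpowers_le.mpr (hBA he))
    have hxL : x ∈ centralizer ((zpowers g ⊔ zpowers e : Subgroup G) : Set G) :=
      le_centralizer_pair (X := θ g ⊓ centralizer ({e} : Set G))
        (inf_le_left.trans (theta_le_centralizer h.toGSetup hg hg1)) inf_le_right hx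
    set Jx := ⨆ f : {f : G // f ∈ zpowers g ⊔ zpowers e ∧ f ∉ zpowers g},
      ⁅θ (f : G), zpowers g⁆ with hJx
    have hJJ : Jx = J := by
      refine le_antisymm (iSup_le fun f => hJθ f (hLA f.2.1) fun e' => f.2.2 (e' ▸ one_mem _)) ?_
      refine comm_le_of_fixed (elementary_of_le h.elem hLA) (card_pair h.elem hg hg1 (hBA he) heg).ge
        hM.1.1 (fam_not_dvd hM.1) (hLA.trans (fam_norm hM.1)) (mem_sup_left (mem_zpowers g))
        fun f hf hfg => ?_
      exact (commutator_mono (fam_fix hM.1 (hLA hf) fun e' => hfg (e' ▸ one_mem _)) le_rfl).trans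
        (le_iSup (fun f : {f : G // f ∈ zpowers g ⊔ zpowers e ∧ f ∉ zpowers g} =>
          ⁅θ (f : G), zpowers g⁆) ⟨f, hf, hfg⟩)
    rw [← hJJ]
    refine mem_normalizer_of_forall_le fun y hy => ?_
    have hle : Jx ≤ Jx.comap (MulAut.conj x).toMonoidHom := iSup_le fun f z hz => by
      have hf1 : (f : G) ≠ 1 := fun e' => f.2.2 (e' ▸ one_mem _)
      have hxf : x ∈ θ (f : G) := fam_fix hgf (hLA f.2.1) hf1 ⟨hx.1,
        centralizer_le (Set.singleton_subset_iff.mpr f.2.1) hxL⟩
      have hn : x ∈ normalizer ((⁅θ (f : G), zpowers g⁆ : Subgroup G) : Set G) :=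
        inf_centralizer_le_normalizer_comm le_normalizer g
          ⟨hxf, theta_le_centralizer h.toGSetup hg hg1 hx.1⟩
      exact le_iSup (fun f : {f : G // f ∈ zpowers g ⊔ zpowers e ∧ f ∉ zpowers g} =>
        ⁅θ (f : G), zpowers g⁆) f ((mem_normalizer_iff.mp hn z).mp hz)
    exact hle hy
  have hθg : θ g ≤ M := by
    by_cases hJ1 : J = ⊥
    · exact (hM.eq (theta_mem_family h.functor hg hg1)
        (le_theta_of_centralizes hM.1 hg hg1 (comm_eq_bot_iff.mp hJ1))).ge
    · exact le_top_of_normalizes h hM (mem_comm h.toGSetup hM.1 hg) hJ1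
        (normalizer_commutator_ge_left _ _) (theta_mem_family h.functor hg hg1) hgJ
  obtain ⟨f, hf, hf1, hfM⟩ := exists_theta_not_le h hM.1
  have hfm := theta_mem_family h.functor hf hf1
  refine hfM ?_
  rw [← Core.commutator_sup_centralizer (A := zpowers g) (zpowers_le.mpr (fam_norm hfm hg))
    (by rw [Nat.card_zpowers]; exact coprime_orderOf h.toGSetup hfm hg) (Or.inl inferInstance)]
  refine sup_le (hcomm _ hfm) ?_
  rw [centralizer_zpowers]
  exact (fam_fix hfm hg hg1).trans hθg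

/-- Two points of each line have their values outside a given maximal member. -/
theorem two_outside (h : GHyp p A θ) (hM : IsTop p A θ M) {m : Subgroup G} (hm : m ≤ A)
    (hmc : Nat.card m = p ^ 2) {g : G} (hg : g ∈ A) (hg1 : g ≠ 1) :
    ∃ x ∈ m, x ≠ 1 ∧ x ∉ zpowers g ∧ ¬ θ x ≤ M := by
  obtain ⟨k, hk, hkc, hgk, hnle⟩ := line_criterion h hM hg hg1
  obtain ⟨x, ⟨hxm, hxk⟩, hx1⟩ := lines_meet h.elem h.card hm hk hmc hkc
  refine ⟨x, hxm, hx1, fun hxg => hgk ?_, fun hle => hnle ((inf_le_theta hxk hx1).trans hle)⟩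
  exact zpowers_le.mpr hxk ((zpowers_eq_of_mem h.elem hg hxg hx1).ge (mem_zpowers g))

/-- A value which is a maximal member: its operator centralises the members for its primes. -/
theorem singleton_centralizes (h : GHyp p A θ) (ha : a ∈ A) (ha1 : a ≠ 1)
    (hT : IsTop p A θ (θ a)) (hq : q.Prime) (hne : oq q (θ a) ≠ ⊥) (hY : Y ∈ Fam)
    (hYq : IsPGroup q Y) : Y ≤ centralizer ({a} : Set G) := by
  haveI := Fact.mk hq
  obtain ⟨P, hQP, hP⟩ := exists_maxMember (mem_oq hT.1 q) (oq_isPGroup q (θ a))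
  have hqp : q ≠ p := ne_p_of_dvd hT.1 (dvd_of_oq_ne_bot hq hne)
  have hcop : (orderOf a).Coprime q := by
    rw [elementary_orderOf h.elem ha ha1]
    exact (Nat.coprime_primes hp.out hq).mpr (Ne.symm hqp)
  have hcP : a ∈ centralizer (P : Set G) := by
    refine LocalEvenB.mem_centralizer_of_axb hcop hP.2.1 (oq_isPGroup q (θ a))
      (hQP.trans le_normalizer) (fam_norm hP.1 ha) ?_ ?_
    · exact mem_centralizer_iff.mpr fun y hy => mem_centralizer_singleton_iff.mp
        (theta_le_centralizer h.toGSetup ha ha1 (oq_le q _ hy))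
    · have hA : A ≤ normalizer (centralizer (oq q (θ a) : Set G) : Set G) :=
        (le_normalizer_oq_of (fam_norm hT.1) q).trans (normalizer_le_normalizer_centralizer_set _)
      exact mem_centralizer_iff.mpr fun y hy => mem_centralizer_singleton_iff.mp
        (theta_le_centralizer h.toGSetup ha ha1
          (le_top_of_centralizes_oq h hT hne (mem_inf hP.1 hA) inf_le_right hy))
  obtain ⟨Q, hYQ, hQ⟩ := exists_maxMember hY hYq
  obtain ⟨c, hc, rfl⟩ := transitivity h.elem h.card.ge h.functor hP hQ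
  refine hYQ.trans ?_
  rintro _ ⟨x, hx, rfl⟩
  have hca : c ∈ centralizer ({a} : Set G) :=
    theta_le_centralizer h.toGSetup ha ha1 (inf_le ha ha1 hc)
  have hxa : x ∈ centralizer ({a} : Set G) :=
    mem_centralizer_singleton_iff.mpr (mem_centralizer_iff.mp hcP x hx)
  exact mul_mem (mul_mem hca hxa) (inv_mem hca)

/-- Two values which are maximal members have no common core part. -/
theorem singleton_inter_false (h : GHyp p A θ) {e f : G} (he : e ∈ A) (he1 : e ≠ 1) (hf : f ∈ A)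
    (hf1 : f ≠ 1) (hTe : IsTop p A θ (θ e)) (hTf : IsTop p A θ (θ f)) (hfe : f ∉ zpowers e)
    (hq : q.Prime) (hne : oq q (θ e) ⊓ oq q (θ f) ≠ ⊥) : False := by
  haveI := Fact.mk hq
  by_cases heq : θ e = θ f
  · have hm := card_pair h.elem he he1 hf hfe
    have hmA : zpowers e ⊔ zpowers f ≤ A := sup_le (zpowers_le.mpr he) (zpowers_le.mpr hf)
    obtain ⟨x, hx, hx1, -, hnle⟩ := two_outside h hTe hmA hm he he1
    have hc : θ e ≤ centralizer ((zpowers e ⊔ zpowers f : Subgroup G) : Set G) :=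
      le_centralizer_pair (theta_le_centralizer h.toGSetup he he1)
        (heq ▸ theta_le_centralizer h.toGSetup hf hf1)
    exact hnle (hTe.eq (theta_mem_family h.functor (hmA hx) hx1)
      (le_theta_of_centralizes hTe.1 (hmA hx) hx1
        (hc.trans (centralizer_le (Set.singleton_subset_iff.mpr hx))))).ge
  have hQe : oq q (θ e) ≠ ⊥ := fun e' => hne (le_bot_iff.mp (inf_le_left.trans e'.le))
  have hQf : oq q (θ f) ≠ ⊥ := fun e' => hne (le_bot_iff.mp (inf_le_right.trans e'.le))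
  have hQef : oq q (θ e) ≤ θ f := le_theta_of_centralizes (mem_oq hTe.1 q) hf hf1
    (singleton_centralizes h hf hf1 hTf hq hQf (mem_oq hTe.1 q) (oq_isPGroup q _))
  set N₁ := ⁅θ f, zpowers e⁆ with hN₁
  have hN₁f : N₁ ∈ Fam := mem_comm h.toGSetup hTf.1 he
  have hN₁Q : N₁ ≤ centralizer (oq q (θ f) : Set G) :=
    comm_le_centralizer (mem_centralizer_iff.mpr fun y hy => mem_centralizer_singleton_iff.mp
      (singleton_centralizes h he he1 hTe hq hQe (mem_oq hTf.1 q) (oq_isPGroup q _) hy))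
      (le_normalizer_oq q _)
  set Z := oq q (θ e) ⊓ centralizer (N₁ : Set G) with hZ
  have hZ1 : Z ≠ ⊥ := ne_bot_of_le_ne_bot hne
    (le_inf inf_le_left (inf_le_right.trans (le_centralizer_iff.mp hN₁Q)))
  have hZA : A ≤ normalizer (Z : Set G) := le_normalizer_inf (le_normalizer_oq_of (fam_norm hTe.1) q)
    ((fam_norm hN₁f).trans (normalizer_le_normalizer_centralizer_set _))
  have hef : θ e ≤ normalizer (Z : Set G) := by
    rw [← Core.commutator_sup_centralizer (A := zpowers f) (zpowers_le.mpr (fam_norm hTe.1 hf))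
      (by rw [Nat.card_zpowers]; exact coprime_orderOf h.toGSetup hTe.1 hf) (Or.inl inferInstance)]
    refine sup_le ?_ ?_
    · refine (comm_le_centralizer ?_ (le_normalizer_oq q _)).trans
        ((centralizer_le (SetLike.coe_subset_coe.mpr inf_le_left)).trans (centralizer_le_normalizer _))
      exact mem_centralizer_iff.mpr fun y hy => mem_centralizer_singleton_iff.mp
        (theta_le_centralizer h.toGSetup hf hf1 (hQef hy))
    · rw [centralizer_zpowers]
      intro x hx
      have hxf : x ∈ θ f := fam_fix hTe.1 hf hf1 hx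
      exact inf_normalizer_le_normalizer_inf ⟨le_normalizer_oq q _ hx.1,
        normalizer_le_normalizer_centralizer_set _
          (normalizer_commutator_ge_left (θ f) (zpowers e) hxf)⟩
  have hle : N₁ ≤ θ e := le_top_of_normalizes h hTe (family_of_le (mem_oq hTe.1 q) inf_le_left hZA)
    hZ1 hef hN₁f ((le_centralizer_iff.mp inf_le_right).trans (centralizer_le_normalizer _))
  have hN1 : N₁ = ⊥ := by
    rw [hN₁, ← comm_idem h.toGSetup hTf.1 he, comm_eq_bot_iff]
    exact hle.trans (theta_le_centralizer h.toGSetup he he1)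
  exact heq (hTf.eq hTe.1 (le_theta_of_centralizes hTf.1 he he1 (comm_eq_bot_iff.mp hN1))).symm


theorem sup_line (hS : GSetup p A θ) (hm : m ≤ A) (hmc : Nat.card m = p ^ 2) (hy : y ∈ A)
    (hym : y ∉ m) : m ⊔ zpowers y = A := by
  have hy1 : y ≠ 1 := fun e => hym (e ▸ one_mem _)
  have hd : m ⊓ zpowers y = ⊥ := by
    refine (eq_bot_iff_forall _).mpr fun w hw => ?_
    by_contra hw1
    exact hym ((zpowers_le.mpr hw.1) ((zpowers_eq_of_mem hS.elem hy hw.2 hw1).ge (mem_zpowers y)))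
  refine eq_of_le_of_card_ge (sup_le hm (zpowers_le.mpr hy)) ?_
  have h := Core.card_sup_mul_card_inf m (zpowers y)
    (le_normalizer_of_le_elementary hS.elem hm (zpowers_le.mpr hy))
  rw [hd, card_bot, mul_one, hmc, Nat.card_zpowers, elementary_orderOf hS.elem hy hy1] at h
  rw [h, hS.card, pow_succ]

theorem le_centralizer_of_line (hS : GSetup p A θ) (hm : m ≤ A) (hmc : Nat.card m = p ^ 2)
    (hy : y ∈ A) (hym : y ∉ m) (h1 : X ≤ centralizer (m : Set G))
    (h2 : X ≤ centralizer ({y} : Set G)) (hz : z ∈ A) : X ≤ centralizer ({z} : Set G) := by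
  have h : A ≤ centralizer (X : Set G) := by
    rw [← sup_line hS hm hmc hy hym]
    exact sup_le (le_centralizer_iff.mp h1) (zpowers_le.mpr (mem_centralizer_of_le h2))
  exact fun w hw => mem_centralizer_singleton_iff.mpr (mem_centralizer_iff.mp (h hz) w hw)


end CfsgLib.Signalizer.Gen
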